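import Mathlib
import Cfsg.Agent.H380.UF.Rec_m3
import Cfsg.Agent.Lib.AltCarmichael
import Cfsg.Agent.Lib.DetFast
import Cfsg.Agent.H421.Act
import Cfsg.Agent.Lib.FieldFour
import Cfsg.Agent.H161.G2Emb
import Cfsg.Agent.H638.G2Iso
import Cfsg.Agent.H341.ThreeList_m3
import Cfsg.Agent.H829.FieldTypes
import Cfsg.Agent.H161.G2Main
import Cfsg.Agent.S2664
import Cfsg.Agent.S2121
import Cfsg.Agent.S1059
import Cfsg.Agent.H422.SzEight
import Cfsg.Agent.H426.SL2Orders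
import Cfsg.Agent.S0243
import Cfsg.Agent.S0813
import Cfsg.Agent.ClassicalGeometry.PSL2Basic
import Cfsg.Agent.H493.PGCount_m3
import Cfsg.Agent.FastGrp
import Cfsg.Agent.Prune
set_option linter.all false

section
prune_inst 0x7ff1b8f99fb8addfdfff7e77aedcdffdfbb9bfffe6dff9cbffe063ff0bdf4b06c9c56bad8fe8d0fc0ed6621410f87b13fdffceffea6bdc7ffffd5ff41ffbff9ffdf7b508519488340fbc0fff03f07f8e7f3fffffffffffffffffffffffffffbeffbfffffffff

-- part: H413/U45/ASeven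
section
prune_inst 0xe4704600452202000000851212000004640001900003000018c00e400b4e12220900260070903c00988a90805004002003100010420000000a0034004006002080ab5226b358ad0436000f807807180c00000000000000000000000000041004000000000
set_option linter.all false
open scoped Cfsg.Agent.FastGrp

/-!
# Modules for `A₇` on which the 7-cycles act fixed-point-freely (helper413)

`main` : if `A₇` acts on an abelian group `V` of exponent 2 or 5 and the 7-cycles have no nonzero fixed vector then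
`[V, x] ∩ [V, x'] = 0` for disjoint 3-cycles `x`, `x'`.

Proof: otherwise there is a vector `v ≠ 0` with `v + xv + x²v = 0`, `x'v = xv`, `nv = v` for `n = (0 1)(3 4)`; explicit
combinations of the sums `∑ g c^j h v` (which are zero) are `v`.
-/

set_option autoImplicit false
set_option maxRecDepth 1000000

namespace Cfsg.Agent.H413.U45.ASeven

/-- the group -/
abbrev A7 := alternatingGroup (Fin 7)

/-- entry of a list -/
def nth : List ℕ → ℕ → ℕ
  | [], _ => 0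
  | a :: _, 0 => a
  | _ :: l, n + 1 => nth l n

/-- the 7-cycle -/
def cL : List ℕ := [1, 2, 3, 4, 5, 6, 0]
/-- the first 3-cycle -/
def xL : List ℕ := [1, 2, 0, 3, 4, 5, 6]
/-- the second 3-cycle -/
def yL : List ℕ := [0, 1, 2, 4, 5, 3, 6]
/-- the involution -/
def nL : List ℕ := [1, 0, 2, 4, 3, 5, 6]
/-- the identity -/
def iL : List ℕ := [0, 1, 2, 3, 4, 5, 6]

/-- permutation from a pair of inverse lists -/
def perm (l m : List ℕ) (h : (∀ i : Fin 7, nth m (nth l i % 7) % 7 = i.val) ∧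
    ∀ i : Fin 7, nth l (nth m i % 7) % 7 = i.val) : Equiv.Perm (Fin 7) where
  toFun i := ⟨nth l i % 7, Nat.mod_lt _ (by norm_num)⟩
  invFun i := ⟨nth m i % 7, Nat.mod_lt _ (by norm_num)⟩
  left_inv i := Fin.ext (h.1 i)
  right_inv i := Fin.ext (h.2 i)

/-- the 7-cycle -/
def cA : A7 := ⟨perm cL [6, 0, 1, 2, 3, 4, 5] (by decide), Equiv.Perm.mem_alternatingGroup.2 (by decide +kernel)⟩
/-- the first 3-cycle -/
def xA : A7 := ⟨perm xL [2, 0, 1, 3, 4, 5, 6] (by decide), Equiv.Perm.mem_alternatingGroup.2 (by decide +kernel)⟩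
/-- the second 3-cycle -/
def yA : A7 := ⟨perm yL [0, 1, 2, 5, 3, 4, 6] (by decide), Equiv.Perm.mem_alternatingGroup.2 (by decide +kernel)⟩
/-- the involution -/
def nA : A7 := ⟨perm nL nL (by decide), Equiv.Perm.mem_alternatingGroup.2 (by decide +kernel)⟩

/-- the code of an element -/
def code (σ : A7) : List ℕ := (List.finRange 7).map fun i => (σ.1 i).val

/-- product of codes -/
def mulL (l m : List ℕ) : List ℕ := m.map (nth l)

theorem nth_code (σ : A7) (i : Fin 7) : nth (code σ) i = (σ.1 i).val := by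
  have : code σ = [(σ.1 0).val, (σ.1 1).val, (σ.1 2).val, (σ.1 3).val, (σ.1 4).val, (σ.1 5).val, (σ.1 6).val] := rfl
  rw [this]
  fin_cases i <;> rfl

theorem code_mul (σ τ : A7) : code (σ * τ) = mulL (code σ) (code τ) := by
  have h : mulL (code σ) (code τ) = ((List.finRange 7).map fun i => (τ.1 i).val).map (nth (code σ)) := rfl
  rw [h, List.map_map]
  apply List.map_congr_left
  intro i _
  exact (nth_code σ (τ.1 i)).symm

theorem code_inj {σ τ : A7} (h : code σ = code τ) : σ = τ := by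
  apply Subtype.ext
  apply Equiv.ext
  intro i
  apply Fin.ext
  rw [← nth_code, h, nth_code]

theorem code_c : code cA = cL := by decide +kernel
theorem code_x : code xA = xL := by decide +kernel
theorem code_n : code nA = nL := by decide +kernel
theorem code_one : code 1 = iL := by decide +kernel

/-- number of a list -/
def enc : List ℕ → ℕ
  | [] => 0
  | a :: l => a + 8 * enc l

theorem enc_inj : ∀ {l m : List ℕ}, l.length = m.length → (∀ a ∈ l, a < 8) → (∀ a ∈ m, a < 8) → enc l = enc m → l = m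
  | [], [], _, _, _, _ => rfl
  | [], _ :: _, h, _, _, _ => by simp at h
  | _ :: _, [], h, _, _, _ => by simp at h
  | a :: l, b :: m, h, hl, hm, he => by
    have ha := hl a List.mem_cons_self
    have hb := hm b List.mem_cons_self
    change a + 8 * enc l = b + 8 * enc m at he
    have h1 : a = b := by omega
    have h2 : enc l = enc m := by omega
    rw [h1, enc_inj (by simpa using h) (fun c hc => hl c (List.mem_cons_of_mem _ hc))
      (fun c hc => hm c (List.mem_cons_of_mem _ hc)) h2]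

theorem length_code (σ : A7) : (code σ).length = 7 := by simp [code]

theorem code_lt (σ : A7) : ∀ a ∈ code σ, a < 8 := by
  intro a ha
  obtain ⟨i, -, rfl⟩ := List.mem_map.1 ha
  have := (σ.1 i).isLt
  omega

theorem enc_code_inj {σ τ : A7} (h : enc (code σ) = enc (code τ)) : σ = τ :=
  code_inj (enc_inj (by rw [length_code, length_code]) (code_lt σ) (code_lt τ) h)

open Classical in
/-- the element with a given number -/
noncomputable def elt (e : ℕ) : A7 := if h : ∃ σ : A7, enc (code σ) = e then h.choose else 1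

theorem elt_enc (σ : A7) : elt (enc (code σ)) = σ := by
  have h : ∃ τ : A7, enc (code τ) = enc (code σ) := ⟨σ, rfl⟩
  unfold elt
  rw [dif_pos h]
  exact enc_code_inj h.choose_spec

/-! ### words -/

/-- word from its code -/
def bits : ℕ → ℕ → List Bool
  | 0, _ => []
  | f + 1, n => bif Nat.ble n 1 then [] else Nat.beq (n % 2) 1 :: bits f (n / 2)

/-- generators -/
def gen (b : Bool) : A7 := bif b then xA else cA

/-- code of a word -/
def wordL (w : List Bool) : List ℕ := w.foldr (fun b l => mulL (bif b then xL else cL) l) iL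

/-- element of a word -/
def wordA (w : List Bool) : A7 := w.foldr (fun b l => gen b * l) 1

theorem code_word (w : List Bool) : code (wordA w) = wordL w := by
  induction w with
  | nil => exact code_one
  | cons b w ih =>
    change code (gen b * wordA w) = mulL (bif b then xL else cL) (wordL w)
    rw [code_mul, ih]
    cases b
    · exact congrArg (fun l => mulL l _) code_c
    · exact congrArg (fun l => mulL l _) code_x

/-- rotation needed -/
def rot (a b c : ℕ) : ℕ := bif Nat.ble a b && Nat.ble a c then 0 else bif Nat.ble b c then 1 else 2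

/-- orientation -/
def ori (a b c : ℕ) : Bool := (Nat.ble b a ^^ Nat.ble c a) ^^ Nat.ble c b

/-- code of a power of `x` -/
def xpL (i : ℕ) : List ℕ := bif Nat.beq i 0 then iL else bif Nat.beq i 1 then xL else [2, 0, 1, 3, 4, 5, 6]
/-- code of a power of `y` -/
def ypL (i : ℕ) : List ℕ := bif Nat.beq i 0 then iL else bif Nat.beq i 1 then yL else [0, 1, 2, 5, 3, 4, 6]

theorem code_xp : ∀ i < 3, code (xA ^ i) = xpL i := by decide +kernel
theorem code_yp : ∀ i < 3, code (yA ^ i) = ypL i := by decide +kernel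

theorem rot_lt (a b c : ℕ) : rot a b c < 3 := by
  unfold rot
  cases (Nat.ble a b && Nat.ble a c) <;> cases Nat.ble b c <;> simp

/-- normal form -/
def nf (l : List ℕ) : ℕ × ℕ :=
  let l1 := bif ori (nth l 0) (nth l 1) (nth l 2) then mulL l nL else l
  let i := rot (nth l1 0) (nth l1 1) (nth l1 2)
  let j := rot (nth l1 3) (nth l1 4) (nth l1 5)
  (enc (mulL (mulL l1 (xpL i)) (ypL j)), 2 * (i + j) % 3)

section

variable {V : Type*} [AddCommGroup V]

theorem mul_ap (f g : AddMonoid.End V) (u : V) : (f * g) u = f (g u) := rfl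

variable (ρ : A7 →* AddMonoid.End V)

/-- special vectors -/
structure Spec (v : V) : Prop where
  s : v + ρ xA v + ρ xA (ρ xA v) = 0
  y : ρ yA v = ρ xA v
  n : ρ nA v = v

variable {ρ}

theorem x_cube : xA ^ 3 = 1 := code_inj (by decide +kernel)
theorem y_cube : yA ^ 3 = 1 := code_inj (by decide +kernel)
theorem xy_comm : xA * yA = yA * xA := code_inj (by decide +kernel)
theorem nn : nA * nA = 1 := code_inj (by decide +kernel)
theorem nx : nA * xA = xA * xA * nA := code_inj (by decide +kernel)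
theorem Spec.y_pow {v : V} (h : Spec ρ v) (j : ℕ) : ρ (yA ^ j) v = ρ (xA ^ j) v := by
  induction j with
  | zero => rw [pow_zero, pow_zero]
  | succ j ih =>
    have h1 : yA ^ (j + 1) = yA * yA ^ j := pow_succ' _ _
    have h2 : yA * xA ^ j = xA ^ j * yA := ((show Commute xA yA from xy_comm).pow_left j).symm
    rw [h1, map_mul, mul_ap, ih, ← mul_ap, ← map_mul, h2, map_mul, mul_ap, h.y, ← mul_ap, ← map_mul, ← pow_succ]

theorem x_mod {k l : ℕ} (h : k % 3 = l % 3) : xA ^ k = xA ^ l := by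
  rw [← Nat.div_add_mod k 3, ← Nat.div_add_mod l 3, h, pow_add, pow_add, pow_mul, pow_mul, x_cube, one_pow, one_pow]

/-- the value of a term -/
noncomputable def val (ρ : A7 →* AddMonoid.End V) (v : V) (t : ℕ × ℕ) : V := ρ (elt t.1) (ρ (xA ^ t.2) v)

theorem nf_spec {v : V} (h : Spec ρ v) (σ : A7) : val ρ v (nf (code σ)) = ρ σ v := by
  set l := code σ with hl
  -- the first step
  obtain ⟨τ, hτ, hτv⟩ : ∃ τ : A7, code τ = (bif ori (nth l 0) (nth l 1) (nth l 2) then mulL l nL else l) ∧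
      ρ τ v = ρ σ v := by
    cases ori (nth l 0) (nth l 1) (nth l 2)
    · exact ⟨σ, rfl, rfl⟩
    · refine ⟨σ * nA, ?_, ?_⟩
      · rw [code_mul, code_n]; rfl
      · rw [map_mul, mul_ap, h.n]
  set l1 := (bif ori (nth l 0) (nth l 1) (nth l 2) then mulL l nL else l) with hl1
  set i := rot (nth l1 0) (nth l1 1) (nth l1 2) with hi
  set j := rot (nth l1 3) (nth l1 4) (nth l1 5) with hj
  have h3 : nf l = (enc (mulL (mulL l1 (xpL i)) (ypL j)), 2 * (i + j) % 3) := rfl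
  have h4 : mulL (mulL l1 (xpL i)) (ypL j) = code (τ * xA ^ i * yA ^ j) := by
    rw [code_mul, code_mul, code_xp i (rot_lt _ _ _), code_yp j (rot_lt _ _ _), hτ]
  rw [h3, h4]
  unfold val
  rw [elt_enc]
  set k := 2 * (i + j) % 3 with hk
  have h5 : xA ^ (i + (k + j)) = xA ^ 0 := x_mod (by omega)
  have h6 : yA ^ j * xA ^ k = xA ^ k * yA ^ j := ((show Commute xA yA from xy_comm).pow_pow k j).symm.eq
  calc ρ (τ * xA ^ i * yA ^ j) (ρ (xA ^ k) v) = ρ (τ * xA ^ i * (yA ^ j * xA ^ k)) v := by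
        rw [← mul_ap, ← map_mul, mul_assoc (τ * xA ^ i)]
    _ = ρ (τ * xA ^ i * xA ^ k) (ρ (yA ^ j) v) := by rw [h6, ← mul_assoc, map_mul, mul_ap]
    _ = ρ (τ * xA ^ (i + (k + j))) v := by
        rw [h.y_pow, ← mul_ap, ← map_mul, pow_add, pow_add, mul_assoc, mul_assoc]
    _ = ρ σ v := by rw [h5, pow_zero, mul_one, hτv]

/-- the terms of one relation -/
def rterms (c : ℕ × ℕ × ℕ) : List (ℕ × ℕ) :=
  let g := wordL (bits 20 c.2.1)
  let h := wordL (bits 20 c.2.2)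
  (List.range 7).map fun j => nf (mulL g (h.map fun i => (i + j) % 7))

theorem code_c_pow : ∀ j < 7, ∀ i < 7, nth (code (cA ^ j)) i = (i + j) % 7 := by decide +kernel

theorem mulL_c {j : ℕ} (hj : j < 7) (σ : A7) : (code σ).map (fun i => (i + j) % 7) = code (cA ^ j * σ) := by
  rw [code_mul]
  unfold mulL
  apply List.map_congr_left
  intro a ha
  obtain ⟨i, -, rfl⟩ := List.mem_map.1 ha
  exact (code_c_pow j hj _ (σ.1 i).isLt).symm

theorem c_seven : cA ^ 7 = 1 := code_inj (by decide +kernel)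

theorem sum_orbit (h7 : ∀ v : V, ρ cA v = v → v = 0) (u : V) : ((List.range 7).map fun i => ρ (cA ^ i) u).sum = 0 := by
  apply h7
  have h1 : ρ (cA ^ 7) u = u := by rw [c_seven, map_one]; rfl
  rw [map_list_sum]
  simp only [List.range_succ, List.range_zero, List.nil_append, List.cons_append, List.map_cons, List.map_nil,
    List.sum_cons, List.sum_nil]
  simp only [← mul_ap, ← map_mul, ← pow_succ']
  norm_num only at *
  rw [h1]
  simp only [pow_zero, map_one, AddMonoid.End.one_apply]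
  abel

theorem rterms_sum (h7 : ∀ v : V, ρ cA v = v → v = 0) {v : V} (hv : Spec ρ v) (c : ℕ × ℕ × ℕ) :
    ((rterms c).map (val ρ v)).sum = 0 := by
  have h1 : (rterms c).map (val ρ v) =
      ((List.range 7).map fun j => ρ (cA ^ j) (ρ (wordA (bits 20 c.2.2)) v)).map (ρ (wordA (bits 20 c.2.1))) := by
    unfold rterms
    rw [List.map_map, List.map_map]
    apply List.map_congr_left
    intro j hj
    simp only [Function.comp]
    rw [← code_word, ← code_word, mulL_c (List.mem_range.1 hj), ← code_mul, nf_spec hv, map_mul, map_mul]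
    rfl
  rw [h1, ← map_list_sum, sum_orbit h7, map_zero]

/-- accumulated coefficients -/
abbrev Acc := List (ℕ × ℕ × ℕ × ℕ)

/-- insertion -/
def ins (a k i : ℕ) : Acc → Acc
  | [] => [(k, bif Nat.beq i 0 then a else 0, bif Nat.beq i 1 then a else 0, bif Nat.beq i 2 then a else 0)]
  | (k', x, y, z) :: l =>
    bif Nat.beq k k' then
      (bif Nat.beq i 0 then (k', x + a, y, z) :: l else bif Nat.beq i 1 then (k', x, y + a, z) :: l
        else (k', x, y, z + a) :: l)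
    else (k', x, y, z) :: ins a k i l

/-- value -/
noncomputable def ev (ρ : A7 →* AddMonoid.End V) (v : V) (t : ℕ × ℕ × ℕ × ℕ) : V :=
  t.2.1 • val ρ v (t.1, 0) + t.2.2.1 • val ρ v (t.1, 1) + t.2.2.2 • val ρ v (t.1, 2)

theorem ins_spec (v : V) (a k : ℕ) {i : ℕ} (hi : i < 3) (l : Acc) :
    ((ins a k i l).map (ev ρ v)).sum = a • val ρ v (k, i) + (l.map (ev ρ v)).sum := by
  induction l with
  | nil =>
    interval_cases i
    · change ((a • val ρ v (k, 0) + 0 • val ρ v (k, 1) + 0 • val ρ v (k, 2)) + 0 : V) = _ + 0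
      rw [zero_smul, zero_smul, add_zero, add_zero]
    · change ((0 • val ρ v (k, 0) + a • val ρ v (k, 1) + 0 • val ρ v (k, 2)) + 0 : V) = _ + 0
      rw [zero_smul, zero_smul, zero_add, add_zero]
    · change ((0 • val ρ v (k, 0) + 0 • val ρ v (k, 1) + a • val ρ v (k, 2)) + 0 : V) = _ + 0
      rw [zero_smul, zero_smul, zero_add, zero_add]
  | cons p l ih =>
    obtain ⟨k', x, y, z⟩ := p
    unfold ins
    cases hk : Nat.beq k k' with
    | false =>
      rw [cond_false, List.map_cons, List.sum_cons, ih, List.map_cons, List.sum_cons]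
      abel
    | true =>
      have hk' : k = k' := Nat.eq_of_beq_eq_true hk
      subst hk'
      rw [cond_true, List.map_cons, List.sum_cons]
      interval_cases i
      · change (((x + a) • val ρ v (k, 0) + y • val ρ v (k, 1) + z • val ρ v (k, 2)) + (l.map (ev ρ v)).sum : V) = _
        rw [add_smul]
        change _ = _ + ((x • val ρ v (k, 0) + y • val ρ v (k, 1) + z • val ρ v (k, 2)) + _)
        abel
      · change ((x • val ρ v (k, 0) + (y + a) • val ρ v (k, 1) + z • val ρ v (k, 2)) + (l.map (ev ρ v)).sum : V) = _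
        rw [add_smul]
        change _ = _ + ((x • val ρ v (k, 0) + y • val ρ v (k, 1) + z • val ρ v (k, 2)) + _)
        abel
      · change ((x • val ρ v (k, 0) + y • val ρ v (k, 1) + (z + a) • val ρ v (k, 2)) + (l.map (ev ρ v)).sum : V) = _
        rw [add_smul]
        change _ = _ + ((x • val ρ v (k, 0) + y • val ρ v (k, 1) + z • val ρ v (k, 2)) + _)
        abel

/-- accumulation of the terms of a relation -/
def addR (a : ℕ) (l : List (ℕ × ℕ)) (acc : Acc) : Acc := l.foldr (fun t s => ins a t.1 t.2 s) acc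

theorem addR_spec (v : V) (a : ℕ) (l : List (ℕ × ℕ)) (hl : ∀ t ∈ l, t.2 < 3) (acc : Acc) :
    ((addR a l acc).map (ev ρ v)).sum = a • (l.map (val ρ v)).sum + (acc.map (ev ρ v)).sum := by
  induction l with
  | nil => rw [List.map_nil, List.sum_nil, smul_zero, zero_add]; rfl
  | cons t l ih =>
    have h1 : addR a (t :: l) acc = ins a t.1 t.2 (addR a l acc) := rfl
    rw [h1, ins_spec v a t.1 (hl t List.mem_cons_self), ih fun s hs => hl s (List.mem_cons_of_mem _ hs),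
      List.map_cons, List.sum_cons, smul_add, add_assoc]

/-- total -/
def total (p : ℕ) (L : List (ℕ × ℕ × ℕ)) : Acc :=
  L.foldr (fun c s => addR c.1 (rterms c) s) [(enc iL, p - 1, 0, 0)]

theorem rterms_lt (c : ℕ × ℕ × ℕ) : ∀ t ∈ rterms c, t.2 < 3 := by
  intro t ht
  obtain ⟨j, -, rfl⟩ := List.mem_map.1 ht
  exact Nat.mod_lt _ (by norm_num)

theorem total_spec (h7 : ∀ v : V, ρ cA v = v → v = 0) {v : V} (hv : Spec ρ v) (p : ℕ) (L : List (ℕ × ℕ × ℕ)) :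
    ((total p L).map (ev ρ v)).sum = (p - 1) • v := by
  induction L with
  | nil =>
    change ((p - 1) • val ρ v (enc iL, 0) + 0 • val ρ v (enc iL, 1) + 0 • val ρ v (enc iL, 2)) + 0 = (p - 1) • v
    have h1 : val ρ v (enc iL, 0) = v := by
      unfold val
      have h2 : elt (enc iL) = 1 := by rw [← code_one, elt_enc]
      simp only [h2, pow_zero, map_one]
      rfl
    rw [h1, zero_smul, zero_smul, add_zero, add_zero, add_zero]
  | cons c L ih =>
    have h1 : total p (c :: L) = addR c.1 (rterms c) (total p L) := rfl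
    rw [h1, addR_spec v _ _ (rterms_lt c), ih, rterms_sum h7 hv, smul_zero, zero_add]

/-- the check -/
def ok (p : ℕ) (L : List (ℕ × ℕ × ℕ)) : Bool :=
  (total p L).all fun t => Nat.beq (t.2.1 % p) (t.2.2.1 % p) && Nat.beq (t.2.2.1 % p) (t.2.2.2 % p)

theorem smul_mod {p : ℕ} (hp : ∀ v : V, p • v = 0) (a : ℕ) (w : V) : a • w = (a % p) • w := by
  conv_lhs => rw [← Nat.div_add_mod a p]
  rw [add_smul, mul_smul, hp, zero_add]

theorem eq_zero_of_ok {p : ℕ} (hp0 : 0 < p) (hp : ∀ v : V, p • v = 0) (h7 : ∀ v : V, ρ cA v = v → v = 0) {v : V}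
    (hv : Spec ρ v) {L : List (ℕ × ℕ × ℕ)} (hL : ok p L = true) : v = 0 := by
  have h1 := total_spec h7 hv p L
  have h2 : ((total p L).map (ev ρ v)).sum = 0 := by
    apply List.sum_eq_zero
    intro w hw
    obtain ⟨t, ht, rfl⟩ := List.mem_map.1 hw
    have h3 := List.all_eq_true.1 hL t ht
    rw [Bool.and_eq_true] at h3
    have h4 := Nat.eq_of_beq_eq_true h3.1
    have h5 := Nat.eq_of_beq_eq_true h3.2
    unfold ev
    rw [smul_mod hp t.2.1, smul_mod hp t.2.2.1, smul_mod hp t.2.2.2, h4, h5, ← smul_add, ← smul_add]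
    unfold val
    have h6 := hv.s
    simp only [pow_zero, map_one, pow_one, pow_two, map_mul]
    rw [← map_add, ← map_add]
    change _ • ρ (elt t.1) (v + ρ xA v + ρ xA (ρ xA v)) = 0
    rw [h6, map_zero, smul_zero]
  rw [h2] at h1
  have h3 : p • v = (p - 1) • v + v := by
    rw [← succ_nsmul, Nat.sub_add_cancel hp0]
  rw [hp, ← h1, zero_add] at h3
  exact h3.symm

end

/-- certificate for characteristic 2 -/
def cert2 : List (ℕ × ℕ × ℕ) :=
  [(1, 396, 283), (1, 818, 133), (1, 429, 1377), (1, 226, 283), (1, 451, 1451), (1, 209, 147), (1, 56, 2737),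
  (1, 3269, 929), (1, 405, 133), (1, 418, 133), (1, 6, 3509), (1, 1620, 217), (1, 388, 1441), (1, 933, 37),
  (1, 25, 4459), (1, 112, 365), (1, 1622, 81), (1, 227, 929), (1, 56, 1387), (1, 106, 1307), (1, 3115, 81),
  (1, 921, 67), (1, 465, 1579), (1, 395, 3377), (1, 389, 1579), (1, 780, 35), (1, 388, 67), (1, 1574, 17),
  (1, 3155, 51), (1, 1589, 365), (1, 790, 237), (1, 50, 2713), (1, 1, 283), (1, 194, 1733), (1, 214, 6285),
  (1, 475, 229), (1, 226, 3377), (1, 392, 1441), (1, 205, 217), (1, 1745, 1), (1, 394, 4459), (1, 467, 35),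
  (1, 3178, 1377), (1, 933, 57), (1, 851, 19), (1, 1898, 35), (1, 845, 19), (1, 780, 1733), (1, 909, 1),
  (1, 1754, 51), (1, 780, 1377), (1, 1898, 33), (1, 781, 33), (1, 27, 1579), (1, 1571, 81), (1, 106, 35),
  (1, 1817, 2713), (1, 851, 57), (1, 1562, 33), (1, 408, 57), (1, 468, 1377), (1, 58, 7473), (1, 7595, 19),
  (1, 426, 217), (1, 12, 283), (1, 418, 365), (1, 779, 1377), (1, 6251, 35), (1, 3162, 19), (1, 1734, 17),
  (1, 115, 133), (1, 104, 51), (1, 59, 1689), (1, 787, 57), (1, 393, 237), (1, 7451, 19), (1, 396, 2737),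
  (1, 109, 51), (1, 98, 19), (1, 856, 1689), (1, 101, 3499), (1, 437, 1), (1, 48, 4459), (1, 474, 365)]

/-- certificate for characteristic 5 -/
def cert5 : List (ℕ × ℕ × ℕ) :=
  [(2, 396, 2737), (3, 1882, 17), (2, 1713, 19), (4, 229, 613), (4, 218, 81), (1, 51, 1377), (3, 58, 35),
  (4, 6, 2221), (4, 25, 1681), (3, 844, 35), (4, 1893, 81), (3, 417, 67), (2, 52, 1441), (2, 794, 57),
  (1, 213, 57), (2, 1817, 81), (4, 859, 237), (4, 227, 283), (3, 1714, 59), (4, 908, 3499), (1, 867, 1441),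
  (1, 777, 3425), (2, 390, 17), (3, 474, 147), (3, 388, 1377), (2, 786, 17), (3, 856, 37), (3, 3720, 57),
  (4, 1633, 237), (2, 409, 929), (4, 1, 57), (4, 3437, 57), (4, 1562, 237), (3, 25, 11691), (3, 3497, 33),
  (2, 1814, 237), (1, 27, 37), (3, 438, 283), (4, 854, 217), (4, 818, 1), (1, 3376, 1), (3, 946, 35),
  (3, 844, 929), (3, 54, 1), (3, 99, 1689), (2, 1731, 81), (3, 56, 1579), (1, 57, 1441), (3, 1558, 1689),
  (1, 392, 3499), (2, 3, 1), (4, 27, 1579), (4, 116, 1451), (1, 58, 217), (4, 57, 59), (2, 98, 59),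
  (4, 468, 37), (1, 411, 81), (2, 192, 7473), (2, 3267, 67), (4, 102, 17), (2, 818, 1387), (3, 930, 67),
  (2, 429, 1441), (1, 458, 59), (2, 816, 59), (3, 107, 7473), (2, 118, 217), (1, 461, 3499), (1, 396, 37),
  (2, 1635, 1689), (4, 470, 1), (2, 204, 283), (4, 117, 147), (3, 97, 2713), (4, 1817, 1441), (1, 6838, 67),
  (2, 421, 81), (4, 818, 1441), (1, 3670, 37), (4, 454, 217), (3, 428, 67), (2, 411, 3435), (4, 773, 67),
  (2, 3468, 81), (2, 793, 1441), (3, 52, 37), (2, 6251, 1689), (3, 1816, 51), (2, 49, 2713), (4, 226, 929),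
  (2, 115, 37), (1, 438, 59), (3, 945, 779), (2, 3155, 81), (2, 214, 3435), (1, 233, 57), (4, 6850, 1387),
  (3, 3681, 81), (3, 102, 779), (3, 117, 237), (3, 426, 1), (3, 1715, 147), (2, 921, 17), (4, 195, 6929),
  (3, 790, 1), (4, 213, 3425), (3, 7510, 19), (3, 102, 1451), (1, 1558, 237), (1, 14, 3499), (4, 454, 1291),
  (3, 1748, 17), (2, 386, 1689), (4, 789, 67), (4, 395, 2737), (4, 6, 2603), (4, 388, 133), (2, 1732, 33),
  (1, 779, 67), (3, 396, 57), (4, 219, 57), (1, 923, 81), (4, 939, 37), (3, 99, 1377), (2, 226, 205),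
  (3, 857, 217), (4, 858, 1579), (4, 106, 7473), (3, 3467, 57), (3, 3155, 3425), (4, 1, 1291), (3, 197, 1579),
  (1, 3750, 35), (3, 858, 237), (1, 473, 17), (1, 917, 365), (4, 842, 3425), (4, 7515, 67), (4, 872, 1),
  (3, 24, 2403), (2, 388, 2737), (1, 944, 57), (3, 454, 1451), (1, 3, 2477), (1, 27419, 17), (3, 1818, 81),
  (2, 3682, 17), (1, 779, 2603), (4, 49, 59), (4, 854, 59), (1, 236, 67), (1, 939, 365), (2, 97, 937),
  (3, 1819, 19), (4, 1708, 237), (3, 213, 937), (2, 115, 779), (2, 6246, 217), (4, 838, 283), (1, 810, 67),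
  (4, 192, 3377), (3, 3, 1197), (2, 196, 19), (1, 460, 35), (2, 907, 81), (2, 49, 357), (1, 1578, 1),
  (1, 1555, 19), (2, 196, 1689), (2, 1634, 33), (4, 438, 3425), (2, 26, 1377), (1, 404, 1689), (2, 436, 17),
  (4, 461, 217), (4, 198, 229), (3, 420, 365), (3, 54, 1377), (4, 793, 147), (4, 1618, 929), (3, 779, 779),
  (3, 404, 67)]

private noncomputable def fK (x : ℕ) (k : ℕ → Bool) : Bool :=
  Nat.rec (motive := fun _ => Bool) (k 0) (fun n _ => k (Nat.succ n)) x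

private theorem fK_eq (x : ℕ) (k : ℕ → Bool) : fK x k = k x := by cases x <;> rfl

private noncomputable def insK (a k i : ℕ) (L : Acc) : (Acc → Bool) → Bool :=
  List.rec (motive := fun _ => (Acc → Bool) → Bool)
    (fun c => c [(k, bif Nat.beq i 0 then a else 0, bif Nat.beq i 1 then a else 0, bif Nat.beq i 2 then a else 0)])
    (fun e l ih c => Prod.rec (motive := fun _ => Bool) (fun k' r =>
      Bool.rec (motive := fun _ => Bool) (ih fun t => c (e :: t))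
        (bif Nat.beq i 0 then fK (r.1 + a) fun x => c ((k', x, r.2) :: l)
          else bif Nat.beq i 1 then fK (r.2.1 + a) fun y => c ((k', r.1, y, r.2.2) :: l)
          else fK (r.2.2 + a) fun z => c ((k', r.1, r.2.1, z) :: l)) (Nat.beq k k')) e) L

private theorem insK_eq (a k i : ℕ) (L : Acc) : ∀ c, insK a k i L c = c (ins a k i L) := by
  induction L with
  | nil => exact fun _ => rfl
  | cons e l ih =>
    intro c
    obtain ⟨k', x, y, z⟩ := e
    show Bool.rec (motive := fun _ => Bool) (insK a k i l fun t => c ((k', x, y, z) :: t))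
        (bif Nat.beq i 0 then fK (x + a) fun x => c ((k', x, y, z) :: l)
          else bif Nat.beq i 1 then fK (y + a) fun y => c ((k', x, y, z) :: l)
          else fK (z + a) fun z => c ((k', x, y, z) :: l)) (Nat.beq k k') =
      c (bif Nat.beq k k' then (bif Nat.beq i 0 then (k', x + a, y, z) :: l else bif Nat.beq i 1 then (k', x, y + a, z) :: l
        else (k', x, y, z + a) :: l) else (k', x, y, z) :: ins a k i l)
    rw [ih, fK_eq, fK_eq, fK_eq]
    cases Nat.beq k k'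
    · rfl
    · cases Nat.beq i 0 <;> cases Nat.beq i 1 <;> rfl

private def r3 (i a b c : ℕ) (k : ℕ → ℕ → ℕ → ℕ) : ℕ :=
  bif Nat.beq i 0 then k a b c else bif Nat.beq i 1 then k b c a else k c a b

private def nf2 (a b c d e f g : ℕ) : ℕ × ℕ :=
  (r3 (rot a b c) a b c fun x y z => r3 (rot d e f) d e f fun u v w =>
    Nat.add x (Nat.mul 8 (Nat.add y (Nat.mul 8 (Nat.add z (Nat.mul 8 (Nat.add u (Nat.mul 8 (Nat.add v (Nat.mul 8
      (Nat.add w (Nat.mul 8 g))))))))))), 2 * (rot a b c + rot d e f) % 3)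

private def nfK (a b c d e f g : ℕ) : ℕ × ℕ := bif ori a b c then nf2 b a c e d f g else nf2 a b c d e f g

private theorem nf2_eq (a b c d e f g : ℕ) : (enc (mulL (mulL [a, b, c, d, e, f, g] (xpL (rot a b c))) (ypL (rot d e f))),
    2 * (rot a b c + rot d e f) % 3) = nf2 a b c d e f g := by
  delta nf2 r3 xpL ypL
  generalize rot a b c = i
  generalize rot d e f = j
  cases Nat.beq i 0 <;> cases Nat.beq i 1 <;> cases Nat.beq j 0 <;> cases Nat.beq j 1 <;> rfl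

private theorem nfK_eq (a b c d e f g : ℕ) : nf [a, b, c, d, e, f, g] = nfK a b c d e f g := by
  delta nf nfK
  show (let l1 := bif ori a b c then [b, a, c, e, d, f, g] else [a, b, c, d, e, f, g]
    (enc (mulL (mulL l1 (xpL (rot (nth l1 0) (nth l1 1) (nth l1 2)))) (ypL (rot (nth l1 3) (nth l1 4) (nth l1 5)))),
      2 * (rot (nth l1 0) (nth l1 1) (nth l1 2) + rot (nth l1 3) (nth l1 4) (nth l1 5)) % 3)) = _
  cases ori a b c
  · exact nf2_eq a b c d e f g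
  · exact nf2_eq b a c e d f g

private abbrev K7 : Type := ℕ → ℕ → ℕ → ℕ → ℕ → ℕ → ℕ → Bool

private noncomputable def mpK (t : ℕ → ℕ) (a b c d e f g : ℕ) (k : K7) : Bool :=
  fK (t a) fun a => fK (t b) fun b => fK (t c) fun c => fK (t d) fun d => fK (t e) fun e => fK (t f) fun f =>
    fK (t g) fun g => k a b c d e f g

private theorem mpK_eq (t : ℕ → ℕ) (a b c d e f g : ℕ) (k : K7) :
    mpK t a b c d e f g k = k (t a) (t b) (t c) (t d) (t e) (t f) (t g) := by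
  simp only [mpK, fK_eq]

private noncomputable def wdK (w : List Bool) : K7 → Bool :=
  List.rec (motive := fun _ => K7 → Bool) (fun k => k 0 1 2 3 4 5 6) (fun x _ ih k => ih fun a b c d e f g =>
    Bool.rec (motive := fun _ => Bool) (mpK (nth cL) a b c d e f g k) (mpK (nth xL) a b c d e f g k) x) w

private theorem wdK_eq (w : List Bool) : ∃ a b c d e f g, wordL w = [a, b, c, d, e, f, g] ∧
    ∀ k, wdK w k = k a b c d e f g := by
  induction w with
  | nil => exact ⟨0, 1, 2, 3, 4, 5, 6, rfl, fun _ => rfl⟩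
  | cons x w ih =>
    obtain ⟨a, b, c, d, e, f, g, h1, h2⟩ := ih
    have h3 : wordL (x :: w) = mulL (bif x then xL else cL) (wordL w) := rfl
    rw [h1] at h3
    cases x
    · exact ⟨_, _, _, _, _, _, _, h3, fun k => (h2 _).trans (mpK_eq _ _ _ _ _ _ _ _ k)⟩
    · exact ⟨_, _, _, _, _, _, _, h3, fun k => (h2 _).trans (mpK_eq _ _ _ _ _ _ _ _ k)⟩

private noncomputable def addK (n : ℕ) (t : ℕ → ℕ) (a b c d e f g : ℕ) (J : List ℕ) (s : Acc) : (Acc → Bool) → Bool :=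
  List.rec (motive := fun _ => (Acc → Bool) → Bool) (fun k => k s)
    (fun j _ ih k => ih fun s' => mpK (fun i => t ((i + j) % 7)) a b c d e f g fun a b c d e f g =>
      fK (nfK a b c d e f g).1 fun x => fK (nfK a b c d e f g).2 fun i => insK n x i s' k) J

private theorem addK_eq (n : ℕ) (l : List ℕ) (a b c d e f g : ℕ) (J : List ℕ) (s : Acc) :
    ∀ k, addK n (nth l) a b c d e f g J s k =
      k (addR n (J.map fun j => nf (mulL l ([a, b, c, d, e, f, g].map fun i => (i + j) % 7))) s) := by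
  induction J with
  | nil => exact fun _ => rfl
  | cons j J ih =>
    intro k
    refine (ih _).trans ?_
    rw [mpK_eq, fK_eq, fK_eq, insK_eq, ← nfK_eq]
    rfl

private noncomputable def totK (p : ℕ) (L : List (ℕ × ℕ × ℕ)) : (Acc → Bool) → Bool :=
  List.rec (motive := fun _ => (Acc → Bool) → Bool) (fun c => c [(enc iL, p - 1, 0, 0)])
    (fun x _ ih k => ih fun s => fK x.1 fun n => wdK (bits 20 x.2.1) fun a b c d e f g => wdK (bits 20 x.2.2)
      fun a' b' c' d' e' f' g' => addK n (nth [a, b, c, d, e, f, g]) a' b' c' d' e' f' g' [0, 1, 2, 3, 4, 5, 6] s k) L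

private theorem totK_eq (p : ℕ) (L : List (ℕ × ℕ × ℕ)) : ∀ c, totK p L c = c (total p L) := by
  induction L with
  | nil => exact fun _ => rfl
  | cons x L ih =>
    intro k
    refine (ih _).trans ?_
    obtain ⟨a, b, c, d, e, f, g, h1, h2⟩ := wdK_eq (bits 20 x.2.1)
    obtain ⟨a', b', c', d', e', f', g', h3, h4⟩ := wdK_eq (bits 20 x.2.2)
    rw [fK_eq, h2, h4, addK_eq, ← h1, ← h3]
    rfl

private theorem ok_of {p : ℕ} {L : List (ℕ × ℕ × ℕ)} (h : totK p L (fun s => s.all fun t =>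
    Nat.beq (t.2.1 % p) (t.2.2.1 % p) && Nat.beq (t.2.2.1 % p) (t.2.2.2 % p)) = true) : ok p L = true :=
  (totK_eq p L _).symm.trans h

theorem ok2 : ok 2 cert2 = true := ok_of (by decide +kernel)
theorem ok5 : ok 5 cert5 = true := ok_of (by decide +kernel)

/-- the element of order 4 exchanging the two 3-cycles -/
def mA : A7 := ⟨perm [3, 4, 5, 0, 2, 1, 6] [3, 5, 4, 0, 1, 2, 6] (by decide),
  Equiv.Perm.mem_alternatingGroup.2 (by decide +kernel)⟩

theorem xn : xA * nA = nA * (xA * xA) := code_inj (by decide +kernel)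
theorem yn : yA * nA = nA * (yA * yA) := code_inj (by decide +kernel)
theorem xm : xA * mA = mA * (yA * yA) := code_inj (by decide +kernel)
theorem ym : yA * mA = mA * xA := code_inj (by decide +kernel)

section

variable {V : Type*} [AddCommGroup V] {ρ : A7 →* AddMonoid.End V}

theorem eq_zero_spec {p : ℕ} (hp0 : p = 2 ∨ p = 5) (hp : ∀ v : V, p • v = 0) (h7 : ∀ v : V, ρ cA v = v → v = 0)
    {v : V} (hv : Spec ρ v) : v = 0 := by
  rcases hp0 with rfl | rfl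
  · exact eq_zero_of_ok (by norm_num) hp h7 hv ok2
  · exact eq_zero_of_ok (by norm_num) hp h7 hv ok5

theorem ap_eq {a b c d : A7} (h : a * b = c * d) (v : V) : ρ a (ρ b v) = ρ c (ρ d v) := by
  rw [← mul_ap, ← map_mul, h, map_mul, mul_ap]

theorem ap_mul (a b : A7) (v : V) : ρ (a * b) v = ρ a (ρ b v) := by rw [map_mul, mul_ap]

theorem xxx (v : V) : ρ xA (ρ xA (ρ xA v)) = v := by
  rw [← ap_mul, ← ap_mul]
  have h : xA * (xA * xA) = 1 := by rw [← x_cube, pow_succ, pow_two, mul_assoc]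
  rw [← mul_assoc] at h
  rw [h, map_one]; rfl

theorem eq_zero_same {p : ℕ} (hp0 : p = 2 ∨ p = 5) (hp : ∀ v : V, p • v = 0) (h7 : ∀ v : V, ρ cA v = v → v = 0)
    {w : V} (h1 : w + ρ xA w + ρ xA (ρ xA w) = 0) (h2 : ρ yA w = ρ xA w) : w = 0 := by
  have key : ∀ w : V, w + ρ xA w + ρ xA (ρ xA w) = 0 → ρ yA w = ρ xA w → w + ρ nA w = 0 := by
    intro w h1 h2
    apply eq_zero_spec hp0 hp h7
    have e1 : ρ xA (ρ nA w) = ρ nA (ρ xA (ρ xA w)) := by rw [ap_eq xn, ap_mul]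
    have e2 : ρ nA (ρ xA w) = ρ xA (ρ xA (ρ nA w)) := by
      rw [← ap_mul, nx, ap_mul, ap_mul]
    have e3 : ρ yA (ρ nA w) = ρ nA (ρ yA (ρ yA w)) := by rw [ap_eq yn, ap_mul]
    refine ⟨?_, ?_, ?_⟩
    · rw [map_add, map_add, ← e2, e1]
      have e4 : w + ρ nA w + (ρ xA w + ρ nA (ρ xA (ρ xA w))) + (ρ xA (ρ xA w) + ρ nA (ρ xA w)) =
          (w + ρ xA w + ρ xA (ρ xA w)) + ρ nA (w + ρ xA w + ρ xA (ρ xA w)) := by
        rw [map_add, map_add]; abel
      rw [e4, h1, map_zero, add_zero]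
    · rw [map_add, map_add, e3, e1, h2, ap_eq xy_comm.symm, h2]
    · rw [map_add, ← ap_mul, nn, map_one]
      exact add_comm _ _
  have h3 := key w h1 h2
  have h4 : ρ xA w + ρ xA (ρ xA w) + ρ xA (ρ xA (ρ xA w)) = 0 := by
    rw [← map_add, ← map_add, h1, map_zero]
  have h5 : ρ yA (ρ xA w) = ρ xA (ρ xA w) := by rw [ap_eq xy_comm.symm, h2]
  have h6 := key (ρ xA w) h4 h5
  have h7' : ρ nA (ρ xA w) = ρ xA (ρ xA (ρ nA w)) := by rw [← ap_mul, nx, ap_mul, ap_mul]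
  have h8 : ρ nA w = -w := (neg_eq_of_add_eq_zero_right h3).symm
  rw [h7', h8, map_neg, map_neg] at h6
  have h9 : ρ xA w = ρ xA (ρ xA w) := by
    rw [← sub_eq_add_neg, sub_eq_zero] at h6
    exact h6
  have h10 : ρ xA (ρ xA w) = w := by
    have := congrArg (fun u => ρ xA u) h9
    simp only [xxx] at this
    exact this
  rw [h9.trans h10, h9.trans h10] at h1
  have h3w : (3 : ℕ) • w = 0 := by
    rw [show (3 : ℕ) = 1 + 1 + 1 from rfl, add_smul, add_smul, one_smul]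
    exact h1
  rcases hp0 with rfl | rfl
  · have h2w := hp w
    have : (3 : ℕ) • w = 2 • w + w := by rw [show (3 : ℕ) = 2 + 1 from rfl, add_smul, one_smul]
    rw [this, h2w, zero_add] at h3w
    exact h3w
  · have h5w := hp w
    have : (6 : ℕ) • w = 5 • w + w := by rw [show (6 : ℕ) = 5 + 1 from rfl, add_smul, one_smul]
    rw [h5w, zero_add, show (6 : ℕ) = 2 * 3 from rfl, mul_smul, h3w, smul_zero] at this
    exact this.symm

theorem eq_zero_inv {p : ℕ} (hp0 : p = 2 ∨ p = 5) (hp : ∀ v : V, p • v = 0) (h7 : ∀ v : V, ρ cA v = v → v = 0)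
    {w : V} (h1 : w + ρ xA w + ρ xA (ρ xA w) = 0) (h2 : ρ yA w = ρ xA (ρ xA w)) : w = 0 := by
  have e0 : ρ yA (ρ yA w) = ρ xA w := by
    rw [h2, ap_eq xy_comm.symm, ap_eq xy_comm.symm, h2, xxx]
  have e1 : ρ xA (ρ mA w) = ρ mA (ρ xA w) := by rw [ap_eq xm, ap_mul, e0]
  have e2 : ρ yA (ρ mA w) = ρ mA (ρ xA w) := ap_eq ym w
  have e3 : ρ xA (ρ mA (ρ xA w)) = ρ mA (ρ xA (ρ xA w)) := by
    rw [ap_eq xm, ap_mul, ap_eq xy_comm.symm, ap_eq xy_comm.symm, e0]
  have h3 : ρ mA w = 0 := by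
    apply eq_zero_same hp0 hp h7
    · rw [e1, e3, ← map_add, ← map_add, h1, map_zero]
    · rw [e2, e1]
  have h4 : ρ mA⁻¹ (ρ mA w) = w := by
    rw [← ap_mul, inv_mul_cancel, map_one]; rfl
  rw [← h4, h3, map_zero]

/-- **Modules for `A₇` in characteristic 2 and 5 without fixed points of the 7-cycles.** -/
theorem main {p : ℕ} (hp0 : p = 2 ∨ p = 5) (hp : ∀ v : V, p • v = 0) (h7 : ∀ v : V, ρ cA v = v → v = 0)
    {w : V} (h1 : w + ρ xA w + ρ xA (ρ xA w) = 0) (h2 : w + ρ yA w + ρ yA (ρ yA w) = 0) : w = 0 := by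
  have h3 : ρ yA w - ρ xA (ρ xA w) = 0 := by
    apply eq_zero_same hp0 hp h7
    · rw [map_sub, map_sub, xxx, ap_eq xy_comm, ap_eq xy_comm]
      have e1 : ρ yA w - ρ xA (ρ xA w) + (ρ yA (ρ xA w) - w) + (ρ yA (ρ xA (ρ xA w)) - ρ xA w) =
          ρ yA (w + ρ xA w + ρ xA (ρ xA w)) - (w + ρ xA w + ρ xA (ρ xA w)) := by
        rw [map_add, map_add]; abel
      rw [e1, h1, map_zero, sub_zero]
    · rw [map_sub, map_sub, xxx, ap_eq xy_comm, ap_eq xy_comm.symm, ap_eq xy_comm.symm, ← sub_eq_zero]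
      have e1 : ρ yA (ρ yA w) - ρ xA (ρ xA (ρ yA w)) - (ρ xA (ρ yA w) - w) =
          (w + ρ yA w + ρ yA (ρ yA w)) - (ρ yA w + ρ xA (ρ yA w) + ρ xA (ρ xA (ρ yA w))) := by abel
      have e2 : ρ xA (ρ xA (ρ yA w)) = ρ yA (ρ xA (ρ xA w)) := by rw [ap_eq xy_comm, ap_eq xy_comm]
      have e3 : ρ xA (ρ yA w) = ρ yA (ρ xA w) := ap_eq xy_comm w
      rw [e1, h2, e2, e3, ← map_add, ← map_add, h1, map_zero, sub_zero]
  exact eq_zero_inv hp0 hp h7 h1 (sub_eq_zero.1 h3)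

end

end Cfsg.Agent.H413.U45.ASeven

private theorem dce_9866d5bf0d7a : _root_.True := by
  try have : _root_.True := by simp only [_root_.Cfsg.Agent.H413.U45.ASeven.code.eq_1]
  try have : _root_.True := by simp only [_root_.Cfsg.Agent.H413.U45.ASeven.ins.eq_def]
  exact _root_.True.intro
end

-- part: H413/U45/KerTwo
section
prune_inst 0xe4506604450002000000851212000040640001920003000018c00c40094e10220900260070b03d1218880080600400200200001040000000200004004004002080815006b3580d0426000f802800000000000000000000000000000000041004000000000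
set_option linter.all false
open scoped Cfsg.Agent.FastGrp

-- part: H413/U45/Elts
section
/-!
# Elements of `SU₄(5)`: the subgroup `2.A₇` and a subgroup `SL₂(5)` (helper413)
-/

set_option autoImplicit false
set_option maxRecDepth 100000

namespace Cfsg.Agent.H413.U45.Elts

open Matrix Cfsg.Agent.H380.UF Cfsg.Agent.Lib.AltCarmichael

def mX0 : M4 := !![⟨2, 2⟩, ⟨1, 2⟩, ⟨4, 3⟩, ⟨4, 1⟩; ⟨4, 2⟩, ⟨2, 3⟩, ⟨1, 4⟩, ⟨1, 2⟩; ⟨1, 3⟩, ⟨4, 4⟩, ⟨2, 3⟩, ⟨4, 2⟩; ⟨1, 1⟩, ⟨4, 2⟩, ⟨1, 2⟩, ⟨2, 2⟩]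
def mX1 : M4 := !![⟨2, 2⟩, ⟨1, 2⟩, ⟨1, 3⟩, ⟨4, 4⟩; ⟨4, 2⟩, ⟨2, 3⟩, ⟨1, 1⟩, ⟨4, 2⟩; ⟨4, 3⟩, ⟨4, 1⟩, ⟨2, 3⟩, ⟨4, 2⟩; ⟨1, 4⟩, ⟨1, 2⟩, ⟨1, 2⟩, ⟨2, 2⟩]
def mX2 : M4 := !![⟨2, 2⟩, ⟨1, 2⟩, ⟨0, 4⟩, ⟨2, 0⟩; ⟨4, 2⟩, ⟨2, 3⟩, ⟨3, 0⟩, ⟨0, 1⟩; ⟨0, 4⟩, ⟨2, 0⟩, ⟨2, 3⟩, ⟨4, 2⟩; ⟨3, 0⟩, ⟨0, 1⟩, ⟨1, 2⟩, ⟨2, 2⟩]
def mX3 : M4 := !![⟨2, 1⟩, ⟨4, 4⟩, ⟨0, 0⟩, ⟨0, 0⟩; ⟨1, 4⟩, ⟨2, 4⟩, ⟨0, 0⟩, ⟨0, 0⟩; ⟨0, 0⟩, ⟨0, 0⟩, ⟨2, 1⟩, ⟨4, 4⟩; ⟨0, 0⟩, ⟨0, 0⟩, ⟨1, 4⟩, ⟨2, 4⟩]
def mX4 : M4 := !![⟨2, 4⟩, ⟨1, 4⟩, ⟨0, 0⟩, ⟨0, 0⟩; ⟨4, 4⟩, ⟨2, 1⟩, ⟨0, 0⟩, ⟨0, 0⟩; ⟨0, 0⟩, ⟨0, 0⟩, ⟨2, 4⟩, ⟨1, 4⟩; ⟨0, 0⟩, ⟨0, 0⟩, ⟨4, 4⟩, ⟨2, 1⟩]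
def mx : M4 := !![⟨2, 2⟩, ⟨0, 0⟩, ⟨0, 0⟩, ⟨0, 0⟩; ⟨0, 0⟩, ⟨2, 2⟩, ⟨0, 0⟩, ⟨0, 0⟩; ⟨0, 0⟩, ⟨0, 0⟩, ⟨2, 3⟩, ⟨0, 0⟩; ⟨0, 0⟩, ⟨0, 0⟩, ⟨0, 0⟩, ⟨2, 3⟩]
def my : M4 := !![⟨2, 2⟩, ⟨0, 0⟩, ⟨0, 0⟩, ⟨0, 0⟩; ⟨0, 0⟩, ⟨2, 3⟩, ⟨0, 0⟩, ⟨0, 0⟩; ⟨0, 0⟩, ⟨0, 0⟩, ⟨2, 2⟩, ⟨0, 0⟩; ⟨0, 0⟩, ⟨0, 0⟩, ⟨0, 0⟩, ⟨2, 3⟩]
def mj : M4 := !![⟨0, 0⟩, ⟨1, 0⟩, ⟨0, 0⟩, ⟨0, 0⟩; ⟨4, 0⟩, ⟨0, 0⟩, ⟨0, 0⟩, ⟨0, 0⟩; ⟨0, 0⟩, ⟨0, 0⟩, ⟨1, 0⟩, ⟨0, 0⟩; ⟨0, 0⟩, ⟨0, 0⟩, ⟨0, 0⟩, ⟨1, 0⟩]
def ms : M4 := !![⟨2, 2⟩, ⟨0, 0⟩, ⟨0, 0⟩, ⟨0, 0⟩; ⟨0, 0⟩, ⟨2, 3⟩, ⟨0, 0⟩, ⟨0, 0⟩; ⟨0, 0⟩, ⟨0, 0⟩, ⟨1, 0⟩, ⟨0, 0⟩; ⟨0, 0⟩, ⟨0, 0⟩, ⟨0, 0⟩, ⟨1, 0⟩]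
def mw : M4 := !![⟨0, 0⟩, ⟨0, 0⟩, ⟨0, 0⟩, ⟨1, 0⟩; ⟨1, 0⟩, ⟨0, 0⟩, ⟨0, 0⟩, ⟨0, 0⟩; ⟨0, 0⟩, ⟨1, 0⟩, ⟨0, 0⟩, ⟨0, 0⟩; ⟨0, 0⟩, ⟨0, 0⟩, ⟨4, 0⟩, ⟨0, 0⟩]
def mS1 : M4 := !![⟨2, 4⟩, ⟨1, 4⟩, ⟨0, 0⟩, ⟨0, 0⟩; ⟨4, 4⟩, ⟨2, 1⟩, ⟨0, 0⟩, ⟨0, 0⟩; ⟨0, 0⟩, ⟨0, 0⟩, ⟨1, 0⟩, ⟨0, 0⟩; ⟨0, 0⟩, ⟨0, 0⟩, ⟨0, 0⟩, ⟨1, 0⟩]
def mS2 : M4 := !![⟨2, 0⟩, ⟨2, 4⟩, ⟨0, 0⟩, ⟨0, 0⟩; ⟨3, 4⟩, ⟨2, 0⟩, ⟨0, 0⟩, ⟨0, 0⟩; ⟨0, 0⟩, ⟨0, 0⟩, ⟨1, 0⟩, ⟨0, 0⟩; ⟨0, 0⟩, ⟨0, 0⟩, ⟨0, 0⟩, ⟨1, 0⟩]
def mS3 : M4 := !![⟨2, 4⟩, ⟨4, 4⟩, ⟨0, 0⟩, ⟨0, 0⟩; ⟨1, 4⟩, ⟨2, 1⟩, ⟨0, 0⟩, ⟨0, 0⟩; ⟨0, 0⟩, ⟨0, 0⟩, ⟨1, 0⟩, ⟨0, 0⟩; ⟨0, 0⟩, ⟨0, 0⟩, ⟨0, 0⟩, ⟨1, 0⟩]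
def mS4 : M4 := !![⟨2, 0⟩, ⟨3, 4⟩, ⟨0, 0⟩, ⟨0, 0⟩; ⟨2, 4⟩, ⟨2, 0⟩, ⟨0, 0⟩, ⟨0, 0⟩; ⟨0, 0⟩, ⟨0, 0⟩, ⟨1, 0⟩, ⟨0, 0⟩; ⟨0, 0⟩, ⟨0, 0⟩, ⟨0, 0⟩, ⟨1, 0⟩]
def mS5 : M4 := !![⟨2, 0⟩, ⟨0, 2⟩, ⟨0, 0⟩, ⟨0, 0⟩; ⟨0, 2⟩, ⟨2, 0⟩, ⟨0, 0⟩, ⟨0, 0⟩; ⟨0, 0⟩, ⟨0, 0⟩, ⟨1, 0⟩, ⟨0, 0⟩; ⟨0, 0⟩, ⟨0, 0⟩, ⟨0, 0⟩, ⟨1, 0⟩]
def mG1 : M4 := !![⟨1, 4⟩, ⟨0, 3⟩, ⟨0, 0⟩, ⟨0, 0⟩; ⟨0, 3⟩, ⟨1, 1⟩, ⟨0, 0⟩, ⟨0, 0⟩; ⟨0, 0⟩, ⟨0, 0⟩, ⟨1, 0⟩, ⟨0, 0⟩; ⟨0, 0⟩, ⟨0, 0⟩, ⟨0, 0⟩, ⟨1, 0⟩]
def mG2 : M4 := !![⟨1, 2⟩, ⟨0, 1⟩, ⟨0, 0⟩, ⟨0, 0⟩; ⟨0, 1⟩, ⟨1, 3⟩, ⟨0, 0⟩, ⟨0, 0⟩; ⟨0, 0⟩, ⟨0, 0⟩, ⟨1, 0⟩, ⟨0, 0⟩; ⟨0, 0⟩, ⟨0, 0⟩, ⟨0, 0⟩, ⟨1, 0⟩]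
def mG3 : M4 := !![⟨1, 1⟩, ⟨0, 2⟩, ⟨0, 0⟩, ⟨0, 0⟩; ⟨0, 2⟩, ⟨1, 4⟩, ⟨0, 0⟩, ⟨0, 0⟩; ⟨0, 0⟩, ⟨0, 0⟩, ⟨1, 0⟩, ⟨0, 0⟩; ⟨0, 0⟩, ⟨0, 0⟩, ⟨0, 0⟩, ⟨1, 0⟩]
def mG4 : M4 := !![⟨1, 3⟩, ⟨0, 4⟩, ⟨0, 0⟩, ⟨0, 0⟩; ⟨0, 4⟩, ⟨1, 2⟩, ⟨0, 0⟩, ⟨0, 0⟩; ⟨0, 0⟩, ⟨0, 0⟩, ⟨1, 0⟩, ⟨0, 0⟩; ⟨0, 0⟩, ⟨0, 0⟩, ⟨0, 0⟩, ⟨1, 0⟩]
def mG5 : M4 := !![⟨0, 1⟩, ⟨0, 1⟩, ⟨0, 0⟩, ⟨0, 0⟩; ⟨0, 1⟩, ⟨0, 4⟩, ⟨0, 0⟩, ⟨0, 0⟩; ⟨0, 0⟩, ⟨0, 0⟩, ⟨1, 0⟩, ⟨0, 0⟩; ⟨0, 0⟩, ⟨0, 0⟩, ⟨0, 0⟩, ⟨1, 0⟩]
def mr : M4 := !![⟨1, 4⟩, ⟨0, 2⟩, ⟨0, 0⟩, ⟨0, 0⟩; ⟨0, 2⟩, ⟨1, 1⟩, ⟨0, 0⟩, ⟨0, 0⟩; ⟨0, 0⟩, ⟨0, 0⟩, ⟨1, 0⟩, ⟨0, 0⟩; ⟨0, 0⟩, ⟨0, 0⟩, ⟨0, 0⟩, ⟨1, 0⟩]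
def mg : M4 := !![⟨0, 0⟩, ⟨2, 0⟩, ⟨0, 2⟩, ⟨0, 0⟩; ⟨2, 0⟩, ⟨2, 0⟩, ⟨0, 1⟩, ⟨0, 0⟩; ⟨0, 2⟩, ⟨0, 1⟩, ⟨1, 0⟩, ⟨0, 0⟩; ⟨0, 0⟩, ⟨0, 0⟩, ⟨0, 0⟩, ⟨1, 0⟩]
def mu : M4 := !![⟨3, 4⟩, ⟨1, 2⟩, ⟨3, 2⟩, ⟨0, 0⟩; ⟨0, 1⟩, ⟨3, 2⟩, ⟨3, 4⟩, ⟨0, 0⟩; ⟨2, 2⟩, ⟨3, 1⟩, ⟨1, 3⟩, ⟨0, 0⟩; ⟨0, 0⟩, ⟨0, 0⟩, ⟨0, 0⟩, ⟨1, 0⟩]
def mu2 : M4 := !![⟨4, 0⟩, ⟨3, 2⟩, ⟨4, 4⟩, ⟨0, 0⟩; ⟨4, 0⟩, ⟨3, 3⟩, ⟨1, 4⟩, ⟨0, 0⟩; ⟨3, 0⟩, ⟨2, 0⟩, ⟨0, 1⟩, ⟨0, 0⟩; ⟨0, 0⟩, ⟨0, 0⟩, ⟨0, 0⟩, ⟨1, 0⟩]
def mu4 : M4 := !![⟨0, 0⟩, ⟨1, 1⟩, ⟨3, 4⟩, ⟨0, 0⟩; ⟨1, 4⟩, ⟨1, 4⟩, ⟨1, 2⟩, ⟨0, 0⟩; ⟨0, 3⟩, ⟨0, 4⟩, ⟨1, 0⟩, ⟨0, 0⟩; ⟨0, 0⟩, ⟨0, 0⟩, ⟨0, 0⟩, ⟨1, 0⟩]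
def mr3 : M4 := !![⟨1, 2⟩, ⟨0, 1⟩, ⟨0, 0⟩, ⟨0, 0⟩; ⟨0, 1⟩, ⟨1, 3⟩, ⟨0, 0⟩, ⟨0, 0⟩; ⟨0, 0⟩, ⟨0, 0⟩, ⟨1, 0⟩, ⟨0, 0⟩; ⟨0, 0⟩, ⟨0, 0⟩, ⟨0, 0⟩, ⟨1, 0⟩]

def gX0 : SU4 := mk mX0 (by decide +kernel) (by decide +kernel)
def gX1 : SU4 := mk mX1 (by decide +kernel) (by decide +kernel)
private noncomputable def _root_.Cfsg.Agent.LsF.f18c26a_3 : {f // @Cfsg.Agent.H413.U45.Elts.mX2 = f} := ⟨_, by first | (delta Cfsg.Agent.H413.U45.Elts.mX2; rewrite [Cfsg.Agent.LsF.mof_pat, Cfsg.Agent.LsF.vecCons_eq]; exact rfl) | exact rfl⟩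
private noncomputable def _root_.Cfsg.Agent.LsF.f18c26a_4 : {f // @Cfsg.Agent.H380.UF.FQ.decEq = f} := ⟨_, by first | (delta Cfsg.Agent.H380.UF.FQ.decEq; rewrite [Cfsg.Agent.LsF.dAnd_eq, Cfsg.Agent.LsF.dFinEq_eq, Cfsg.Agent.LsF.dite_eq]; (try delta Cfsg.Agent.H380.UF.FQ.decEq.match_1); (try delta Cfsg.Agent.H380.UF.FQ.casesOn); exact rfl) | exact rfl⟩
private noncomputable def _root_.Cfsg.Agent.LsF.f18c26a_5 : {f // @Cfsg.Agent.H380.UF.FQ.instDecEq = f} := ⟨_, by first | (delta Cfsg.Agent.H380.UF.FQ.instDecEq; rewrite [Cfsg.Agent.LsF.f18c26a_4.2]; exact rfl) | exact rfl⟩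
def gX2 : SU4 := mk mX2 (by decide +kernel) (by (refine of_decide_eq_true ?_; (try (rewrite [Cfsg.Agent.LsF.f18c26a_3.2, Cfsg.Agent.LsF.f18c26a_5.2, Cfsg.Agent.LsF.det_eq, Cfsg.Agent.LsF.finFintype_eq, Cfsg.Agent.LsF.dFinEq_eq, Cfsg.Agent.LsF.decide_eq])); decide +kernel))
private noncomputable def _root_.Cfsg.Agent.LsF.f18c26a_6 : {f // @Cfsg.Agent.H413.U45.Elts.mX3 = f} := ⟨_, by first | (delta Cfsg.Agent.H413.U45.Elts.mX3; rewrite [Cfsg.Agent.LsF.mof_pat, Cfsg.Agent.LsF.vecCons_eq]; exact rfl) | exact rfl⟩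
def gX3 : SU4 := mk mX3 (by decide +kernel) (by (refine of_decide_eq_true ?_; (try (rewrite [Cfsg.Agent.LsF.f18c26a_6.2, Cfsg.Agent.LsF.f18c26a_5.2, Cfsg.Agent.LsF.det_eq, Cfsg.Agent.LsF.finFintype_eq, Cfsg.Agent.LsF.dFinEq_eq, Cfsg.Agent.LsF.decide_eq])); decide +kernel))
def gX4 : SU4 := mk mX4 (by decide +kernel) (by decide +kernel)
private noncomputable def _root_.Cfsg.Agent.LsF.f18c26a_7 : {f // @Cfsg.Agent.H413.U45.Elts.mx = f} := ⟨_, by first | (delta Cfsg.Agent.H413.U45.Elts.mx; rewrite [Cfsg.Agent.LsF.mof_pat, Cfsg.Agent.LsF.vecCons_eq]; exact rfl) | exact rfl⟩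
def gx : SU4 := mk mx (by decide +kernel) (by (refine of_decide_eq_true ?_; (try (rewrite [Cfsg.Agent.LsF.f18c26a_7.2, Cfsg.Agent.LsF.f18c26a_5.2, Cfsg.Agent.LsF.det_eq, Cfsg.Agent.LsF.finFintype_eq, Cfsg.Agent.LsF.dFinEq_eq, Cfsg.Agent.LsF.decide_eq])); decide +kernel))
def gy : SU4 := mk my (by decide +kernel) (by decide +kernel)
def gj : SU4 := mk mj (by decide +kernel) (by decide +kernel)
def gs : SU4 := mk ms (by decide +kernel) (by decide +kernel)
def gw : SU4 := mk mw (by decide +kernel) (by decide +kernel)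
def gS1 : SU4 := mk mS1 (by decide +kernel) (by decide +kernel)
def gS2 : SU4 := mk mS2 (by decide +kernel) (by decide +kernel)
private noncomputable def _root_.Cfsg.Agent.LsF.f18c26a_8 : {f // @Cfsg.Agent.H413.U45.Elts.mS3 = f} := ⟨_, by first | (delta Cfsg.Agent.H413.U45.Elts.mS3; rewrite [Cfsg.Agent.LsF.mof_pat, Cfsg.Agent.LsF.vecCons_eq]; exact rfl) | exact rfl⟩
def gS3 : SU4 := mk mS3 (by decide +kernel) (by (refine of_decide_eq_true ?_; (try (rewrite [Cfsg.Agent.LsF.f18c26a_8.2, Cfsg.Agent.LsF.f18c26a_5.2, Cfsg.Agent.LsF.det_eq, Cfsg.Agent.LsF.finFintype_eq, Cfsg.Agent.LsF.dFinEq_eq, Cfsg.Agent.LsF.decide_eq])); decide +kernel))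
private noncomputable def _root_.Cfsg.Agent.LsF.f18c26a_9 : {f // @Cfsg.Agent.H413.U45.Elts.mS4 = f} := ⟨_, by first | (delta Cfsg.Agent.H413.U45.Elts.mS4; rewrite [Cfsg.Agent.LsF.mof_pat, Cfsg.Agent.LsF.vecCons_eq]; exact rfl) | exact rfl⟩
def gS4 : SU4 := mk mS4 (by decide +kernel) (by (refine of_decide_eq_true ?_; (try (rewrite [Cfsg.Agent.LsF.f18c26a_9.2, Cfsg.Agent.LsF.f18c26a_5.2, Cfsg.Agent.LsF.det_eq, Cfsg.Agent.LsF.finFintype_eq, Cfsg.Agent.LsF.dFinEq_eq, Cfsg.Agent.LsF.decide_eq])); decide +kernel))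
def gS5 : SU4 := mk mS5 (by decide +kernel) (by decide +kernel)
def gG1 : SU4 := mk mG1 (by decide +kernel) (by decide +kernel)
def gG2 : SU4 := mk mG2 (by decide +kernel) (by decide +kernel)
def gG3 : SU4 := mk mG3 (by decide +kernel) (by decide +kernel)
def gG4 : SU4 := mk mG4 (by decide +kernel) (by decide +kernel)
def gG5 : SU4 := mk mG5 (by decide +kernel) (by decide +kernel)
def gr : SU4 := mk mr (by decide +kernel) (by decide +kernel)
def gr3 : SU4 := mk mr3 (by decide +kernel) (by decide +kernel)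
def gg : SU4 := mk mg (by decide +kernel) (by decide +kernel)
def gu : SU4 := mk mu (by decide +kernel) (by decide +kernel)
def gu2 : SU4 := mk mu2 (by decide +kernel) (by decide +kernel)
def gu4 : SU4 := mk mu4 (by decide +kernel) (by decide +kernel)
theorem pr_eq_of_smul {a b : SU4} {r : FQ} (h : mat a = r • mat b) : pr a = pr b := by
  refine ((QuotientGroup.eq).2 (mem_center (r := r) ?_)).symm
  rw [mat_mul, h, Matrix.mul_smul, ← mat_mul, inv_mul_cancel, mat_one]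

theorem pr_eq_neg {a b : SU4} (h : mat a = - mat b) : pr a = pr b :=
  pr_eq_of_smul (r := -1) (by rw [h, neg_smul, one_smul])

/-! ### The subgroup `A₇` of `PSU₄(5)` -/

/-- matrices of the generators -/
def mX (i : ℕ) : M4 := match i with
  | 0 => mX0
  | 1 => mX1
  | 2 => mX2
  | 3 => mX3
  | _ => mX4

/-- the generators -/
def gX (i : ℕ) : SU4 := match i with
  | 0 => gX0
  | 1 => gX1
  | 2 => gX2
  | 3 => gX3
  | _ => gX4

theorem mat_gX (i : ℕ) : mat (gX i) = mX i := by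
  match i with
  | 0 => rfl
  | 1 => rfl
  | 2 => rfl
  | 3 => rfl
  | _ + 4 => rfl

private noncomputable def _root_.Cfsg.Agent.LsF.f18c26a_1 : {f // @Cfsg.Agent.H380.UF.FQ.instMul = f} := ⟨_, by first | (delta Cfsg.Agent.H380.UF.FQ.instMul; rewrite [Cfsg.Agent.LsF.fadd_pat, Cfsg.Agent.LsF.fmul_pat]; exact rfl) | exact rfl⟩
private noncomputable def _root_.Cfsg.Agent.LsF.f18c26a_12 : {f // @Cfsg.Agent.H413.U45.Elts.mX0 = f} := ⟨_, by first | (delta Cfsg.Agent.H413.U45.Elts.mX0; rewrite [Cfsg.Agent.LsF.mof_pat, Cfsg.Agent.LsF.vecCons_eq]; exact rfl) | exact rfl⟩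
private noncomputable def _root_.Cfsg.Agent.LsF.f18c26a_13 : {f // @Cfsg.Agent.H413.U45.Elts.mX1 = f} := ⟨_, by first | (delta Cfsg.Agent.H413.U45.Elts.mX1; rewrite [Cfsg.Agent.LsF.mof_pat, Cfsg.Agent.LsF.vecCons_eq]; exact rfl) | exact rfl⟩
private noncomputable def _root_.Cfsg.Agent.LsF.f18c26a_14 : {f // @Cfsg.Agent.H413.U45.Elts.mX4 = f} := ⟨_, by first | (delta Cfsg.Agent.H413.U45.Elts.mX4; rewrite [Cfsg.Agent.LsF.mof_pat, Cfsg.Agent.LsF.vecCons_eq]; exact rfl) | exact rfl⟩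
private noncomputable def _root_.Cfsg.Agent.LsF.f18c26a_15 : {f // @Cfsg.Agent.H413.U45.Elts.mX = f} := ⟨_, by first | (delta Cfsg.Agent.H413.U45.Elts.mX; rewrite [Cfsg.Agent.LsF.f18c26a_12.2, Cfsg.Agent.LsF.f18c26a_13.2, Cfsg.Agent.LsF.f18c26a_3.2, Cfsg.Agent.LsF.f18c26a_6.2, Cfsg.Agent.LsF.f18c26a_14.2]; (try delta Cfsg.Agent.H413.U45.Elts.mX.match_1); (try rewrite [Cfsg.Agent.LsF.instDecEq_eq, Cfsg.Agent.LsF.dite_eq]); exact rfl) | exact rfl⟩
theorem mX_cube : ∀ i < 5, mX i * mX i * mX i = 1 := by (refine of_decide_eq_true ?_; (try (rewrite [Cfsg.Agent.LsF.mmulF_pat, Cfsg.Agent.LsF.f18c26a_1.2, Cfsg.Agent.LsF.f18c26a_15.2, Cfsg.Agent.LsF.f18c26a_5.2, Cfsg.Agent.LsF.finFintype_eq, Cfsg.Agent.LsF.dMat_eq, Cfsg.Agent.LsF.instMOne_eq, Cfsg.Agent.LsF.dFinEq_eq, Cfsg.Agent.LsF.dBallLT_eq, Cfsg.Agent.LsF.decide_eq])); decide +kernel)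
theorem mX_sq : ∀ i < 5, ∀ j < 5, i ≠ j → (mX i * mX j) * (mX i * mX j) = -1 := by (refine of_decide_eq_true ?_; (try (rewrite [Cfsg.Agent.LsF.mmulF_pat, Cfsg.Agent.LsF.mneg_pat, Cfsg.Agent.LsF.f18c26a_1.2, Cfsg.Agent.LsF.f18c26a_15.2, Cfsg.Agent.LsF.f18c26a_5.2, Cfsg.Agent.LsF.finFintype_eq, Cfsg.Agent.LsF.dMat_eq, Cfsg.Agent.LsF.instMOne_eq, Cfsg.Agent.LsF.instDecEq_eq, Cfsg.Agent.LsF.dNot_eq, Cfsg.Agent.LsF.dFinEq_eq, Cfsg.Agent.LsF.dBallLT_eq, Cfsg.Agent.LsF.dAllP_eq, Cfsg.Agent.LsF.decide_eq])); decide +kernel)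

theorem rel_X : Rel 5 (fun i => pr (gX i)) where
  cube i hi := by
    rw [← map_pow, ← map_one pr]
    refine pr_eq_of_smul (r := 1) ?_
    rw [one_smul, mat_one, pow_succ, pow_two, mat_mul, mat_mul, mat_gX]
    exact mX_cube i hi
  sq i hi j hj hij := by
    rw [← map_mul, ← map_pow, ← map_one pr]
    refine pr_eq_neg ?_
    rw [mat_one, pow_two, mat_mul, mat_mul, mat_gX, mat_gX]
    exact mX_sq i hi j hj hij

/-- the 3-cycles -/
def cy (i : ℕ) (h : i < 5) : ASeven.A7 := ⟨cyc 5 i, cyc_mem 5 i h⟩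

theorem x_word : ASeven.xA = cy 2 (by norm_num) * cy 0 (by norm_num) * cy 1 (by norm_num) * cy 2 (by norm_num) *
    cy 0 (by norm_num) := ASeven.code_inj (by decide +kernel)
theorem y_word : ASeven.yA = cy 4 (by norm_num) * cy 3 (by norm_num) * cy 3 (by norm_num) :=
  ASeven.code_inj (by decide +kernel)

theorem x_mat : (mX2 * mX0 * mX1) * (mX2 * mX0) = -mx := by decide +kernel
theorem y_mat : mX4 * mX3 * mX3 = -my := by decide +kernel

theorem pr_x : pr (gX 2 * gX 0 * gX 1 * gX 2 * gX 0) = pr gx := by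
  refine pr_eq_neg ?_
  rw [mat_mul, mat_mul, mat_mul, mat_mul, mat_gX, mat_gX, mat_gX, mul_assoc (mX 2 * mX 0 * mX 1)]
  exact x_mat

theorem pr_y : pr (gX 4 * gX 3 * gX 3) = pr gy := by
  refine pr_eq_neg ?_
  rw [mat_mul, mat_mul, mat_gX, mat_gX]
  exact y_mat

/-- **`A₇` in `PSU₄(5)`.** -/
theorem exists_phi : ∃ φ : ASeven.A7 →* U4, φ ASeven.xA = pr gx ∧ φ ASeven.yA = pr gy := by
  obtain ⟨φ, hφ⟩ := exists_hom (m := 5) (by norm_num) rel_X
  have h : ∀ i (hi : i < 5), φ (cy i hi) = pr (gX i) := hφ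
  refine ⟨φ, ?_, ?_⟩
  · rw [x_word, ← pr_x]
    simp only [map_mul]
    rw [h, h, h]
  · rw [y_word, ← pr_y]
    simp only [map_mul]
    rw [h, h]

/-! ### Relations -/

theorem js : gj * gy = gy * gs * gj := mat_inj (by rw [mat_mul, mat_mul, mat_mul]; decide +kernel)
theorem jx : gj * gx = gx * gj := mat_inj (by rw [mat_mul, mat_mul]; decide +kernel)
theorem w_conj : gw * (gx * gy) = gs * gw := mat_inj (by rw [mat_mul, mat_mul, mat_mul]; decide +kernel)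

theorem G1x : gG1 * gx = gx * gG1 := mat_inj (by rw [mat_mul, mat_mul]; decide +kernel)
theorem G2x : gG2 * gx = gx * gG2 := mat_inj (by rw [mat_mul, mat_mul]; decide +kernel)
theorem G3x : gG3 * gx = gx * gG3 := mat_inj (by rw [mat_mul, mat_mul]; decide +kernel)
theorem G4x : gG4 * gx = gx * gG4 := mat_inj (by rw [mat_mul, mat_mul]; decide +kernel)
theorem G5x : gG5 * gx = gx * gG5 := mat_inj (by rw [mat_mul, mat_mul]; decide +kernel)

theorem G1s : gG1 * gs = gS1 * gG1 := mat_inj (by rw [mat_mul, mat_mul]; decide +kernel)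
theorem G2s : gG2 * gs = gS2 * gG2 := mat_inj (by rw [mat_mul, mat_mul]; decide +kernel)
theorem G3s : gG3 * gs = gS3 * gG3 := mat_inj (by rw [mat_mul, mat_mul]; decide +kernel)
theorem G4s : gG4 * gs = gS4 * gG4 := mat_inj (by rw [mat_mul, mat_mul]; decide +kernel)
theorem G5s : gG5 * gs = gS5 * gG5 := mat_inj (by rw [mat_mul, mat_mul]; decide +kernel)

theorem s_cube : gs ^ 3 = 1 := mat_inj (by rw [pow_succ, pow_two, mat_mul, mat_mul]; decide +kernel)

theorem I1 : gS4 * gS4 * (gS2 * gS1) = gS3 * gS1 * (gS1 * gr) := mat_inj (by simp only [mat_mul]; (refine of_decide_eq_true ?_; (try (rewrite [Cfsg.Agent.LsF.mmulF_pat, Cfsg.Agent.LsF.f18c26a_1.2, Cfsg.Agent.LsF.f18c26a_5.2, Cfsg.Agent.LsF.finFintype_eq, Cfsg.Agent.LsF.dMat_eq, Cfsg.Agent.LsF.decide_eq])); decide +kernel))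
theorem I2 : gS5 * gS4 * (gS2 * gS1) = gS3 * gS3 * (gS1 * gS1) := mat_inj (by simp only [mat_mul]; (refine of_decide_eq_true ?_; (try (rewrite [Cfsg.Agent.LsF.mmulF_pat, Cfsg.Agent.LsF.f18c26a_1.2, Cfsg.Agent.LsF.f18c26a_5.2, Cfsg.Agent.LsF.finFintype_eq, Cfsg.Agent.LsF.dMat_eq, Cfsg.Agent.LsF.decide_eq])); decide +kernel))
theorem I3 : gS5 * gS5 * gS4 * (gS2 * gS1) = gS2 * gS2 * (gS1 * gr3) := mat_inj (by simp only [mat_mul]; (refine of_decide_eq_true ?_; (try (rewrite [Cfsg.Agent.LsF.mmulF_pat, Cfsg.Agent.LsF.f18c26a_1.2, Cfsg.Agent.LsF.f18c26a_5.2, Cfsg.Agent.LsF.finFintype_eq, Cfsg.Agent.LsF.dMat_eq, Cfsg.Agent.LsF.decide_eq])); decide +kernel))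
theorem r_eq : gS3 * gr = gS1 * gS5 := mat_inj (by simp only [mat_mul]; decide +kernel)
theorem r3_eq : gr3 = gr * gr * gr := mat_inj (by simp only [mat_mul]; decide +kernel)
theorem gr_comm : gg * gr = gr * gg := mat_inj (by rw [mat_mul, mat_mul]; decide +kernel)
theorem u_eq : gu * gg = gs * gg * gs := mat_inj (by simp only [mat_mul]; decide +kernel)

theorem u2_eq : gu * gu = gu2 := mat_inj (by rw [mat_mul]; decide +kernel)
theorem u4_eq : gu2 * gu2 = gu4 := mat_inj (by rw [mat_mul]; decide +kernel)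
theorem u7_eq : gu4 * gu2 * gu = 1 := mat_inj (by simp only [mat_mul]; decide +kernel)

theorem u_pow : gu ^ 7 = 1 := by
  have h : gu ^ 7 = gu ^ 4 * gu ^ 2 * gu := by rw [← pow_add, ← pow_succ]
  have h2 : gu ^ 2 = gu2 := by rw [pow_two, u2_eq]
  have h4 : gu ^ 4 = gu4 := by
    have : gu ^ 4 = gu ^ 2 * gu ^ 2 := pow_add gu 2 2
    rw [this, h2, u4_eq]
  rw [h, h2, h4]
  exact u7_eq

theorem order_u : orderOf (pr gu) = 7 := by
  have : Fact (Nat.Prime 7) := ⟨by norm_num⟩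
  refine orderOf_eq_prime ?_ (not_central (y := gx) (by decide +kernel))
  rw [← map_pow, u_pow, map_one]

theorem x_ne : pr gx ≠ 1 := not_central (y := gg) (by decide +kernel)

end Cfsg.Agent.H413.U45.Elts
end

-- part: H413/U45/ModCount
section
/-!
# Counting fixed points of elements of order 3 and of Frobenius groups of order 21 (helper413)
-/

set_option autoImplicit false

namespace Cfsg.Agent.H413.U45.ModCount

variable {L V : Type*} [Group L] [AddCommGroup V] (ρ : L →* AddMonoid.End V)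

theorem mul_ap (f g : AddMonoid.End V) (u : V) : (f * g) u = f (g u) := rfl

variable {ρ} in
theorem ap_mul (a b : L) (v : V) : ρ (a * b) v = ρ a (ρ b v) := by rw [map_mul, mul_ap]

variable {ρ} in
theorem ap_one (v : V) : ρ 1 v = v := by rw [map_one]; rfl

variable {ρ} in
theorem inv_ap (a : L) (v : V) : ρ a⁻¹ (ρ a v) = v := by rw [← ap_mul, inv_mul_cancel, ap_one]

variable {ρ} in
theorem ap_inv (a : L) (v : V) : ρ a (ρ a⁻¹ v) = v := by rw [← ap_mul, mul_inv_cancel, ap_one]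

/-- fixed points -/
def fx (x : L) : AddSubgroup V where
  carrier := {v | ρ x v = v}
  zero_mem' := map_zero _
  add_mem' := by
    intro a b ha hb
    change ρ x (a + b) = a + b
    rw [map_add]
    exact congrArg₂ (· + ·) ha hb
  neg_mem' := by
    intro a ha
    change ρ x (-a) = -a
    rw [map_neg]
    exact congrArg (fun b => -b) ha

/-- kernel of the trace of an element of order 3 -/
def tk (x : L) : AddSubgroup V where
  carrier := {v | v + ρ x v + ρ x (ρ x v) = 0}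
  zero_mem' := by
    change (0 : V) + ρ x 0 + ρ x (ρ x 0) = 0
    simp only [map_zero, add_zero]
  add_mem' := by
    intro a b ha hb
    change (a + b) + ρ x (a + b) + ρ x (ρ x (a + b)) = 0
    have h : (a + b) + ρ x (a + b) + ρ x (ρ x (a + b)) = (a + ρ x a + ρ x (ρ x a)) + (b + ρ x b + ρ x (ρ x b)) := by
      simp only [map_add]; abel
    rw [h]
    have h1 : a + ρ x a + ρ x (ρ x a) = 0 := ha
    have h2 : b + ρ x b + ρ x (ρ x b) = 0 := hb
    rw [h1, h2, add_zero]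
  neg_mem' := by
    intro a ha
    change -a + ρ x (-a) + ρ x (ρ x (-a)) = 0
    have h1 : a + ρ x a + ρ x (ρ x a) = 0 := ha
    have h : -a + ρ x (-a) + ρ x (ρ x (-a)) = -(a + ρ x a + ρ x (ρ x a)) := by
      simp only [map_neg]; abel
    rw [h, h1, neg_zero]

variable {ρ}

theorem mem_fx {x : L} {v : V} : v ∈ fx ρ x ↔ ρ x v = v := Iff.rfl
theorem mem_tk {x : L} {v : V} : v ∈ tk ρ x ↔ v + ρ x v + ρ x (ρ x v) = 0 := Iff.rfl

theorem x3 {x : L} (hx : x ^ 3 = 1) (v : V) : ρ x (ρ x (ρ x v)) = v := by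
  rw [← ap_mul, ← ap_mul, ← pow_two, ← pow_succ, hx, ap_one]

/-- the trace is a fixed point -/
theorem tr_mem {x : L} (hx : x ^ 3 = 1) (v : V) : v + ρ x v + ρ x (ρ x v) ∈ fx ρ x := by
  rw [mem_fx, map_add, map_add, x3 hx]
  abel

/-- decomposition with respect to an element of order 3 -/
theorem exists_dec {p : ℕ} (hp : ∀ v : V, p • v = 0) (hp3 : p = 2 ∨ p = 5) {x : L} (hx : x ^ 3 = 1) (v : V) :
    ∃ a ∈ fx ρ x, v - a ∈ tk ρ x ∧ ∃ n : ℕ, a = n • (v + ρ x v + ρ x (ρ x v)) := by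
  obtain ⟨n, hn⟩ : ∃ n : ℕ, ∀ w : V, (3 * n) • w = w := by
    rcases hp3 with rfl | rfl
    · refine ⟨1, fun w => ?_⟩
      rw [show 3 * 1 = 2 + 1 from rfl, add_smul, hp, zero_add, one_smul]
    · refine ⟨2, fun w => ?_⟩
      rw [show 3 * 2 = 5 + 1 from rfl, add_smul, hp, zero_add, one_smul]
  refine ⟨n • (v + ρ x v + ρ x (ρ x v)), (fx ρ x).nsmul_mem (tr_mem hx v) n, ?_, n, rfl⟩
  have h1 : ρ x (n • (v + ρ x v + ρ x (ρ x v))) = n • (v + ρ x v + ρ x (ρ x v)) :=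
    (fx ρ x).nsmul_mem (tr_mem hx v) n
  rw [mem_tk]
  simp only [map_sub]
  rw [h1, h1]
  have h2 : (3 : ℕ) • n • (v + ρ x v + ρ x (ρ x v)) = v + ρ x v + ρ x (ρ x v) := by
    rw [← mul_smul, hn]
  have h3 : ∀ t : V, (3 : ℕ) • t = t + t + t := by
    intro t
    rw [show (3 : ℕ) = 1 + 1 + 1 from rfl, add_smul, add_smul, one_smul]
  rw [h3] at h2
  have h4 : v - n • (v + ρ x v + ρ x (ρ x v)) + (ρ x v - n • (v + ρ x v + ρ x (ρ x v))) +
      (ρ x (ρ x v) - n • (v + ρ x v + ρ x (ρ x v))) = (v + ρ x v + ρ x (ρ x v)) -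
      (n • (v + ρ x v + ρ x (ρ x v)) + n • (v + ρ x v + ρ x (ρ x v)) + n • (v + ρ x v + ρ x (ρ x v))) := by abel
  rw [h4, h2, sub_self]

/-- the intersection is trivial -/
theorem eq_zero_of_mem {p : ℕ} (hp : ∀ v : V, p • v = 0) (hp3 : p = 2 ∨ p = 5) {x : L} {v : V}
    (h1 : v ∈ fx ρ x) (h2 : v ∈ tk ρ x) : v = 0 := by
  rw [mem_tk, mem_fx.1 h1, mem_fx.1 h1] at h2
  rcases hp3 with rfl | rfl
  · have h3 := hp v
    rw [show (2 : ℕ) = 1 + 1 from rfl, add_smul, one_smul] at h3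
    rwa [h3, zero_add] at h2
  · have h3 := hp v
    rw [show (5 : ℕ) = 1 + 1 + 1 + 1 + 1 from rfl, add_smul, add_smul, add_smul, add_smul, one_smul] at h3
    have h4 : v + v + v + (v + v + v) = v + v + v + v + v + v := by abel
    rw [h3, h2, zero_add, zero_add] at h4
    exact h4.symm

/-- counting with respect to an element of order 3 acting on a subgroup -/
theorem card_eq [Finite V] {p : ℕ} (hp : ∀ v : V, p • v = 0) (hp3 : p = 2 ∨ p = 5) {x : L} (hx : x ^ 3 = 1)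
    (W : AddSubgroup V) (hW : ∀ v ∈ W, ρ x v ∈ W) :
    Nat.card W = Nat.card ↥(W ⊓ fx ρ x) * Nat.card ↥(W ⊓ tk ρ x) := by
  rw [← Nat.card_prod]
  symm
  refine Nat.card_congr (Equiv.ofBijective
    (fun t : ↥(W ⊓ fx ρ x) × ↥(W ⊓ tk ρ x) => (⟨t.1.1 + t.2.1, W.add_mem t.1.2.1 t.2.2.1⟩ : W)) ⟨?_, ?_⟩)
  · rintro ⟨⟨a, ha⟩, ⟨b, hb⟩⟩ ⟨⟨c, hc⟩, ⟨d, hd⟩⟩ h
    have h1 : a + b = c + d := congrArg Subtype.val h
    have h2 : a - c = d - b := by
      rw [sub_eq_sub_iff_add_eq_add, h1, add_comm]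
    have h3 : a - c = 0 := eq_zero_of_mem hp hp3 ((fx ρ x).sub_mem ha.2 hc.2) (by
      rw [h2]; exact (tk ρ x).sub_mem hd.2 hb.2)
    have h4 : a = c := sub_eq_zero.1 h3
    have h5 : b = d := by rw [h3] at h2; exact (sub_eq_zero.1 h2.symm).symm
    subst h4; subst h5
    rfl
  · rintro ⟨v, hv⟩
    obtain ⟨a, ha, hb, n, hn⟩ := exists_dec (ρ := ρ) hp hp3 hx v
    have haW : a ∈ W := by
      rw [hn]
      exact W.nsmul_mem (W.add_mem (W.add_mem hv (hW _ hv)) (hW _ (hW _ hv))) n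
    refine ⟨(⟨a, haW, ha⟩, ⟨v - a, W.sub_mem hv haW, hb⟩), ?_⟩
    apply Subtype.ext
    change a + (v - a) = v
    abel

/-- conjugate elements -/
theorem card_fx_conj (g x y : L) (h : g * x = y * g) : Nat.card (fx ρ x) = Nat.card (fx ρ y) := by
  refine Nat.card_congr
    { toFun := fun v => ⟨ρ g v, ?_⟩
      invFun := fun v => ⟨ρ g⁻¹ v, ?_⟩
      left_inv := fun v => Subtype.ext (inv_ap g _)
      right_inv := fun v => Subtype.ext (ap_inv g _) }
  · rw [mem_fx, ← ap_mul, ← h, ap_mul, mem_fx.1 v.2]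
  · have h1 : x * g⁻¹ = g⁻¹ * y := by
      rw [eq_inv_mul_iff_mul_eq, ← mul_assoc, h, mul_inv_cancel_right]
    rw [mem_fx, ← ap_mul, h1, ap_mul, mem_fx.1 v.2]

theorem card_tk_conj (g x y : L) (h : g * x = y * g) : Nat.card (tk ρ x) = Nat.card (tk ρ y) := by
  have h1 : x * g⁻¹ = g⁻¹ * y := by
    rw [eq_inv_mul_iff_mul_eq, ← mul_assoc, h, mul_inv_cancel_right]
  have e1 : ∀ v, ρ y (ρ g v) = ρ g (ρ x v) := fun v => by rw [← ap_mul, ← h, ap_mul]
  have e2 : ∀ v, ρ x (ρ g⁻¹ v) = ρ g⁻¹ (ρ y v) := fun v => by rw [← ap_mul, h1, ap_mul]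
  refine Nat.card_congr
    { toFun := fun v => ⟨ρ g v, ?_⟩
      invFun := fun v => ⟨ρ g⁻¹ v, ?_⟩
      left_inv := fun v => Subtype.ext (inv_ap g _)
      right_inv := fun v => Subtype.ext (ap_inv g _) }
  · rw [mem_tk, e1, e1, ← map_add, ← map_add, mem_tk.1 v.2, map_zero]
  · rw [mem_tk, e2, e2, ← map_add, ← map_add, mem_tk.1 v.2, map_zero]

/-- Frobenius groups of order 21: `|C_V(m)|³ ≤ |V|` -/
theorem card_cube_le [Finite V] {c m : L} (hc : c ^ 7 = 1) (hm : m * c = c ^ 2 * m)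
    (h7 : ∀ v : V, ρ c v = v → v = 0) : Nat.card (fx ρ m) ^ 3 ≤ Nat.card V := by
  have hcm : c ^ 8 = c := by rw [pow_succ, hc, one_mul]
  have m1 : m * c ^ 2 = c ^ 4 * m := by
    rw [pow_two, ← mul_assoc, hm, mul_assoc, hm, ← mul_assoc, ← pow_add]
  have m2 : m * c ^ 4 = c * m := by
    have : m * c ^ 4 = c ^ 8 * m := by
      rw [show 4 = 2 + 2 from rfl, pow_add, ← mul_assoc, m1, mul_assoc, m1, ← mul_assoc, ← pow_add]
    rw [this, hcm]
  -- powers of `c` have no fixed points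
  have hk : ∀ k : ℕ, Nat.Coprime k 7 → ∀ v : V, ρ (c ^ k) v = v → v = 0 := by
    intro k hk v hv
    apply h7
    obtain ⟨l, hl⟩ : ∃ l : ℕ, c ^ (k * l) = c := by
      obtain ⟨l, hl⟩ := Nat.exists_mul_mod_eq_one_of_coprime hk (by norm_num)
      refine ⟨l, ?_⟩
      rw [← Nat.div_add_mod (k * l) 7, hl.2, pow_add, pow_mul, hc, one_pow, one_mul, pow_one]
    have h2 : ∀ l : ℕ, ρ (c ^ (k * l)) v = v := by
      intro l
      induction l with
      | zero => rw [mul_zero, pow_zero, ap_one]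
      | succ l ih => rw [Nat.mul_succ, pow_add, ap_mul, hv, ih]
    have h3 := h2 l
    rwa [hl] at h3
  have hd : ∀ i j : ℕ, i < j → Nat.Coprime (j - i) 7 → ∀ v : V, ρ (c ^ j) v = ρ (c ^ i) v → v = 0 := by
    intro i j hij hco v hv
    apply hk (j - i) hco
    have h1 : c ^ j = c ^ i * c ^ (j - i) := by rw [← pow_add]; congr 1; omega
    rw [h1, ap_mul] at hv
    have h2 := congrArg (ρ (c ^ i)⁻¹) hv
    rwa [inv_ap, inv_ap] at h2
  -- injectivity
  have hinj : Function.Injective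
      (fun t : fx ρ m × fx ρ m × fx ρ m => t.1.1 + ρ c t.2.1.1 + ρ (c ^ 2) t.2.2.1) := by
    have key : ∀ a ∈ fx ρ m, ∀ b ∈ fx ρ m, ∀ d ∈ fx ρ m, a + ρ c b + ρ (c ^ 2) d = 0 → a = 0 ∧ b = 0 ∧ d = 0 := by
      intro a ha b hb d hd' h
      have e1 : a + ρ (c ^ 2) b + ρ (c ^ 4) d = 0 := by
        have := congrArg (ρ m) h
        rw [map_zero, map_add, map_add, mem_fx.1 ha, ← ap_mul, hm, ap_mul, mem_fx.1 hb, ← ap_mul, m1, ap_mul,
          mem_fx.1 hd'] at this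
        exact this
      have e2 : a + ρ (c ^ 4) b + ρ c d = 0 := by
        have := congrArg (ρ m) e1
        rw [map_zero, map_add, map_add, mem_fx.1 ha, ← ap_mul, m1, ap_mul, mem_fx.1 hb, ← ap_mul, m2, ap_mul,
          mem_fx.1 hd'] at this
        exact this
      -- `b + (c + c²) d = 0`
      have f1 : b + (ρ c d + ρ (c ^ 2) d) = 0 := by
        apply hd 1 2 (by norm_num) (by norm_num)
        rw [pow_one, map_add, map_add, map_add, map_add, ← ap_mul, ← ap_mul, ← ap_mul, ← ap_mul, ← pow_succ,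
          ← pow_succ', ← pow_add, ← pow_two, ← sub_eq_zero]
        have h1 : ρ (c ^ 2) b + (ρ (c ^ (2 + 1)) d + ρ (c ^ (2 + 2)) d) - (ρ c b + (ρ (c ^ 2) d + ρ (c ^ (2 + 1)) d)) =
            (a + ρ (c ^ 2) b + ρ (c ^ 4) d) - (a + ρ c b + ρ (c ^ 2) d) := by
          rw [show 2 + 2 = 4 from rfl]
          abel
        rw [h1, e1, h, sub_zero]
      have f2 : b + (ρ c d + ρ (c ^ 4) d) = 0 := by
        apply hd 1 4 (by norm_num) (by norm_num)
        rw [pow_one, map_add, map_add, map_add, map_add, ← ap_mul, ← ap_mul, ← ap_mul, ← ap_mul, ← pow_succ,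
          ← pow_succ', ← pow_add, ← pow_two, ← sub_eq_zero]
        have h1 : ρ (c ^ 4) b + (ρ (c ^ (4 + 1)) d + ρ (c ^ (4 + 4)) d) - (ρ c b + (ρ (c ^ 2) d + ρ (c ^ (4 + 1)) d)) =
            (a + ρ (c ^ 4) b + ρ c d) - (a + ρ c b + ρ (c ^ 2) d) := by
          rw [show 4 + 4 = 8 from rfl, hcm]
          abel
        rw [h1, e2, h, sub_zero]
      have f3 : d = 0 := by
        apply hd 2 4 (by norm_num) (by norm_num)
        have h1 : ρ c d + ρ (c ^ 4) d = ρ c d + ρ (c ^ 2) d := by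
          rw [← add_right_inj b, f2, f1]
        exact add_left_cancel h1
      subst f3
      have f4 : b = 0 := by simpa using f1
      subst f4
      have f5 : a = 0 := by simpa using h
      exact ⟨f5, rfl, rfl⟩
    rintro ⟨⟨a, ha⟩, ⟨b, hb⟩, ⟨d, hd'⟩⟩ ⟨⟨a', ha'⟩, ⟨b', hb'⟩, ⟨d', hd''⟩⟩ h
    have h1 : a + ρ c b + ρ (c ^ 2) d = a' + ρ c b' + ρ (c ^ 2) d' := h
    have h2 : (a - a') + ρ c (b - b') + ρ (c ^ 2) (d - d') = 0 := by
      rw [map_sub, map_sub]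
      have h3 : a - a' + (ρ c b - ρ c b') + (ρ (c ^ 2) d - ρ (c ^ 2) d') =
          (a + ρ c b + ρ (c ^ 2) d) - (a' + ρ c b' + ρ (c ^ 2) d') := by abel
      rw [h3, h1, sub_self]
    obtain ⟨g1, g2, g3⟩ := key _ ((fx ρ m).sub_mem ha ha') _ ((fx ρ m).sub_mem hb hb') _
      ((fx ρ m).sub_mem hd' hd'') h2
    have g1' := sub_eq_zero.1 g1
    have g2' := sub_eq_zero.1 g2
    have g3' := sub_eq_zero.1 g3
    subst g1'; subst g2'; subst g3'
    rfl
  have h1 := Nat.card_le_card_of_injective _ hinj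
  rw [Nat.card_prod, Nat.card_prod] at h1
  calc Nat.card (fx ρ m) ^ 3 = Nat.card (fx ρ m) * (Nat.card (fx ρ m) * Nat.card (fx ρ m)) := by ring
    _ ≤ _ := h1

end Cfsg.Agent.H413.U45.ModCount
end

-- part: H413/U45/KerTwo
section
/-!
# Modules for `PSU₄(5)` in characteristic 2 on which elements of order 7 act fixed-point-freely (helper413)
-/

set_option autoImplicit false

namespace Cfsg.Agent.H413.U45.KerTwo

open Cfsg.Agent.H380.UF Cfsg.Agent.H413.U45.Elts Cfsg.Agent.H413.U45.ModCount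
open Cfsg.Agent.H413.U45.ASeven (A7 xA yA cA mA)

/-- the element of order 3 normalizing the 7-cycle -/
def m3A : A7 := ⟨ASeven.perm [0, 2, 4, 6, 1, 3, 5] [0, 4, 1, 5, 2, 6, 3] (by decide),
  Equiv.Perm.mem_alternatingGroup.2 (by decide +kernel)⟩

/-- conjugating element -/
def kA : A7 := ⟨ASeven.perm [1, 2, 4, 3, 6, 5, 0] [6, 0, 1, 3, 2, 5, 4] (by decide),
  Equiv.Perm.mem_alternatingGroup.2 (by decide +kernel)⟩

theorem m3_conj : m3A * cA = cA ^ 2 * m3A := ASeven.code_inj (by decide +kernel)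
theorem k_conj : kA * (xA * yA) = m3A * kA := ASeven.code_inj (by decide +kernel)

section

variable {V : Type*} [AddCommGroup V] [Finite V] (σ : A7 →* AddMonoid.End V)

variable {σ}

/-- the structure of `V` as a module for `A₇` -/
theorem seven {p : ℕ} (hp3 : p = 2 ∨ p = 5) (hp : ∀ v : V, p • v = 0) (h7 : ∀ v : V, σ cA v = v → v = 0) :
    tk σ xA ≤ fx σ yA ∧ Nat.card V = Nat.card (fx σ (xA * yA)) * Nat.card (tk σ xA) ^ 2 ∧
      Nat.card (fx σ (xA * yA)) ≤ Nat.card (tk σ xA) := by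
  have hx : xA ^ 3 = 1 := ASeven.x_cube
  have hy : yA ^ 3 = 1 := ASeven.y_cube
  have hcomm : xA * yA = yA * xA := ASeven.xy_comm
  have exy : ∀ v, σ xA (σ yA v) = σ yA (σ xA v) := fun v => by rw [← ap_mul, hcomm, ap_mul]
  -- the certificate
  have h1 : ∀ v ∈ tk σ xA, v ∈ tk σ yA → v = 0 := by
    intro v h1 h2
    exact ASeven.main hp3 hp h7 h1 h2
  have h2 : tk σ xA ≤ fx σ yA := by
    intro v hv
    obtain ⟨a, ha, hb, n, hn⟩ := exists_dec (ρ := σ) hp hp3 hy v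
    have h3 : v - a ∈ tk σ xA := by
      refine (tk σ xA).sub_mem hv ?_
      rw [hn]
      refine (tk σ xA).nsmul_mem ?_ n
      have hyv : ∀ w ∈ tk σ xA, σ yA w ∈ tk σ xA := by
        intro w hw
        rw [mem_tk, exy, exy, ← map_add, ← map_add, mem_tk.1 hw, map_zero]
      exact (tk σ xA).add_mem ((tk σ xA).add_mem hv (hyv _ hv)) (hyv _ (hyv _ hv))
    rw [sub_eq_zero.1 (h1 _ h3 hb)]
    exact ha
  have h2' : tk σ yA ≤ fx σ xA := by
    intro v hv
    obtain ⟨a, ha, hb, n, hn⟩ := exists_dec (ρ := σ) hp hp3 hx v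
    have h3 : v - a ∈ tk σ yA := by
      refine (tk σ yA).sub_mem hv ?_
      rw [hn]
      refine (tk σ yA).nsmul_mem ?_ n
      have hyv : ∀ w ∈ tk σ yA, σ xA w ∈ tk σ yA := by
        intro w hw
        rw [mem_tk, ← exy, ← exy, ← map_add, ← map_add, mem_tk.1 hw, map_zero]
      exact (tk σ yA).add_mem ((tk σ yA).add_mem hv (hyv _ hv)) (hyv _ (hyv _ hv))
    rw [sub_eq_zero.1 (h1 _ hb h3)]
    exact ha
  -- fixed points of `xy`
  have h3 : fx σ (xA * yA) = fx σ xA ⊓ fx σ yA := by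
    apply le_antisymm
    · intro v hv
      rw [mem_fx, ap_mul] at hv
      obtain ⟨a, ha, hb, n, hn⟩ := exists_dec (ρ := σ) hp hp3 hx v
      have h4 : σ xA (σ yA a) = a := by
        have hyx : ∀ w, σ xA (σ yA w) = w → σ xA (σ yA (σ xA w)) = σ xA w := by
          intro w hw
          rw [← exy, hw]
        have hf : a ∈ fx σ (xA * yA) := by
          rw [hn]
          refine (fx σ (xA * yA)).nsmul_mem ?_ n
          have g1 : v ∈ fx σ (xA * yA) := by rw [mem_fx, ap_mul]; exact hv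
          have g2 : σ xA v ∈ fx σ (xA * yA) := by rw [mem_fx, ap_mul]; exact hyx v hv
          have g3 : σ xA (σ xA v) ∈ fx σ (xA * yA) := by rw [mem_fx, ap_mul]; exact hyx _ (hyx v hv)
          exact (fx σ (xA * yA)).add_mem ((fx σ (xA * yA)).add_mem g1 g2) g3
        rw [mem_fx, ap_mul] at hf
        exact hf
      have h5 : σ xA (σ yA (v - a)) = v - a := by rw [map_sub, map_sub, hv, h4]
      have h6 : σ yA (v - a) = v - a := h2 hb
      rw [h6] at h5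
      have h7 : v - a = 0 := eq_zero_of_mem hp hp3 (mem_fx.2 h5) hb
      rw [sub_eq_zero.1 h7]
      refine ⟨ha, ?_⟩
      change σ yA a = a
      rw [exy, mem_fx.1 ha] at h4
      exact h4
    · rintro v ⟨hv1, hv2⟩
      change σ (xA * yA) v = v
      rw [ap_mul, mem_fx.1 hv2, mem_fx.1 hv1]
  have h4 : Nat.card (tk σ xA) = Nat.card (tk σ yA) := by
    refine card_tk_conj mA xA yA ?_
    exact ASeven.ym.symm
  have h5 : Nat.card V = Nat.card (fx σ xA) * Nat.card (tk σ xA) := by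
    have := card_eq (ρ := σ) hp hp3 hx ⊤ (fun _ _ => AddSubgroup.mem_top _)
    rw [top_inf_eq, top_inf_eq, AddSubgroup.card_top] at this
    exact this
  have h6 : Nat.card (fx σ xA) = Nat.card (fx σ (xA * yA)) * Nat.card (tk σ yA) := by
    have := card_eq (ρ := σ) hp hp3 hy (fx σ xA) (fun v hv => by
      rw [mem_fx, exy, mem_fx.1 hv])
    rw [← h3, inf_eq_right.2 h2'] at this
    exact this
  have h7 : Nat.card V = Nat.card (fx σ (xA * yA)) * Nat.card (tk σ xA) ^ 2 := by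
    rw [h5, h6, ← h4, pow_two, mul_assoc]
  refine ⟨h2, h7, ?_⟩
  have h8 : Nat.card (fx σ (xA * yA)) ^ 3 ≤ Nat.card V := by
    rw [card_fx_conj kA (xA * yA) m3A k_conj]
    exact card_cube_le ASeven.c_seven m3_conj ‹_›
  rw [h7] at h8
  have hpos : 0 < Nat.card (fx σ (xA * yA)) := Nat.card_pos
  have h9 : Nat.card (fx σ (xA * yA)) ^ 2 ≤ Nat.card (tk σ xA) ^ 2 := by
    apply Nat.le_of_mul_le_mul_left _ hpos
    calc Nat.card (fx σ (xA * yA)) * Nat.card (fx σ (xA * yA)) ^ 2 = Nat.card (fx σ (xA * yA)) ^ 3 := by ring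
      _ ≤ _ := h8
  exact (Nat.pow_le_pow_iff_left two_ne_zero).1 h9

end

theorem order_c : orderOf cA = 7 := by
  have : Fact (Nat.Prime 7) := ⟨by norm_num⟩
  refine orderOf_eq_prime ASeven.c_seven ?_
  intro h
  have := congrArg ASeven.code h
  rw [ASeven.code_c, ASeven.code_one] at this
  exact absurd this (by decide)

theorem phi_inj {φ : A7 →* U4} (h : φ xA = pr gx) : Function.Injective φ := by
  have hs : IsSimpleGroup A7 :=
    alternatingGroup.isSimpleGroup (by rw [Nat.card_eq_fintype_card, Fintype.card_fin]; norm_num)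
  rw [← MonoidHom.ker_eq_bot_iff]
  rcases hs.eq_bot_or_eq_top_of_normal φ.ker inferInstance with h1 | h1
  · exact h1
  · exfalso
    apply x_ne
    rw [← h]
    have : xA ∈ φ.ker := by rw [h1]; exact Subgroup.mem_top _
    exact this

section

variable {V : Type*} [AddCommGroup V]

theorem fx_conj_iff {L : Type*} [Group L] {τ : L →* AddMonoid.End V} {g s S : L} (h : g * s = S * g) (v : V) :
    v ∈ fx τ S ↔ τ g⁻¹ v ∈ fx τ s := by
  have h1 : s * g⁻¹ = g⁻¹ * S := by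
    rw [eq_inv_mul_iff_mul_eq, ← mul_assoc, h, mul_inv_cancel_right]
  rw [mem_fx, mem_fx, ← ap_mul, h1, ap_mul]
  constructor
  · intro hv; rw [hv]
  · intro hv
    have := congrArg (τ g) hv
    rwa [ap_inv, ap_inv] at this

theorem tk_comm {L : Type*} [Group L] {τ : L →* AddMonoid.End V} {g x : L} (h : g * x = x * g) {v : V}
    (hv : v ∈ tk τ x) : τ g v ∈ tk τ x := by
  have e : ∀ w, τ x (τ g w) = τ g (τ x w) := fun w => by rw [← ap_mul, ← h, ap_mul]
  rw [mem_tk, e, e, ← map_add, ← map_add, mem_tk.1 hv, map_zero]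

/-- **Characteristic 2.** -/
theorem main [Finite V] (ρ : U4 →* AddMonoid.End V) (h2 : ∀ v : V, 2 • v = 0)
    (h7 : ∀ g : U4, orderOf g = 7 → ∀ v, ρ g v = v → v = 0) (v : V) : v = 0 := by
  obtain ⟨φ, hφx, hφy⟩ := exists_phi
  have hφi := phi_inj hφx
  set σ : A7 →* AddMonoid.End V := ρ.comp φ with hσ
  set τ : SU4 →* AddMonoid.End V := ρ.comp pr with hτ
  have hx : σ xA = τ gx := by rw [hσ, hτ, MonoidHom.comp_apply, MonoidHom.comp_apply, hφx]
  have hy : σ yA = τ gy := by rw [hσ, hτ, MonoidHom.comp_apply, MonoidHom.comp_apply, hφy]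
  have hc : ∀ v : V, σ cA v = v → v = 0 := by
    apply h7
    rw [orderOf_injective φ hφi, order_c]
  obtain ⟨s1, s2, s3⟩ := seven (Or.inl rfl) h2 hc
  have e1 : tk σ xA = tk τ gx := by
    ext w; rw [mem_tk, mem_tk, hx]
  have e2 : fx σ yA = fx τ gy := by
    ext w; rw [mem_fx, mem_fx, hy]
  have e3 : fx σ (xA * yA) = fx τ (gx * gy) := by
    ext w; rw [mem_fx, mem_fx, map_mul, map_mul, hx, hy]
  rw [e1, e2] at s1
  rw [e1, e3] at s2 s3
  set W := tk τ gx with hW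
  -- `W` is invariant under the elements commuting with `x`
  have hinv : ∀ g : SU4, g * gx = gx * g → ∀ w ∈ W, τ g w ∈ W := fun g hg w hw => tk_comm hg hw
  have hinv' : ∀ g : SU4, g * gx = gx * g → ∀ w ∈ W, τ g⁻¹ w ∈ W := by
    intro g hg w hw
    refine hinv g⁻¹ ?_ w hw
    rw [inv_mul_eq_iff_eq_mul, ← mul_assoc, hg, mul_inv_cancel_right]
  have hfix_inv : ∀ (g : SU4) (w : V), τ g w = w → τ g⁻¹ w = w := by
    intro g w hw
    have := inv_ap (ρ := τ) g w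
    rwa [hw] at this
  -- `s` is trivial on `W`
  have hs : W ≤ fx τ gs := by
    intro w hw
    have h3 := hinv' gj jx w hw
    have h4 : τ gy (τ gj⁻¹ w) = τ gj⁻¹ w := s1 h3
    have h5 : τ (gj * gy) (τ gj⁻¹ w) = w := by rw [ap_mul, h4, ap_inv]
    rw [js, ap_mul, ap_mul, ap_inv] at h5
    have h6 := congrArg (τ gy⁻¹) h5
    rw [inv_ap, hfix_inv gy w (s1 hw)] at h6
    exact h6
  have hs' : W = fx τ gs := by
    apply AddSubgroup.eq_of_le_of_card_ge hs
    rw [← card_fx_conj gw (gx * gy) gs w_conj]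
    exact s3
  -- conjugates of `s` in the block
  have hS : ∀ G S : SU4, G * gx = gx * G → G * gs = S * G → ∀ w, w ∈ fx τ S ↔ w ∈ W := by
    intro G S h3 h4 w
    rw [fx_conj_iff h4, ← hs']
    constructor
    · intro h5
      have := hinv G h3 _ h5
      rwa [ap_inv] at this
    · exact hinv' G h3 w
  have hcube : ∀ G S : SU4, G * gs = S * G → S ^ 3 = 1 := by
    intro G S h4
    have h5 : S = G * gs * G⁻¹ := by rw [h4, mul_inv_cancel_right]
    rw [h5, conj_pow, s_cube, mul_one, mul_inv_cancel]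
  have htr : ∀ G S : SU4, G * gx = gx * G → G * gs = S * G → ∀ w, w + τ S w + τ S (τ S w) ∈ W := by
    intro G S h3 h4 w
    exact (hS G S h3 h4 _).1 (tr_mem (hcube G S h4) w)
  -- fixed points of `r`
  have hr1 : ∀ w, τ gr w = w → w ∈ W := by
    intro w hw
    have w1 := htr gG1 gS1 G1x G1s w
    have w2 := htr gG2 gS2 G2x G2s (τ gS1 w)
    have w3 := htr gG3 gS3 G3x G3s (τ gS1 (τ gS1 w))
    have w4 := htr gG4 gS4 G4x G4s (τ gS2 (τ gS1 w))
    have w5 := htr gG5 gS5 G5x G5s (τ gS4 (τ gS2 (τ gS1 w)))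
    have hr3 : τ gr3 w = w := by rw [r3_eq, ap_mul, ap_mul, hw, hw, hw]
    have i1 : τ gS4 (τ gS4 (τ gS2 (τ gS1 w))) = τ gS3 (τ gS1 (τ gS1 w)) := by
      have := congrArg (fun g => τ g w) I1
      simp only [ap_mul] at this
      rw [hw] at this
      exact this
    have i2 : τ gS5 (τ gS4 (τ gS2 (τ gS1 w))) = τ gS3 (τ gS3 (τ gS1 (τ gS1 w))) := by
      have := congrArg (fun g => τ g w) I2
      simp only [ap_mul] at this
      exact this
    have i3 : τ gS5 (τ gS5 (τ gS4 (τ gS2 (τ gS1 w)))) = τ gS2 (τ gS2 (τ gS1 w)) := by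
      have := congrArg (fun g => τ g w) I3
      simp only [ap_mul] at this
      rw [hr3] at this
      exact this
    rw [i3, i2] at w5
    rw [i1] at w4
    have h3 := W.add_mem (W.add_mem (W.add_mem (W.add_mem w1 w2) w3) w4) w5
    have hd : ∀ t : V, t + t = 0 := by
      intro t
      have := h2 t
      rwa [show (2 : ℕ) = 1 + 1 from rfl, add_smul, one_smul] at this
    have h4 : w + τ gS1 w + τ gS1 (τ gS1 w) +
        (τ gS1 w + τ gS2 (τ gS1 w) + τ gS2 (τ gS2 (τ gS1 w))) +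
        (τ gS1 (τ gS1 w) + τ gS3 (τ gS1 (τ gS1 w)) + τ gS3 (τ gS3 (τ gS1 (τ gS1 w)))) +
        (τ gS2 (τ gS1 w) + τ gS4 (τ gS2 (τ gS1 w)) + τ gS3 (τ gS1 (τ gS1 w))) +
        (τ gS4 (τ gS2 (τ gS1 w)) + τ gS3 (τ gS3 (τ gS1 (τ gS1 w))) + τ gS2 (τ gS2 (τ gS1 w))) =
        w + (τ gS1 w + τ gS1 w) + (τ gS1 (τ gS1 w) + τ gS1 (τ gS1 w)) + (τ gS2 (τ gS1 w) + τ gS2 (τ gS1 w)) +
        (τ gS2 (τ gS2 (τ gS1 w)) + τ gS2 (τ gS2 (τ gS1 w))) +
        (τ gS3 (τ gS1 (τ gS1 w)) + τ gS3 (τ gS1 (τ gS1 w))) +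
        (τ gS3 (τ gS3 (τ gS1 (τ gS1 w))) + τ gS3 (τ gS3 (τ gS1 (τ gS1 w)))) +
        (τ gS4 (τ gS2 (τ gS1 w)) + τ gS4 (τ gS2 (τ gS1 w))) := by abel
    rw [h4] at h3
    simp only [hd, add_zero] at h3
    exact h3
  have hr2 : ∀ w ∈ W, τ gr w = w := by
    intro w hw
    have h3 := congrArg (fun g => τ g w) r_eq
    simp only [ap_mul] at h3
    have t1 : τ gS1 w = w := (hS gG1 gS1 G1x G1s w).2 hw
    have t3 : τ gS3 w = w := (hS gG3 gS3 G3x G3s w).2 hw
    have t5 : τ gS5 w = w := (hS gG5 gS5 G5x G5s w).2 hw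
    rw [t5, t1] at h3
    have h4 := congrArg (τ gS3⁻¹) h3
    rw [inv_ap, hfix_inv _ _ t3] at h4
    exact h4
  -- `W = 0`
  have hW0 : ∀ w ∈ W, w = 0 := by
    intro w hw
    have h3 : τ gg⁻¹ w ∈ W := by
      apply hr1
      have h4 : gr * gg⁻¹ = gg⁻¹ * gr := by
        rw [eq_inv_mul_iff_mul_eq, ← mul_assoc, gr_comm, mul_inv_cancel_right]
      rw [← ap_mul, h4, ap_mul, hr2 w hw]
    have h5 : τ gs (τ gg⁻¹ w) = τ gg⁻¹ w := hs h3
    have h6 := congrArg (fun g => τ g (τ gg⁻¹ w)) u_eq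
    simp only [ap_mul] at h6
    have h7' : τ gs w = w := hs hw
    rw [h5, ap_inv, h7'] at h6
    exact h7 _ order_u w h6
  have hWcard : Nat.card W = 1 := by
    have : W = ⊥ := (AddSubgroup.eq_bot_iff_forall W).2 hW0
    rw [this]
    exact AddSubgroup.card_bot
  rw [hWcard] at s2 s3
  have hV : Nat.card V ≤ 1 := by rw [s2, one_pow, mul_one]; exact s3
  have hsub : Subsingleton V := (Nat.card_eq_one_iff_unique.1 (le_antisymm hV Nat.card_pos)).1
  exact Subsingleton.elim _ _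

end

end Cfsg.Agent.H413.U45.KerTwo
end

private theorem dce_13ecf809f76d : _root_.True := by
  try have : _root_.True := by simp only [_root_.Cfsg.Agent.H413.U45.Elts.cy.congr_simp]
  exact _root_.True.intro
end

-- part: H380/UF/ModThree
section
prune_inst 0x20506404752202000000801012000040640001900003000090800942010b10020000060032b00d02988888006004002003000110420000000a00040000040020808012043240a10406000f800000000000000000000000000000000000041004000000000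
set_option linter.all false
open scoped Cfsg.Agent.FastGrp

/-!
# Modules for `PSU₄(5)` in characteristic prime to 5: `5⁴:13` (helper380)

`eq_zero_of_thirteen` : if `PSU₄(5)` acts on an abelian group `V` without 5-torsion and the elements of order 13 have
no nonzero fixed vectors then `V = 0`.
-/

set_option autoImplicit false

namespace Cfsg.Agent.H380.UF

open Matrix Cfsg.Agent.H422.Recur

theorem pr_eq_of_mat {a b : SU4} (h : mat a = mat b) : pr a = pr b := by rw [mat_inj h]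

/-- a nontrivial element acts trivially: everything acts trivially -/
theorem trivial_of {V : Type*} [AddCommGroup V] (ρ : U4 →* AddMonoid.End V) {n : U4} (hn : n ≠ 1)
    (h : ∀ v : V, ρ n v = v) (g : U4) (v : V) : ρ g v = v := by
  have h1 : n ∈ ρ.ker := by
    rw [MonoidHom.mem_ker]
    exact AddMonoidHom.ext h
  rcases simple_U.eq_bot_or_eq_top_of_normal ρ.ker inferInstance with h2 | h2
  · rw [h2] at h1
    exact absurd (Subgroup.mem_bot.1 h1) hn
  · have : g ∈ ρ.ker := by rw [h2]; exact Subgroup.mem_top _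
    exact DFunLike.congr_fun (MonoidHom.mem_ker.1 this) v

abbrev A5 := ZMod 5 × ZMod 5 × ZMod 5 × ZMod 5

theorem cst_add : ∀ r s : ZMod 5, cst (r + s) = cst r + cst s := by decide +kernel

def B1 : M4 := !![⟨0, 1⟩, ⟨3, 1⟩, ⟨0, 0⟩, ⟨0, 0⟩; ⟨2, 1⟩, ⟨0, 4⟩, ⟨0, 0⟩, ⟨0, 0⟩; ⟨0, 0⟩, ⟨0, 0⟩, ⟨0, 0⟩, ⟨0, 0⟩; ⟨0, 0⟩, ⟨0, 0⟩, ⟨0, 0⟩, ⟨0, 0⟩]
def B2 : M4 := !![⟨0, 0⟩, ⟨0, 0⟩, ⟨0, 0⟩, ⟨0, 0⟩; ⟨0, 0⟩, ⟨0, 0⟩, ⟨0, 0⟩, ⟨0, 0⟩; ⟨0, 0⟩, ⟨0, 0⟩, ⟨0, 1⟩, ⟨3, 1⟩; ⟨0, 0⟩, ⟨0, 0⟩, ⟨2, 1⟩, ⟨0, 4⟩]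
def B3 : M4 := !![⟨0, 0⟩, ⟨0, 0⟩, ⟨1, 0⟩, ⟨1, 4⟩; ⟨0, 0⟩, ⟨0, 0⟩, ⟨1, 1⟩, ⟨4, 0⟩; ⟨4, 0⟩, ⟨4, 1⟩, ⟨0, 0⟩, ⟨0, 0⟩; ⟨4, 4⟩, ⟨1, 0⟩, ⟨0, 0⟩, ⟨0, 0⟩]
def B4 : M4 := !![⟨0, 0⟩, ⟨0, 0⟩, ⟨0, 1⟩, ⟨3, 1⟩; ⟨0, 0⟩, ⟨0, 0⟩, ⟨2, 1⟩, ⟨0, 4⟩; ⟨0, 1⟩, ⟨3, 1⟩, ⟨0, 0⟩, ⟨0, 0⟩; ⟨2, 1⟩, ⟨0, 4⟩, ⟨0, 0⟩, ⟨0, 0⟩]
def e13 : M4 := !![⟨2, 2⟩, ⟨2, 0⟩, ⟨4, 0⟩, ⟨0, 0⟩; ⟨1, 4⟩, ⟨2, 2⟩, ⟨0, 0⟩, ⟨4, 0⟩; ⟨1, 0⟩, ⟨0, 0⟩, ⟨2, 3⟩, ⟨1, 1⟩; ⟨0, 0⟩, ⟨1, 0⟩, ⟨2, 0⟩, ⟨2, 3⟩]
def e13_2 : M4 := !![⟨3, 1⟩, ⟨3, 3⟩, ⟨1, 0⟩, ⟨2, 4⟩; ⟨1, 0⟩, ⟨3, 1⟩, ⟨2, 1⟩, ⟨1, 0⟩; ⟨4, 0⟩, ⟨3, 1⟩, ⟨3, 4⟩, ⟨1, 0⟩; ⟨3, 4⟩, ⟨4, 0⟩, ⟨3, 2⟩, ⟨3, 4⟩]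
def e13_3 : M4 := !![⟨3, 3⟩, ⟨1, 3⟩, ⟨3, 0⟩, ⟨1, 2⟩; ⟨0, 1⟩, ⟨3, 3⟩, ⟨1, 3⟩, ⟨3, 0⟩; ⟨2, 0⟩, ⟨4, 3⟩, ⟨3, 2⟩, ⟨0, 4⟩; ⟨4, 2⟩, ⟨2, 0⟩, ⟨1, 2⟩, ⟨3, 2⟩]

def N5 (v : A5) : M4 := cst v.1 • B1 + cst v.2.1 • B2 + cst v.2.2.1 • B3 + cst v.2.2.2 • B4

theorem N5_add (v w : A5) : N5 (v + w) = N5 v + N5 w := by
  rw [N5, N5, N5]
  simp only [Prod.fst_add, Prod.snd_add, cst_add, add_smul]
  abel

theorem B11 : B1 * B1 = 0 := by decide +kernel
theorem B12 : B1 * B2 = 0 := by decide +kernel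
theorem B13 : B1 * B3 = 0 := by decide +kernel
theorem B14 : B1 * B4 = 0 := by decide +kernel
theorem B21 : B2 * B1 = 0 := by decide +kernel
theorem B22 : B2 * B2 = 0 := by decide +kernel
theorem B23 : B2 * B3 = 0 := by decide +kernel
theorem B24 : B2 * B4 = 0 := by decide +kernel
theorem B31 : B3 * B1 = 0 := by decide +kernel
theorem B32 : B3 * B2 = 0 := by decide +kernel
theorem B33 : B3 * B3 = 0 := by decide +kernel
theorem B34 : B3 * B4 = 0 := by decide +kernel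
theorem B41 : B4 * B1 = 0 := by decide +kernel
theorem B42 : B4 * B2 = 0 := by decide +kernel
theorem B43 : B4 * B3 = 0 := by decide +kernel
theorem B44 : B4 * B4 = 0 := by decide +kernel

theorem N5_mul (v w : A5) : N5 v * N5 w = 0 := by
  rw [N5, N5]
  simp only [add_mul, mul_add, smul_mul_smul_comm, B11, B12, B13, B14, B21, B22, B23, B24, B31, B32, B33,
    B34, B41, B42, B43, B44, smul_zero, add_zero]

theorem B1t : B1ᵀ = -B1.map cj := by decide +kernel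
theorem B2t : B2ᵀ = -B2.map cj := by decide +kernel
theorem B3t : B3ᵀ = -B3.map cj := by decide +kernel
theorem B4t : B4ᵀ = -B4.map cj := by decide +kernel

theorem cj_cst (r : ZMod 5) : cj (cst r) = cst r := by
  have : ∀ r : Fin 5, cj (cst r) = cst r := by decide +kernel
  exact this r

theorem map_smul_cst (r : ZMod 5) (B : M4) : (cst r • B).map cj = cst r • B.map cj := by
  refine Matrix.ext fun i j => ?_
  simp only [Matrix.map_apply, Matrix.smul_apply, smul_eq_mul, map_mul, cj_cst]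

theorem map_add' (A B : M4) : (A + B).map cj = A.map cj + B.map cj := by
  refine Matrix.ext fun i j => ?_
  simp only [Matrix.map_apply, Matrix.add_apply, map_add]

theorem map_mul' (A B : M4) : (A * B).map cj = A.map cj * B.map cj := Matrix.map_mul

theorem N5_transpose (v : A5) : (N5 v)ᵀ = -(N5 v).map cj := by
  rw [N5, map_add', map_add', map_add', map_smul_cst, map_smul_cst, map_smul_cst, map_smul_cst]
  simp only [Matrix.transpose_add, Matrix.transpose_smul, B1t, B2t, B3t, B4t, smul_neg]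
  abel

theorem N5_unit (v : A5) : (1 + N5 v)ᵀ * (1 + N5 v).map cj = 1 := by
  have h0 : (N5 v).map cj * (N5 v).map cj = 0 := by
    rw [← map_mul', N5_mul]
    refine Matrix.ext fun i j => ?_
    simp
  have h1 : (1 : M4).map cj = 1 := Matrix.map_one cj (map_zero cj) (map_one cj)
  rw [map_add', h1, Matrix.transpose_add, Matrix.transpose_one, N5_transpose, add_mul, mul_add, one_mul, neg_mul,
    mul_add, h0]
  simp

theorem five_smul (B : M4) : (5 : ℕ) • B = 0 := by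
  refine Matrix.ext fun i j => ?_
  rw [Matrix.smul_apply]
  have : ∀ x : FQ, (5 : ℕ) • x = 0 := by decide +kernel
  exact this _

theorem N5_pow (v : A5) (n : ℕ) : (1 + N5 v) ^ n = 1 + n • N5 v := by
  induction n with
  | zero => simp
  | succ n ih =>
    rw [pow_succ, ih, add_mul, mul_add, mul_add, one_mul, one_mul, mul_one, smul_mul_assoc, N5_mul, smul_zero,
      add_zero, succ_nsmul]
    abel

theorem N5_det (v : A5) : (1 + N5 v).det = 1 := by
  have h1 : (1 + N5 v).det ^ 5 = 1 := by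
    rw [← det_pow, N5_pow, five_smul, add_zero, det_one]
  have h2 := det_norm (N5_unit v)
  have : ∀ x : FQ, x ^ 5 = 1 → x * cj x = 1 → x = 1 := by decide +kernel
  exact this _ h1 h2

/-- the action of the element of order 13 -/
def act5 (v : A5) : A5 :=
  (4 * v.1 + v.2.1 + 2 * v.2.2.1 + 2 * v.2.2.2, v.1, 3 * v.1 + v.2.2.1, 4 * v.1 + 4 * v.2.2.2)

theorem act5_fix : ∀ v : A5, act5 v = v → v = 0 := by decide +kernel

theorem cst_mul : ∀ r s : ZMod 5, cst (r * s) = cst r * cst s := by decide +kernel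
theorem cst_one : cst (1 : ZMod 5) = 1 := by decide +kernel

theorem conj1 : e13 * B1 = (cst (4 : ZMod 5) • B1 + cst (1 : ZMod 5) • B2 + cst (3 : ZMod 5) • B3 + cst (4 : ZMod 5) • B4) * e13 := by
  decide +kernel
theorem conj2 : e13 * B2 = (cst (1 : ZMod 5) • B1) * e13 := by decide +kernel
theorem conj3 : e13 * B3 = (cst (2 : ZMod 5) • B1 + cst (1 : ZMod 5) • B3) * e13 := by decide +kernel
theorem conj4 : e13 * B4 = (cst (2 : ZMod 5) • B1 + cst (4 : ZMod 5) • B4) * e13 := by decide +kernel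

theorem act5_conj (v : A5) : e13 * N5 v = N5 (act5 v) * e13 := by
  have h : e13 * N5 v = cst v.1 • (e13 * B1) + cst v.2.1 • (e13 * B2) + cst v.2.2.1 • (e13 * B3) +
      cst v.2.2.2 • (e13 * B4) := by
    rw [N5]; simp only [mul_add, Matrix.mul_smul]
  rw [h, conj1, conj2, conj3, conj4, N5, act5]
  simp only [← Matrix.smul_mul, ← add_mul]
  (with_reducible congr 1)
  simp only [cst_add, cst_mul, cst_one]
  module

def g13 : SU4 := mk e13 (by decide +kernel) (by decide +kernel)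

theorem pf13 : Nat.primeFactors 13 = {13} := by decide +kernel

theorem order_13 : orderOf (pr g13) = 13 := by
  refine order_pr (a := ⟨3, 0⟩) (b := ⟨4, 0⟩) (c := ⟨3, 0⟩) (d := ⟨4, 0⟩) (M2 := e13_2) (M3 := e13_3)
    (by decide +kernel) (by decide +kernel) (by decide +kernel) (by norm_num) (by decide +kernel) ?_
  rw [pf13]; decide +kernel

/-- elements of the unipotent radical -/
def u5 (v : A5) : SU4 := mk (1 + N5 v) (N5_unit v) (N5_det v)

/-- the homomorphism from `5⁴` -/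
def f5 : Multiplicative A5 →* U4 where
  toFun v := pr (u5 v.toAdd)
  map_one' := by
    refine (QuotientGroup.eq_one_iff _).2 (mem_center (r := 1) ?_)
    change 1 + N5 0 = (1 : FQ) • (1 : M4)
    have h : N5 0 = 0 := by
      have := N5_add 0 0
      rw [add_zero] at this
      exact left_eq_add.1 this
    rw [h, add_zero, one_smul]
  map_mul' v w := by
    rw [← map_mul]
    apply pr_eq_of_mat
    change 1 + N5 (v.toAdd + w.toAdd) = (1 + N5 v.toAdd) * (1 + N5 w.toAdd)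
    rw [add_mul, mul_add (N5 v.toAdd), N5_mul, N5_add, mul_one, one_mul, add_zero]
    abel

theorem N5_inj {v w : A5} (h : N5 v = N5 w) : v = w := by
  have h1 := congrFun (congrFun h 0) 1
  have h2 := congrFun (congrFun h 2) 3
  have h3 := congrFun (congrFun h 0) 2
  obtain ⟨a, b, c, d⟩ := v
  obtain ⟨a', b', c', d'⟩ := w
  have e1 : ∀ a b c d : ZMod 5, N5 (a, b, c, d) 0 1 = cst a * ⟨3, 1⟩ := by
    intro a b c d
    simp only [N5, Matrix.add_apply, Matrix.smul_apply, smul_eq_mul]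
    rw [show B1 0 1 = ⟨3, 1⟩ from rfl, show B2 0 1 = 0 from rfl, show B3 0 1 = 0 from rfl, show B4 0 1 = 0 from rfl]
    ring
  have e2 : ∀ a b c d : ZMod 5, N5 (a, b, c, d) 2 3 = cst b * ⟨3, 1⟩ := by
    intro a b c d
    simp only [N5, Matrix.add_apply, Matrix.smul_apply, smul_eq_mul]
    rw [show B1 2 3 = 0 from rfl, show B2 2 3 = ⟨3, 1⟩ from rfl, show B3 2 3 = 0 from rfl, show B4 2 3 = 0 from rfl]
    ring
  have e3 : ∀ a b c d : ZMod 5, N5 (a, b, c, d) 0 2 = cst c + cst d * ⟨0, 1⟩ := by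
    intro a b c d
    simp only [N5, Matrix.add_apply, Matrix.smul_apply, smul_eq_mul]
    rw [show B1 0 2 = 0 from rfl, show B2 0 2 = 0 from rfl, show B3 0 2 = 1 from rfl, show B4 0 2 = ⟨0, 1⟩ from rfl]
    ring
  rw [e1, e1] at h1
  rw [e2, e2] at h2
  rw [e3, e3] at h3
  have k1 : ∀ a b : Fin 5, cst a * ⟨3, 1⟩ = cst b * ⟨3, 1⟩ → a = b := by decide +kernel
  have k3 : ∀ a b c d : Fin 5, cst a + cst b * ⟨0, 1⟩ = cst c + cst d * ⟨0, 1⟩ → a = c ∧ b = d := by decide +kernel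
  obtain ⟨rfl, rfl⟩ := k3 _ _ _ _ h3
  obtain rfl := k1 _ _ h1
  obtain rfl := k1 _ _ h2
  rfl

theorem f5_inj {v : Multiplicative A5} (h : f5 v = 1) : v = 1 := by
  obtain ⟨c, hc⟩ := pr_scalar h
  have h1 : mat (u5 v.toAdd) = 1 + N5 v.toAdd := rfl
  rw [h1] at hc
  have h2 : (1 + N5 v.toAdd) ^ 2 = c • (1 + N5 v.toAdd) := by
    conv_lhs => rw [pow_two]
    nth_rw 1 [hc]
    rw [smul_mul_assoc, one_mul]
  rw [N5_pow] at h2
  -- trace zero of `N5`
  have h3 : N5 v.toAdd = (c - 1) • (1 : M4) := by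
    rw [sub_smul, one_smul, ← hc]; abel
  have h4 := N5_mul v.toAdd v.toAdd
  rw [h3, smul_mul_smul_comm, one_mul] at h4
  have h5 : (c - 1) * (c - 1) = 0 := by
    have := congrFun (congrFun h4 0) 0
    simpa using this
  have h6 : c - 1 = 0 := mul_self_eq_zero.1 h5
  rw [h6, zero_smul] at h3
  have h7 : N5 0 = 0 := by
    have := N5_add 0 0
    rw [add_zero] at this
    exact left_eq_add.1 this
  exact congrArg Multiplicative.ofAdd (N5_inj (h3.trans h7.symm))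

theorem f5_conj (v : Multiplicative A5) :
    pr g13 * f5 v * (pr g13)⁻¹ = f5 (Multiplicative.ofAdd (act5 v.toAdd)) := by
  rw [mul_inv_eq_iff_eq_mul]
  change pr g13 * pr (u5 v.toAdd) = pr (u5 (act5 v.toAdd)) * pr g13
  rw [← map_mul, ← map_mul]
  apply pr_eq_of_mat
  change e13 * (1 + N5 v.toAdd) = (1 + N5 (act5 v.toAdd)) * e13
  rw [mul_add, add_mul, act5_conj, mul_one, one_mul]

/-- **modules without 5-torsion for which the elements of order 13 have no fixed vectors** -/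
theorem eq_zero_of_thirteen {V : Type*} [AddCommGroup V] (ρ : U4 →* AddMonoid.End V)
    (h5 : ∀ v : V, 5 • v = 0 → v = 0) (h13 : ∀ v : V, ρ (pr g13) v = v → v = 0) (v : V) : v = 0 := by
  have hcard : Nat.card f5.range ∣ 5 ^ 4 := by
    have h1 := Subgroup.card_range_dvd f5
    have h2 : Nat.card (Multiplicative A5) = 5 ^ 4 := by
      rw [Nat.card_congr Multiplicative.toAdd, Nat.card_prod, Nat.card_prod, Nat.card_prod, Nat.card_zmod]
      norm_num
    rwa [h2] at h1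
  have key : ∀ a ∈ f5.range, ∀ v, ρ a v = v := by
    refine Cfsg.Agent.H421.Act.frob_trivial ρ f5.range (pr g13) 13 (by norm_num) ?_ ?_ ?_ h13 ?_
    · rw [← order_13]; exact pow_orderOf_eq_one _
    · rintro _ ⟨a, rfl⟩
      exact ⟨_, (f5_conj a).symm⟩
    · rintro i hi hi13 _ ⟨a, rfl⟩ hc
      -- `z` is a power of `z ^ i`
      obtain ⟨k, hk⟩ : ∃ k : ℕ, ((pr g13) ^ i) ^ k = pr g13 := by
        have hcop : Nat.Coprime i 13 := by
          rw [Nat.coprime_comm, Nat.Prime.coprime_iff_not_dvd (by norm_num)]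
          exact fun h => absurd (Nat.le_of_dvd hi h) (by omega)
        obtain ⟨k, -, hk⟩ := Nat.exists_mul_mod_eq_one_of_coprime hcop (by norm_num)
        refine ⟨k, ?_⟩
        rw [← pow_mul, ← Nat.div_add_mod (i * k) 13, pow_add, pow_mul, ← order_13, pow_orderOf_eq_one, one_pow,
          one_mul, order_13, hk, pow_one]
      have h1 : Commute ((pr g13) ^ i) (f5 a) := hc
      have h2 : Commute (pr g13) (f5 a) := by
        rw [← hk]; exact h1.pow_left k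
      have h3 : pr g13 * f5 a * (pr g13)⁻¹ = f5 a := by
        rw [h2.eq, mul_inv_cancel_right]
      rw [f5_conj] at h3
      have h4 : f5 ((Multiplicative.ofAdd (act5 a.toAdd)) * a⁻¹) = 1 := by
        rw [map_mul, h3, map_inv, mul_inv_cancel]
      have h5 := mul_inv_eq_one.1 (f5_inj h4)
      have h6 : a = 1 := congrArg Multiplicative.ofAdd (act5_fix a.toAdd (congrArg Multiplicative.toAdd h5))
      rw [h6, map_one]
    · intro w hw
      obtain ⟨c, hc⟩ := hcard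
      have h1 : 5 ^ 4 • w = 0 := by rw [hc, mul_comm, mul_smul, hw, smul_zero]
      have e : ∀ u : V, 5 • u = 0 → u = 0 := h5
      apply e; apply e; apply e; apply e
      rw [← mul_smul, ← mul_smul, ← mul_smul]
      exact h1
  refine h13 v (trivial_of ρ (n := f5 (Multiplicative.ofAdd (1, 0, 0, 0))) ?_ (key _ ⟨_, rfl⟩) _ v)
  intro h
  have := congrArg Multiplicative.toAdd (f5_inj h)
  exact absurd this (by decide)

end Cfsg.Agent.H380.UF

private theorem dce_5fd12dc28fc2 : _root_.True := by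
  try have : _root_.True := by simp only [_root_.Cfsg.Agent.H380.UF.act5.eq_1]
  try have : _root_.True := by simp only [_root_.Cfsg.Agent.H380.UF.N5.eq_1]
  exact _root_.True.intro
end

-- part: H380/UF/ASevenHom
section
prune_inst 0xe4506604452202000000851232000004640001900023000118800840094e13200900270070803d02180a8a800006002003000010420000002a00840040040020848a52463340a10426000f807801100000000000000000000000000000041004000000000
set_option linter.all false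
open scoped Cfsg.Agent.FastGrp

-- part: H380/UF/ASevenFive
section
/-!
# Modules for `A₇` in characteristic 5 on which the 7-cycles act fixed-point-freely (helper380)

`main` : if moreover `|C_V(a)|² ≤ |V|` for the involution `a = (0 1)(2 3)` then `V = 0`.
-/

set_option autoImplicit false
set_option maxRecDepth 100000

namespace Cfsg.Agent.H380.UF.ASevenFive

open Cfsg.Agent.H413.U45.ASeven (A7 perm cA xA yA)

/-- the involution `(0 1)(2 3)` -/
def aA : A7 := ⟨perm [1, 0, 3, 2, 4, 5, 6] [1, 0, 3, 2, 4, 5, 6] (by decide), Equiv.Perm.mem_alternatingGroup.2 (by decide +kernel)⟩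
/-- the multiplication by 2 -/
def tA : A7 := ⟨perm [0, 2, 4, 6, 1, 3, 5] [0, 4, 1, 5, 2, 6, 3] (by decide), Equiv.Perm.mem_alternatingGroup.2 (by decide +kernel)⟩
/-- conjugates `tA` to `xA yA` -/
def gA : A7 := ⟨perm [6, 1, 2, 3, 0, 5, 4] [4, 1, 2, 3, 6, 5, 0] (by decide), Equiv.Perm.mem_alternatingGroup.2 (by decide +kernel)⟩
/-- conjugates `xA` to `yA` -/
def hA : A7 := ⟨perm [3, 4, 5, 0, 1, 2, 6] [3, 4, 5, 0, 1, 2, 6] (by decide) * perm [0, 1, 2, 4, 3, 5, 6] [0, 1, 2, 4, 3, 5, 6] (by decide),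
  Equiv.Perm.mem_alternatingGroup.2 (by decide +kernel)⟩

theorem eq_of {σ τ : A7} (h : σ.1 = τ.1) : σ = τ := Subtype.ext h

theorem t_conj : tA * cA * tA⁻¹ = cA * cA := eq_of (by decide +kernel)
theorem t_cube : tA ^ 3 = 1 := eq_of (by decide +kernel)
theorem g_conj : gA * tA * gA⁻¹ = xA * yA := eq_of (by decide +kernel)
theorem c_seven : cA ^ 7 = 1 := eq_of (by decide +kernel)
theorem xy_comm : xA * yA = yA * xA := eq_of (by decide +kernel)
theorem x_cube : xA * xA * xA = 1 := eq_of (by decide +kernel)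
theorem y_cube : yA * yA * yA = 1 := eq_of (by decide +kernel)
theorem a_sq : aA * aA = 1 := eq_of (by decide +kernel)
theorem a_rel : aA * (xA * aA * xA⁻¹) = xA⁻¹ * aA * xA := eq_of (by decide +kernel)
theorem h_conj : hA * xA * hA⁻¹ = yA := eq_of (by decide +kernel)

section

variable {V : Type*} [AddCommGroup V] (ρ : A7 →* AddMonoid.End V)

theorem ap_mul (g h : A7) (v : V) : ρ (g * h) v = ρ g (ρ h v) := by rw [map_mul]; rfl

theorem ap_one (v : V) : ρ 1 v = v := by rw [map_one]; rfl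

theorem ap_inv (g : A7) (v : V) : ρ g⁻¹ (ρ g v) = v := by rw [← ap_mul, inv_mul_cancel, ap_one]

theorem ap_inv' (g : A7) (v : V) : ρ g (ρ g⁻¹ v) = v := by rw [← ap_mul, mul_inv_cancel, ap_one]

/-- fixed vectors -/
def fx (g : A7) : AddSubgroup V where
  carrier := {v | ρ g v = v}
  add_mem' := by
    intro a b ha hb
    change ρ g (a + b) = a + b
    rw [map_add]
    exact congrArg₂ _ ha hb
  zero_mem' := map_zero _
  neg_mem' := by
    intro a ha
    change ρ g (-a) = -a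
    rw [map_neg]
    exact congrArg _ ha

variable {ρ}

theorem mem_fx {g : A7} {v : V} : v ∈ fx ρ g ↔ ρ g v = v := Iff.rfl

variable (ρ)

/-- `1 + g + g²` -/
def tr (g : A7) : V →+ V := (1 + ρ g + ρ g * ρ g : AddMonoid.End V)

theorem tr_apply (g : A7) (v : V) : tr ρ g v = v + ρ g v + ρ g (ρ g v) := rfl

variable {ρ}

/-- **Modules for `A₇` in characteristic 5.** -/
theorem main [Finite V] (h5 : ∀ v : V, 5 • v = 0) (h7 : ∀ v : V, ρ cA v = v → v = 0)
    (ha : Nat.card (fx ρ aA) ^ 2 ≤ Nat.card V) (v : V) : v = 0 := by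
  have hx3 : ∀ v, ρ xA (ρ xA (ρ xA v)) = v := fun v => by
    rw [← ap_mul, ← ap_mul, x_cube, ap_one]
  have hy3 : ∀ v, ρ yA (ρ yA (ρ yA v)) = v := fun v => by
    rw [← ap_mul, ← ap_mul, y_cube, ap_one]
  have hxy : ∀ v, ρ xA (ρ yA v) = ρ yA (ρ xA v) := fun v => by
    rw [← ap_mul, xy_comm, ap_mul]
  have key : ∀ w : V, tr ρ xA w = 0 → tr ρ yA w = 0 → w = 0 := fun w h1 h2 =>
    Cfsg.Agent.H413.U45.ASeven.main (Or.inr rfl) h5 h7 h1 h2
  have h3c : ∀ w : V, w + w + w = 0 → w = 0 := by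
    intro w hw
    have h1 : (5 : ℕ) • w = (w + w + w) + (w + w) := by
      rw [succ_nsmul, succ_nsmul, succ_nsmul, succ_nsmul, one_nsmul]; abel
    have h2 : w + w = 0 := by
      have := h5 w
      rwa [h1, hw, zero_add] at this
    rwa [h2, zero_add] at hw
  -- `V_(y) ≤ V^x`
  have hle : (tr ρ yA).ker ≤ fx ρ xA := by
    intro w hw
    rw [AddMonoidHom.mem_ker, tr_apply] at hw
    rw [mem_fx, ← sub_eq_zero]
    apply key
    · rw [tr_apply]
      simp only [map_sub, hx3]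
      abel
    · rw [tr_apply]
      have e : ρ xA w - w + ρ yA (ρ xA w - w) + ρ yA (ρ yA (ρ xA w - w)) =
          ρ xA (w + ρ yA w + ρ yA (ρ yA w)) - (w + ρ yA w + ρ yA (ρ yA w)) := by
        simp only [map_sub, map_add, hxy]
        abel
      rw [e, hw, map_zero, sub_zero]
  -- `V^x → V^a`
  have hinj : Nat.card (fx ρ xA) ≤ Nat.card (fx ρ aA) := by
    let f : fx ρ xA → fx ρ aA := fun w => ⟨w.1 + ρ aA w.1, by
      rw [mem_fx, map_add, ← ap_mul, a_sq, ap_one, add_comm]⟩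
    refine Nat.card_le_card_of_injective f ?_
    intro w w' hww
    have h1 : w.1 + ρ aA w.1 = w'.1 + ρ aA w'.1 := congrArg Subtype.val hww
    set u := w.1 - w'.1 with hu
    have hu1 : ρ aA u = -u := by
      rw [hu, map_sub]
      rw [eq_neg_iff_add_eq_zero]
      have : ρ aA w.1 - ρ aA w'.1 + (w.1 - w'.1) = (w.1 + ρ aA w.1) - (w'.1 + ρ aA w'.1) := by abel
      rw [this, h1, sub_self]
    have hux : ρ xA u = u := by
      have := (fx ρ xA).sub_mem w.2 w'.2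
      exact mem_fx.1 this
    have hux' : ρ xA⁻¹ u = u := by
      conv_lhs => rw [← hux]
      rw [ap_inv]
    have h2 := congrArg (fun g => ρ g u) a_rel
    simp only [ap_mul, hux, hux', hu1, map_neg, neg_neg] at h2
    -- `u = -u`
    have h3 : u = 0 := by
      have h4 : u + u = 0 := by
        nth_rw 1 [h2]
        exact neg_add_cancel u
      have h6 : (5 : ℕ) • u = (u + u) + (u + u) + u := by
        rw [succ_nsmul, succ_nsmul, succ_nsmul, succ_nsmul, one_nsmul]; abel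
      have := h5 u
      rwa [h6, h4, zero_add, zero_add] at this
    exact Subtype.ext (sub_eq_zero.1 h3)
  -- `|V| ≤ |V_(x)| |V^x|`
  have hV : Nat.card V ≤ Nat.card (tr ρ xA).ker * Nat.card (fx ρ xA) := by
    rw [AddSubgroup.card_eq_card_quotient_mul_card_addSubgroup (tr ρ xA).ker, mul_comm]
    refine Nat.mul_le_mul_left _ ?_
    rw [Nat.card_congr (QuotientAddGroup.quotientKerEquivRange (tr ρ xA)).toEquiv]
    refine Nat.card_le_card_of_injective (Set.inclusion ?_) (Set.inclusion_injective _)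
    rintro _ ⟨w, rfl⟩
    change _ ∈ fx ρ xA
    rw [mem_fx, tr_apply, map_add, map_add, hx3]
    abel
  have hxyc : Nat.card (tr ρ xA).ker = Nat.card (tr ρ yA).ker := by
    refine Nat.card_congr ⟨fun w => ⟨ρ hA w.1, ?_⟩, fun w => ⟨ρ hA⁻¹ w.1, ?_⟩, fun w => Subtype.ext (ap_inv ρ _ _),
      fun w => Subtype.ext (ap_inv' ρ _ _)⟩
    · have h1 := AddMonoidHom.mem_ker.1 w.2
      rw [tr_apply] at h1
      rw [AddMonoidHom.mem_ker, tr_apply]
      have e : ∀ u, ρ yA (ρ hA u) = ρ hA (ρ xA u) := fun u => by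
        rw [← ap_mul, ← ap_mul]
        congr 2
        rw [← h_conj]; group
      rw [e, e, ← map_add, ← map_add, h1, map_zero]
    · have h1 := AddMonoidHom.mem_ker.1 w.2
      rw [tr_apply] at h1
      rw [AddMonoidHom.mem_ker, tr_apply]
      have e : ∀ u, ρ xA (ρ hA⁻¹ u) = ρ hA⁻¹ (ρ yA u) := fun u => by
        rw [← ap_mul, ← ap_mul]
        congr 2
        rw [← h_conj]; group
      rw [e, e, ← map_add, ← map_add, h1, map_zero]
  have hcle : Nat.card (tr ρ yA).ker ≤ Nat.card (fx ρ xA) :=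
    Nat.card_le_card_of_injective (Set.inclusion hle) (Set.inclusion_injective _)
  have heq : (tr ρ yA).ker = fx ρ xA := by
    refine AddSubgroup.eq_of_le_of_card_ge hle ?_
    rw [hxyc] at hV
    have h1 : Nat.card (fx ρ aA) ^ 2 ≤ Nat.card (tr ρ yA).ker * Nat.card (fx ρ aA) :=
      ha.trans (hV.trans (Nat.mul_le_mul_left _ hinj))
    rw [pow_two] at h1
    exact hinj.trans (Nat.le_of_mul_le_mul_right h1 Nat.card_pos)
  -- `xy` has no fixed vectors
  have hfp : ∀ w : V, ρ (xA * yA) w = w → w = 0 := by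
    intro w hw
    rw [ap_mul] at hw
    have e1 : ρ yA w = ρ xA (ρ xA w) := by
      have := congrArg (fun u => ρ xA (ρ xA u)) hw
      simpa only [hx3] using this
    have e2 : ρ yA (ρ yA w) = ρ xA w := by
      rw [e1, ← hxy, ← hxy, e1, hx3]
    have e3 : tr ρ yA w = tr ρ xA w := by
      rw [tr_apply, tr_apply, e2, e1]; abel
    have e4 : tr ρ xA w ∈ fx ρ xA := by
      rw [mem_fx, tr_apply, map_add, map_add, hx3]; abel
    have e5 : ρ yA (tr ρ xA w) = tr ρ xA w := by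
      rw [← e3, tr_apply, map_add, map_add, hy3]; abel
    have e6 : tr ρ xA w = 0 := by
      rw [← heq, AddMonoidHom.mem_ker, tr_apply, e5, e5] at e4
      exact h3c _ e4
    exact key w e6 (e3.trans e6)
  have hft : ∀ w : V, ρ tA w = w → w = 0 := by
    intro w hw
    have h1 : ρ (xA * yA) (ρ gA w) = ρ gA w := by
      rw [← ap_mul, ← g_conj, inv_mul_cancel_right, ap_mul, hw]
    have h2 := hfp _ h1
    rw [← ap_inv ρ gA w, h2, map_zero]
  have hc7 : orderOf cA = 7 := by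
    have : Fact (Nat.Prime 7) := ⟨by norm_num⟩
    exact orderOf_eq_prime c_seven (by decide +kernel)
  apply h7
  refine Cfsg.Agent.H421.Act.frob_trivial ρ (Subgroup.zpowers cA) tA 3 (by norm_num) t_cube ?_ ?_ hft ?_ cA
    (Subgroup.mem_zpowers cA) v
  · intro a ha'
    obtain ⟨k, rfl⟩ := Subgroup.mem_zpowers_iff.1 ha'
    rw [← conj_zpow, t_conj]
    exact Subgroup.zpow_mem _ (Subgroup.mul_mem _ (Subgroup.mem_zpowers cA) (Subgroup.mem_zpowers cA)) k
  · intro i hi hi3 a ha' hc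
    obtain ⟨k, rfl⟩ := Subgroup.mem_zpowers_iff.1 ha'
    have h1 : tA ^ i * cA ^ k * (tA ^ i)⁻¹ = cA ^ k := by rw [hc, mul_inv_cancel_right]
    rw [← conj_zpow] at h1
    have h2 : i = 1 ∨ i = 2 := by omega
    have h3 : ∀ m : ℤ, cA ^ (m * k) = cA ^ k → (7 : ℤ) ∣ (m - 1) * k := by
      intro m hm
      have h4 : cA ^ ((m - 1) * k) = 1 := by
        rw [sub_mul, one_mul, zpow_sub, hm, mul_inv_cancel]
      have h5 := orderOf_dvd_iff_zpow_eq_one.2 h4
      rwa [hc7] at h5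
    have h4 : (7 : ℤ) ∣ k := by
      rcases h2 with rfl | rfl
      · rw [pow_one, t_conj, ← pow_two, ← zpow_natCast, ← zpow_mul] at h1
        have := h3 2 (by exact_mod_cast h1)
        omega
      · have e : tA ^ 2 * cA * (tA ^ 2)⁻¹ = cA ^ 4 := eq_of (by decide +kernel)
        rw [e, ← zpow_natCast, ← zpow_mul] at h1
        have := h3 4 (by exact_mod_cast h1)
        omega
    rw [← orderOf_dvd_iff_zpow_eq_one, hc7]
    exact h4
  · intro w hw
    rw [Nat.card_zpowers, hc7] at hw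
    have h1 : (7 : ℕ) • w = (5 : ℕ) • w + (w + w) := by
      rw [show 7 = 5 + 1 + 1 from rfl, add_nsmul, add_nsmul, one_nsmul]; abel
    rw [h1, h5, zero_add] at hw
    have h6 : (5 : ℕ) • w = (w + w) + (w + w) + w := by
      rw [succ_nsmul, succ_nsmul, succ_nsmul, succ_nsmul, one_nsmul]; abel
    have := h5 w
    rwa [h6, hw, zero_add, zero_add] at this

end

end Cfsg.Agent.H380.UF.ASevenFive
end

-- part: H380/UF/ASevenHom
section
/-!
# `A₇` in `PSU₄(5)`, modules in characteristic 5 (helper380)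

* `phi7 : A₇ →* U4`, the images of the Carmichael generators `(i 5 6)` are `pr (TT i)`;
* `eq_zero_of_seven_thirteen` : a finite module of exponent 5 without fixed vectors of elements of order 7 and 13 is 0.
-/

set_option autoImplicit false
set_option maxRecDepth 100000

namespace Cfsg.Agent.H380.UF

open Matrix Cfsg.Agent.H422.Recur
open Cfsg.Agent.H413.U45.ASeven (A7 perm cA xA yA)
open Cfsg.Agent.H380.UF.ASevenFive (aA)
open Cfsg.Agent.Lib.AltCarmichael (Rel cyc cyc_mem exists_hom)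

def t0 : M4 := !![⟨2, 2⟩, ⟨0, 0⟩, ⟨0, 0⟩, ⟨0, 0⟩; ⟨0, 0⟩, ⟨2, 2⟩, ⟨0, 0⟩, ⟨0, 0⟩; ⟨0, 0⟩, ⟨0, 0⟩, ⟨2, 3⟩, ⟨0, 0⟩; ⟨0, 0⟩, ⟨0, 0⟩, ⟨0, 0⟩, ⟨2, 3⟩]
def t1 : M4 := !![⟨2, 4⟩, ⟨0, 0⟩, ⟨0, 0⟩, ⟨1, 4⟩; ⟨0, 0⟩, ⟨2, 4⟩, ⟨4, 1⟩, ⟨0, 0⟩; ⟨0, 0⟩, ⟨1, 1⟩, ⟨2, 1⟩, ⟨0, 0⟩; ⟨4, 4⟩, ⟨0, 0⟩, ⟨0, 0⟩, ⟨2, 1⟩]
def t2 : M4 := !![⟨2, 4⟩, ⟨0, 0⟩, ⟨0, 2⟩, ⟨0, 3⟩; ⟨0, 0⟩, ⟨2, 4⟩, ⟨2, 1⟩, ⟨2, 1⟩; ⟨0, 2⟩, ⟨3, 1⟩, ⟨2, 1⟩, ⟨0, 0⟩; ⟨0, 3⟩, ⟨3, 1⟩, ⟨0, 0⟩, ⟨2, 1⟩]
def t3 : M4 := !![⟨2, 4⟩, ⟨0, 0⟩, ⟨1, 3⟩, ⟨2, 2⟩; ⟨0, 0⟩, ⟨2, 4⟩, ⟨4, 0⟩, ⟨0, 1⟩; ⟨4, 3⟩, ⟨1, 0⟩, ⟨2, 1⟩, ⟨0, 0⟩; ⟨3, 2⟩, ⟨0, 1⟩, ⟨0, 0⟩, ⟨2, 1⟩]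
def t4 : M4 := !![⟨2, 4⟩, ⟨0, 0⟩, ⟨2, 4⟩, ⟨0, 3⟩; ⟨0, 0⟩, ⟨2, 4⟩, ⟨2, 1⟩, ⟨3, 1⟩; ⟨3, 4⟩, ⟨3, 1⟩, ⟨2, 1⟩, ⟨0, 0⟩; ⟨0, 3⟩, ⟨2, 1⟩, ⟨0, 0⟩, ⟨2, 1⟩]
def ps1 : M4 := !![⟨0, 2⟩, ⟨2, 4⟩, ⟨3, 2⟩, ⟨2, 3⟩; ⟨3, 4⟩, ⟨0, 0⟩, ⟨4, 2⟩, ⟨2, 2⟩; ⟨2, 2⟩, ⟨1, 2⟩, ⟨0, 0⟩, ⟨3, 4⟩; ⟨3, 3⟩, ⟨3, 2⟩, ⟨2, 4⟩, ⟨0, 3⟩]
def ps2 : M4 := !![⟨2, 1⟩, ⟨1, 1⟩, ⟨0, 2⟩, ⟨4, 3⟩; ⟨3, 4⟩, ⟨1, 3⟩, ⟨3, 4⟩, ⟨2, 0⟩; ⟨4, 1⟩, ⟨0, 3⟩, ⟨4, 4⟩, ⟨2, 2⟩; ⟨4, 2⟩, ⟨2, 4⟩, ⟨4, 3⟩, ⟨4, 2⟩]
def ps3 : M4 := !![⟨3, 1⟩, ⟨1, 4⟩, ⟨2, 4⟩, ⟨1, 3⟩; ⟨2, 4⟩, ⟨4, 3⟩, ⟨0, 2⟩, ⟨4, 1⟩; ⟨2, 0⟩, ⟨2, 1⟩, ⟨2, 0⟩, ⟨1, 0⟩; ⟨1, 2⟩, ⟨0, 2⟩, ⟨1, 3⟩, ⟨0, 1⟩]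
def pu1 : M4 := !![⟨0, 0⟩, ⟨0, 3⟩, ⟨3, 4⟩, ⟨0, 2⟩; ⟨0, 3⟩, ⟨0, 2⟩, ⟨3, 4⟩, ⟨0, 0⟩; ⟨2, 4⟩, ⟨2, 4⟩, ⟨0, 0⟩, ⟨2, 4⟩; ⟨0, 2⟩, ⟨0, 0⟩, ⟨3, 4⟩, ⟨0, 3⟩]
def pv1 : M4 := !![⟨0, 2⟩, ⟨0, 0⟩, ⟨2, 4⟩, ⟨3, 1⟩; ⟨0, 0⟩, ⟨0, 2⟩, ⟨0, 3⟩, ⟨0, 3⟩; ⟨3, 4⟩, ⟨0, 3⟩, ⟨0, 3⟩, ⟨0, 0⟩; ⟨2, 1⟩, ⟨0, 3⟩, ⟨0, 0⟩, ⟨0, 3⟩]
def mc : M4 := !![⟨3, 1⟩, ⟨0, 3⟩, ⟨0, 0⟩, ⟨3, 1⟩; ⟨3, 1⟩, ⟨0, 2⟩, ⟨3, 4⟩, ⟨0, 0⟩; ⟨3, 3⟩, ⟨2, 3⟩, ⟨3, 0⟩, ⟨0, 0⟩; ⟨2, 2⟩, ⟨2, 3⟩, ⟨0, 0⟩, ⟨1, 1⟩]
def ma : M4 := !![⟨0, 1⟩, ⟨2, 3⟩, ⟨4, 2⟩, ⟨1, 4⟩; ⟨3, 3⟩, ⟨0, 4⟩, ⟨1, 4⟩, ⟨0, 1⟩; ⟨1, 2⟩, ⟨4, 4⟩, ⟨0, 1⟩, ⟨3, 3⟩; ⟨4, 4⟩, ⟨0, 1⟩, ⟨2, 3⟩, ⟨0, 4⟩]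
def mg : M4 := !![⟨3, 4⟩, ⟨0, 0⟩, ⟨3, 0⟩, ⟨0, 0⟩; ⟨4, 1⟩, ⟨0, 0⟩, ⟨2, 1⟩, ⟨0, 0⟩; ⟨0, 0⟩, ⟨3, 3⟩, ⟨0, 0⟩, ⟨0, 0⟩; ⟨0, 0⟩, ⟨0, 0⟩, ⟨0, 0⟩, ⟨1, 0⟩]
def my : M4 := !![⟨1, 2⟩, ⟨3, 4⟩, ⟨2, 0⟩, ⟨2, 1⟩; ⟨0, 0⟩, ⟨2, 0⟩, ⟨4, 3⟩, ⟨3, 0⟩; ⟨0, 4⟩, ⟨2, 4⟩, ⟨4, 4⟩, ⟨3, 1⟩; ⟨0, 0⟩, ⟨0, 4⟩, ⟨0, 0⟩, ⟨0, 4⟩]
def my_2 : M4 := !![⟨4, 2⟩, ⟨2, 4⟩, ⟨1, 2⟩, ⟨4, 2⟩; ⟨4, 1⟩, ⟨1, 4⟩, ⟨3, 4⟩, ⟨4, 0⟩; ⟨3, 0⟩, ⟨4, 1⟩, ⟨0, 2⟩, ⟨2, 3⟩; ⟨0, 0⟩, ⟨2, 3⟩, ⟨4, 1⟩, ⟨2, 2⟩]
def my_3 : M4 := !![⟨3, 4⟩, ⟨1, 4⟩, ⟨0, 3⟩, ⟨1, 3⟩; ⟨0, 1⟩, ⟨0, 3⟩, ⟨0, 4⟩, ⟨0, 4⟩; ⟨4, 1⟩, ⟨2, 1⟩, ⟨4, 4⟩, ⟨1, 0⟩; ⟨3, 1⟩, ⟨1, 2⟩, ⟨0, 3⟩, ⟨1, 4⟩]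

/-- lifts of the 3-cycles `(i 5 6)` -/
def TT : ℕ → SU4
  | 0 => mk t0 (by decide +kernel) (by decide +kernel)
  | 1 => mk t1 (by decide +kernel) (by decide +kernel)
  | 2 => mk t2 (by decide +kernel) (by decide +kernel)
  | 3 => mk t3 (by decide +kernel) (by decide +kernel)
  | _ => mk t4 (by decide +kernel) (by decide +kernel)

theorem cube_of {g : SU4} (h : mat g * mat g * mat g = 1) : pr g ^ 3 = 1 := by
  have : g ^ 3 = 1 := by
    apply mat_inj
    rw [mat_pow, pow_succ, pow_two]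
    exact h
  rw [← map_pow, this, map_one]

theorem sq_of {g k : SU4} (h : mat g * mat k * (mat g * mat k) = (-1 : FQ) • (1 : M4)) : (pr g * pr k) ^ 2 = 1 := by
  rw [← map_mul, ← map_pow]
  refine (QuotientGroup.eq_one_iff _).2 (mem_center (r := -1) ?_)
  rw [mat_pow, mat_mul, pow_two]
  exact h

theorem rel_TT : Rel 5 (fun i => pr (TT i)) where
  cube := by
    intro i hi
    interval_cases i <;> exact cube_of (by decide +kernel)
  sq := by
    intro i hi j hj hij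
    interval_cases i <;> interval_cases j <;> first
      | exact absurd rfl hij
      | exact sq_of (by decide +kernel)

/-- the homomorphism from `A₇` -/
noncomputable def phi7 : A7 →* U4 := (exists_hom (m := 5) (by norm_num) rel_TT).choose

/-- the Carmichael generators -/
def cg (i : ℕ) (hi : i < 5) : A7 := ⟨cyc 5 i, cyc_mem 5 i hi⟩

theorem phi7_cg (i : ℕ) (hi : i < 5) : phi7 (cg i hi) = pr (TT i) :=
  (exists_hom (m := 5) (by norm_num) rel_TT).choose_spec i hi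

theorem word_c : cA = cg 4 (by norm_num) * cg 2 (by norm_num) * (cg 3 (by norm_num) * cg 1 (by norm_num) *
    cg 2 (by norm_num) * cg 0 (by norm_num)) := Subtype.ext (by decide +kernel)

theorem word_a : aA = cg 2 (by norm_num) * cg 0 (by norm_num) * (cg 3 (by norm_num) * cg 1 (by norm_num) *
    cg 2 (by norm_num) * cg 0 (by norm_num)) := Subtype.ext (by decide +kernel)

theorem mps : mat (TT 3 * TT 1 * TT 2 * TT 0) = ps3 := by
  rw [mat_mul, mat_mul, mat_mul]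
  have h1 : mat (TT 3) * mat (TT 1) = ps1 := by decide +kernel
  have h2 : ps1 * mat (TT 2) = ps2 := by decide +kernel
  have h3 : ps2 * mat (TT 0) = ps3 := by decide +kernel
  rw [h1, h2, h3]

theorem mmc : mat (TT 4 * TT 2 * (TT 3 * TT 1 * TT 2 * TT 0)) = mc := by
  rw [mat_mul, mps, mat_mul]
  have h1 : mat (TT 4) * mat (TT 2) = pu1 := by decide +kernel
  have h2 : pu1 * ps3 = mc := by decide +kernel
  rw [h1, h2]

theorem mma : mat (TT 2 * TT 0 * (TT 3 * TT 1 * TT 2 * TT 0)) = ma := by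
  rw [mat_mul, mps, mat_mul]
  have h1 : mat (TT 2) * mat (TT 0) = pv1 := by decide +kernel
  have h2 : pv1 * ps3 = ma := by decide +kernel
  rw [h1, h2]

theorem phi7_c : phi7 cA = pr (TT 4 * TT 2 * (TT 3 * TT 1 * TT 2 * TT 0)) := by
  rw [word_c]
  simp only [map_mul, phi7_cg]

theorem phi7_a : phi7 aA = pr (TT 2 * TT 0 * (TT 3 * TT 1 * TT 2 * TT 0)) := by
  rw [word_a]
  simp only [map_mul, phi7_cg]

theorem order_phi7_c : orderOf (phi7 cA) = 7 := by
  have : Fact (Nat.Prime 7) := ⟨by norm_num⟩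
  refine orderOf_eq_prime ?_ ?_
  · rw [← map_pow, ASevenFive.c_seven, map_one]
  · rw [phi7_c]
    intro h
    obtain ⟨c, hc⟩ := pr_scalar h
    rw [mmc] at hc
    exact (show NS mc by decide +kernel).ne hc

/-- the element conjugating the involution -/
def gG : SU4 := mk mg (by decide +kernel) (by decide +kernel)
/-- an element of order 13 inverted by the involution -/
def gY : SU4 := mk my (by decide +kernel) (by decide +kernel)

theorem order_Y : orderOf (pr gY) = 13 := by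
  refine order_pr (a := ⟨2, 0⟩) (b := ⟨4, 0⟩) (c := ⟨2, 0⟩) (d := ⟨4, 0⟩) (M2 := my_2) (M3 := my_3)
    (by decide +kernel) (by decide +kernel) (by decide +kernel) (by norm_num) (by decide +kernel) ?_
  rw [pf13]; decide +kernel

/-- `a (g a g⁻¹) = y` -/
theorem a_conj : phi7 aA * (pr gG * phi7 aA * (pr gG)⁻¹) = pr gY := by
  have h : ∀ r : SU4, mat r = ma → r * (gG * r) = gY * gG := by
    intro r hr
    apply mat_inj
    rw [mat_mul, mat_mul, mat_mul, hr]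
    change ma * (mg * ma) = my * mg
    decide +kernel
  rw [phi7_a, ← mul_assoc, mul_inv_eq_iff_eq_mul, ← map_mul, ← map_mul, ← map_mul, h _ mma]

/-- **Modules in characteristic 5.** -/
theorem eq_zero_of_seven_thirteen {V : Type*} [AddCommGroup V] [Finite V] (ρ : U4 →* AddMonoid.End V)
    (h5 : ∀ v : V, 5 • v = 0) (h7 : ∀ g, orderOf g = 7 → ∀ v : V, ρ g v = v → v = 0)
    (h13 : ∀ g, orderOf g = 13 → ∀ v : V, ρ g v = v → v = 0) (v : V) : v = 0 := by
  refine ASevenFive.main (ρ := ρ.comp phi7) h5 (h7 _ order_phi7_c) ?_ v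
  set a := phi7 aA with ha
  set g := pr gG with hg
  let f : ASevenFive.fx (ρ.comp phi7) aA × ASevenFive.fx (ρ.comp phi7) aA → V := fun p => p.1.1 + ρ g p.2.1
  have hf : Function.Injective f := by
    rintro ⟨⟨u, hu⟩, ⟨w, hw⟩⟩ ⟨⟨u', hu'⟩, ⟨w', hw'⟩⟩ h
    have h1 : u + ρ g w = u' + ρ g w' := h
    have e1 : ρ a u = u := hu
    have e2 : ρ a w = w := hw
    have e3 : ρ a u' = u' := hu'
    have e4 : ρ a w' = w' := hw'
    have hm : ∀ (s t : U4) (x : V), ρ (s * t) x = ρ s (ρ t x) := fun s t x => by rw [map_mul]; rfl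
    have h2 : u - u' = 0 := by
      apply h13 _ order_Y
      rw [← a_conj, ← ha, ← hg]
      have h3 : u - u' = ρ g (w' - w) := by
        rw [map_sub]
        rw [sub_eq_sub_iff_add_eq_add, h1, add_comm]
      have h4 : ρ (g * a * g⁻¹) (u - u') = u - u' := by
        rw [h3, ← hm, inv_mul_cancel_right, hm, map_sub, e4, e2]
      rw [hm, h4, map_sub, e1, e3]
    have h3 : u = u' := sub_eq_zero.1 h2
    have h4 : ρ g w = ρ g w' := by
      rw [h3] at h1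
      exact add_left_cancel h1
    have h5 : w = w' := by
      have := congrArg (ρ g⁻¹) h4
      rw [← hm, ← hm, inv_mul_cancel, map_one] at this
      exact this
    simp only [h3, h5]
  have h1 := Nat.card_le_card_of_injective f hf
  rw [Nat.card_prod] at h1
  rw [pow_two]
  exact h1

end Cfsg.Agent.H380.UF
end

private theorem dce_39c07681fb1c : _root_.True := by
  try have : _root_.True := by simp only [_root_.Cfsg.Agent.H380.UF.cg.congr_simp]
  exact _root_.True.intro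
end

-- part: H380/UF/Pairs
section
set_option linter.all false
open scoped Cfsg.Agent.FastGrp

/-!
# Commuting pairs of elements of order 5 and 3 in `PSU₄(5)` (helper380)
-/

set_option autoImplicit false

namespace Cfsg.Agent.H380.UF

open Matrix Cfsg.Agent.H422.Recur

theorem five_A5 (v : A5) : 5 • v = 0 := by
  obtain ⟨a, b, c, d⟩ := v
  have h : ∀ r : ZMod 5, (5 : ℕ) • r = 0 := by decide
  simp only [Prod.smul_mk, h]
  rfl

theorem ne1 : (Multiplicative.ofAdd ((1, 0, 0, 0) : A5)) ≠ 1 := by decide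
theorem ne2 : (Multiplicative.ofAdd ((0, 1, 0, 0) : A5)) ≠ 1 := by decide

/-- `U4` contains an elementary abelian group of order 25 -/
theorem pair5 : ∃ x y : U4, orderOf x = 5 ∧ orderOf y = 5 ∧ x * y = y * x ∧ y ∉ Subgroup.zpowers x := by
  have hinj : Function.Injective f5 := (injective_iff_map_eq_one f5).2 fun a => f5_inj
  have hord : ∀ a : Multiplicative A5, a ≠ 1 → orderOf (f5 a) = 5 := by
    intro a ha
    have : Fact (Nat.Prime 5) := ⟨by norm_num⟩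
    rw [orderOf_injective f5 hinj]
    refine orderOf_eq_prime ?_ ha
    apply Multiplicative.toAdd.injective
    rw [toAdd_pow, toAdd_one]
    exact five_A5 _
  refine ⟨f5 (Multiplicative.ofAdd (1, 0, 0, 0)), f5 (Multiplicative.ofAdd (0, 1, 0, 0)), hord _ ne1,
    hord _ ne2, ?_, ?_⟩
  · rw [← map_mul f5, ← map_mul f5, mul_comm (Multiplicative.ofAdd _)]
  · rintro ⟨k, hk⟩
    change f5 _ ^ k = _ at hk
    rw [← map_zpow] at hk
    have h1 := congrArg Multiplicative.toAdd (hinj hk)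
    rw [toAdd_zpow, toAdd_ofAdd, toAdd_ofAdd] at h1
    have h2 := congrArg (fun v : A5 => v.2.1) h1
    simp at h2
    exact absurd h2 (by decide)

def w1 : M4 := !![⟨2, 2⟩, ⟨0, 0⟩, ⟨0, 0⟩, ⟨0, 0⟩; ⟨0, 0⟩, ⟨2, 3⟩, ⟨0, 0⟩, ⟨0, 0⟩; ⟨0, 0⟩, ⟨0, 0⟩, ⟨1, 0⟩, ⟨0, 0⟩; ⟨0, 0⟩, ⟨0, 0⟩, ⟨0, 0⟩, ⟨1, 0⟩]
def w2 : M4 := !![⟨1, 0⟩, ⟨0, 0⟩, ⟨0, 0⟩, ⟨0, 0⟩; ⟨0, 0⟩, ⟨1, 0⟩, ⟨0, 0⟩, ⟨0, 0⟩; ⟨0, 0⟩, ⟨0, 0⟩, ⟨2, 2⟩, ⟨0, 0⟩; ⟨0, 0⟩, ⟨0, 0⟩, ⟨0, 0⟩, ⟨2, 3⟩]

def k1 : SU4 := mk w1 (by decide +kernel) (by decide +kernel)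
def k2 : SU4 := mk w2 (by decide +kernel) (by decide +kernel)

/-- `U4` contains an elementary abelian group of order 9 -/
theorem pair3 : ∃ x y : U4, orderOf x = 3 ∧ orderOf y = 3 ∧ x * y = y * x ∧ y ∉ Subgroup.zpowers x := by
  have : Fact (Nat.Prime 3) := ⟨by norm_num⟩
  have h1 : k1 ^ 3 = 1 := by
    apply mat_inj
    have : w1 * w1 * w1 = 1 := by decide +kernel
    rw [mat_pow, pow_succ, pow_two]
    exact this
  have h2 : k2 ^ 3 = 1 := by
    apply mat_inj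
    have : w2 * w2 * w2 = 1 := by decide +kernel
    rw [mat_pow, pow_succ, pow_two]
    exact this
  have hne : ∀ (g : SU4), NS (mat g) → pr g ≠ 1 := by
    intro g hg h
    obtain ⟨c, hc⟩ := pr_scalar h
    exact hg.ne hc
  refine ⟨pr k1, pr k2, orderOf_eq_prime (by rw [← map_pow, h1, map_one]) (hne _ (by decide +kernel)),
    orderOf_eq_prime (by rw [← map_pow, h2, map_one]) (hne _ (by decide +kernel)), ?_, ?_⟩
  · rw [← map_mul, ← map_mul]
    apply pr_eq_of_mat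
    change w1 * w2 = w2 * w1
    decide +kernel
  · intro h
    have hf : IsOfFinOrder (pr k1) := isOfFinOrder_of_finite _
    rw [← hf.mem_powers_iff_mem_zpowers] at h
    obtain ⟨n, hn⟩ := h
    change pr k1 ^ n = pr k2 at hn
    rw [← pow_mod_orderOf, orderOf_eq_prime (p := 3) (by rw [← map_pow, h1, map_one]) (hne _ (by decide +kernel))] at hn
    have hn3 : n % 3 < 3 := Nat.mod_lt _ (by norm_num)
    have h4 : pr (k1 ^ (n % 3) * k2⁻¹) = 1 := by
      rw [map_mul, map_pow, hn, map_inv, mul_inv_cancel]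
    have h5 : pr (k1 ^ (n % 3) * k2 ^ 2) = 1 := by
      have : k2 ^ 2 = k2⁻¹ := eq_inv_of_mul_eq_one_left (by rw [← pow_succ, h2])
      rw [this, h4]
    obtain ⟨c, hc⟩ := pr_scalar h5
    rw [mat_mul, mat_pow, mat_pow] at hc
    interval_cases n % 3
    · exact (show NS (w1 ^ 0 * w2 ^ 2) by decide +kernel).ne hc
    · exact (show NS (w1 ^ 1 * w2 ^ 2) by decide +kernel).ne hc
    · exact (show NS (w1 ^ 2 * w2 ^ 2) by decide +kernel).ne hc

end Cfsg.Agent.H380.UF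
end

-- part: H799/U45/ExclG2
section
set_option linter.all false
open scoped Cfsg.Agent.FastGrp

-- part: H422/GTwoFour
section
/-!
# `G₂(4)` in characteristic 2

If the elements of order 7 of `G₂(4)` have no nonzero fixed vectors in a finite module of exponent 2, then
neither have the elements of order 13.  (Proof: a subgroup `L₂(13) = ⟨Y, H, Z⟩`.)
-/

set_option autoImplicit false

namespace Cfsg.Agent.H422.GTwoFour

open Cfsg.Agent.Lib.FieldFour Cfsg.Agent.Lib.FieldFour.F4 Cfsg.Lie Cfsg.Agent.H161.Oct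
open scoped Matrix

abbrev M8 := Matrix (Fin 8) (Fin 8) F4

def mY : M8 := !![w, i, v, w, o, v, w, v; w, o, w, i, o, o, v, w; i, i, i, v, o, i, o, i; v, o, i, i, v, w, o, v; w, v, w, o, i, o, i, w; w, i, i, i, w, v, w, w; o, i, o, o, o, v, i, o; v, i, v, w, o, v, w, w]
def mYi : M8 := !![w, w, w, o, w, i, v, v; o, i, w, o, o, o, v, o; v, o, v, v, o, i, w, v; w, i, w, i, v, o, o, w; i, v, i, i, o, i, o, i; v, w, i, o, w, i, i, v; w, o, i, o, i, v, i, w; v, w, w, o, w, i, v, w]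
def mH : M8 := !![i, w, i, v, i, o, v, o; v, w, o, w, i, w, o, v; w, w, w, o, v, i, o, w; v, w, w, w, o, w, v, v; w, i, o, w, i, v, i, w; v, i, w, w, o, o, i, v; o, w, i, v, v, v, v, o; o, w, i, v, i, o, v, i]
def mHi : M8 := !![i, w, v, o, v, w, v, o; i, i, o, v, i, v, o, i; o, v, o, v, w, i, w, o; v, i, i, v, o, o, v, v; w, i, i, w, w, w, w, w; i, o, w, i, o, w, w, i; v, w, w, v, w, o, w, v; o, w, v, o, v, w, v, i]
def mZ : M8 := !![w, v, o, o, w, v, v, v; w, w, o, o, w, v, v, w; v, o, o, w, v, w, i, v; v, i, i, o, v, i, v, v; v, v, w, v, w, o, i, v; o, w, i, o, o, o, i, o; o, v, o, w, o, w, o, o; v, v, o, o, w, v, v, w]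

theorem mem_of (g : GL (Fin 8) F4) (h : ∀ i j : Fin 8, g.1 *ᵥ zornMul (Pi.single i 1) (Pi.single j 1) =
    zornMul (g.1 *ᵥ Pi.single i 1) (g.1 *ᵥ Pi.single j 1)) : g ∈ Cfsg.Lie.G2 F4 := by
  have key : (zL F4).compr₂ (Matrix.toLin' g.1) =
      (zL F4).compl₁₂ (Matrix.toLin' g.1) (Matrix.toLin' g.1) := by
    apply (Pi.basisFun F4 (Fin 8)).ext
    intro i
    apply (Pi.basisFun F4 (Fin 8)).ext
    intro j
    rw [Pi.basisFun_apply, Pi.basisFun_apply]
    exact h i j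
  intro x y
  exact LinearMap.congr_fun (LinearMap.congr_fun key x) y

/-! Rows as pairs of bit masks. -/

private def gtB : Bool → Bool → F4
  | false, false => o
  | true, false => i
  | false, true => w
  | true, true => v

private def gtV (x : ℕ × ℕ) (j : Fin 8) : F4 := gtB (x.1.testBit j) (x.2.testBit j)

private noncomputable def gtS (s t : Bool) (c d e f : ℕ) : ℕ × ℕ :=
  Bool.rec (Bool.rec (e, f) (Nat.xor e d, Nat.xor f (Nat.xor c d)) t)
    (Bool.rec (Nat.xor e c, Nat.xor f d) (Nat.xor e (Nat.xor c d), Nat.xor f c) t) s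

private theorem gtS_spec (s t : Bool) (c d e f : ℕ) : gtV (gtS s t c d e f) = gtV (e, f) + gtB s t • gtV (c, d) := by
  have h : ∀ c d e f : Bool, gtB e f = gtB e f + o * gtB c d ∧ gtB (e ^^ d) (f ^^ (c ^^ d)) = gtB e f + w * gtB c d ∧
    gtB (e ^^ c) (f ^^ d) = gtB e f + i * gtB c d ∧ gtB (e ^^ (c ^^ d)) (f ^^ c) = gtB e f + v * gtB c d := by decide +kernel
  funext j
  obtain ⟨h1, h2, h3, h4⟩ := h (c.testBit j) (d.testBit j) (e.testBit j) (f.testBit j)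
  simp only [← Nat.testBit_xor] at h2 h3 h4
  cases s <;> cases t
  exacts [h1, h2, h3, h4]

private noncomputable def gtA (l : List (ℕ × ℕ)) : ℕ → ℕ → ℕ × ℕ → ℕ × ℕ :=
  List.rec (fun _ _ x => x) (fun r _ ih a b x => Prod.rec (fun e f => ih (Nat.div a 2) (Nat.div b 2) (e, f))
    (gtS (a.testBit 0) (b.testBit 0) r.1 r.2 x.1 x.2)) l

private theorem gtA_spec : ∀ (n : ℕ) (s : Fin n → ℕ × ℕ) (a b : ℕ) (x : ℕ × ℕ),
    gtV (gtA (List.ofFn s) a b x) = gtV x + ∑ k : Fin n, gtB (a.testBit k) (b.testBit k) • gtV (s k)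
  | 0, _, _, _, _ => by rw [List.ofFn_zero, Finset.univ_eq_empty, Finset.sum_empty, add_zero]; rfl
  | n + 1, s, a, b, x => by
    rw [List.ofFn_succ, Fin.sum_univ_succ, ← add_assoc]
    refine (gtA_spec n (fun k => s k.succ) (a / 2) (b / 2) (gtS (a.testBit 0) (b.testBit 0) (s 0).1 (s 0).2 x.1 x.2)).trans ?_
    simp only [gtS_spec, ← Nat.testBit_add_one]
    rfl

private noncomputable def gtM (x : ℕ × ℕ) (s : Fin 8 → ℕ × ℕ) : ℕ × ℕ := gtA (List.ofFn s) x.1 x.2 (0, 0)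

private def gtR (A : M8) (t : Fin 8 → ℕ × ℕ) : Prop := ∀ k, gtV (t k) = A k

private theorem gtM_spec {A : M8} {s : Fin 8 → ℕ × ℕ} (h : gtR A s) (x : ℕ × ℕ) : gtV (gtM x s) = gtV x ᵥ* A := by
  rw [gtM, gtA_spec, show gtV (0, 0) = 0 by decide +kernel, zero_add, Matrix.vecMul_eq_sum]
  exact Finset.sum_congr rfl fun k _ => congrArg _ (h k)

private def gtU (a b : ℕ) (k : Fin 8) : ℕ × ℕ :=
  (Nat.land (Nat.shiftRight a (Nat.mul 8 k)) 255, Nat.land (Nat.shiftRight b (Nat.mul 8 k)) 255)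

private theorem gtR.of {A : M8} (a b : ℕ) (h : decide (∀ j k, gtV (gtU a b k) j = A k j) = true) : gtR A (gtU a b) :=
  fun k => funext fun j => of_decide_eq_true h j k

private theorem gtR.one : gtR 1 (gtU 0x8040201008040201 0) := .of _ _ (by decide +kernel)

private theorem gtR.mul {A B : M8} {s t : Fin 8 → ℕ × ℕ} (h : gtR A s) (h' : gtR B t) : gtR (A * B) fun k => gtM (s k) t :=
  fun k => (gtM_spec h' _).trans (congrArg (· ᵥ* B) (h k))

private theorem gtR.pow {A : M8} {s : Fin 8 → ℕ × ℕ} (h : gtR A s) :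
    ∀ n : ℕ, gtR (A ^ n) (Nat.rec (gtU 0x8040201008040201 0) (fun _ t k => gtM (t k) s) n)
  | 0 => .one
  | n + 1 => pow_succ A n ▸ (h.pow n).mul h

private theorem gtR.eq {A B : M8} {s t : Fin 8 → ℕ × ℕ} (h : gtR A s) (h' : gtR B t) (e : List.ofFn s = List.ofFn t) :
    A = B := funext fun k => (h k).symm.trans ((congrArg gtV (congrFun (List.ofFn_injective e) k)).trans (h' k))

private def gtZ (k : Fin 8) : Fin 8 → ℕ × ℕ := gtU (Nat.shiftRight 0x80402010000000000000020480000040000200080080002000040800000080100801000000102000040001001000400002000001204000000000000008040201 (Nat.mul 64 k)) 0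

private theorem gtZ_spec : ∀ k l : Fin 8, gtV (gtZ k l) = zornMul (Pi.single k 1) (Pi.single l 1) := by decide +kernel

private theorem gt_mem {g : GL (Fin 8) F4} (a b : ℕ) (h : decide ((∀ k j, gtV (gtU a b k) j = g.1 j k) ∧
    ∀ i j, gtM (gtZ i j) (gtU a b) = gtM (gtU a b i) fun k => gtM (gtU a b j) (gtZ k)) = true) : g ∈ Cfsg.Lie.G2 F4 := by
  replace h := of_decide_eq_true h
  have h1 : gtR g.1ᵀ (gtU a b) := fun k => funext (h.1 k)
  have h2 : ∀ (f : (Fin 8 → F4) →ₗ[F4] Fin 8 → F4) x, f x = x ᵥ* Matrix.of fun k => f (Pi.single k 1) := fun f x => by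
    rw [Matrix.vecMul_eq_sum, ← Finset.univ_sum_single x, map_sum]
    refine Finset.sum_congr rfl fun k _ => ?_
    rw [Finset.univ_sum_single, ← mul_one (x k), ← smul_eq_mul, Pi.single_smul, map_smul, smul_eq_mul, mul_one]
    rfl
  refine mem_of g fun i j => ?_
  have h3 : gtR (Matrix.of fun k => zornMul (Pi.single k 1) (g.1ᵀ j)) fun k => gtM (gtU a b j) (gtZ k) := fun k =>
    (gtM_spec (A := Matrix.of fun l => zornMul (Pi.single k 1) (Pi.single l 1)) (gtZ_spec k) _).trans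
      ((congrArg (· ᵥ* _) (h1 j)).trans (h2 (zL F4 (Pi.single k 1)) _).symm)
  have h4 := congrArg gtV (h.2 i j)
  rw [gtM_spec h1, gtM_spec h3, gtZ_spec, h1 i, Matrix.vecMul_transpose] at h4
  rw [h4, Matrix.mulVec_single_one, Matrix.mulVec_single_one]
  exact (h2 ((zL F4).flip (g.1ᵀ j)) _).symm

private theorem gt_mY : gtR mY (gtU 0x27622e529daf48a6 0xed20f187b108c5ed) := .of _ _ (by decide +kernel)
private theorem gt_mYi : gtR mYi (gtU 0x6174e5af1aad42e0 0xd7a1930295cd44d7) := .of _ _ (by decide +kernel)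
private theorem gt_mH : gtR mH (gtU 0xdc7cc372c130915d 0x4a7a8da9ef97ab4a) := .of _ _ (by decide +kernel)
private theorem gt_mHi : gtR mHi (gtU 0xd4898906cf2abb55 0x76df64f9c95a2876) := .of _ _ (by decide +kernel)
private theorem gt_mZ : gtR mZ (gtU 0x630244cbf7d160e2 0xf32a029fd1b9f3f3) := .of _ _ (by decide +kernel)

def gY : GL (Fin 8) F4 := ⟨mY, mYi,
  (gt_mY.mul gt_mYi).eq .one (by decide +kernel), (gt_mYi.mul gt_mY).eq .one (by decide +kernel)⟩
def gH : GL (Fin 8) F4 := ⟨mH, mHi,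
  (gt_mH.mul gt_mHi).eq .one (by decide +kernel), (gt_mHi.mul gt_mH).eq .one (by decide +kernel)⟩
def gZ : GL (Fin 8) F4 := ⟨mZ, mZ,
  (gt_mZ.mul gt_mZ).eq .one (by decide +kernel), (gt_mZ.mul gt_mZ).eq .one (by decide +kernel)⟩

def Y : Cfsg.Lie.G2 F4 := ⟨gY, gt_mem 0xd52e5182eadf58c 0xbba3e928859310bb (by decide +kernel)⟩
def H : Cfsg.Lie.G2 F4 := ⟨gH, gt_mem 0xaaf954d7c1c1302b 0x3ec95a44fb2ccf3e (by decide +kernel)⟩
def Z : Cfsg.Lie.G2 F4 := ⟨gZ, gt_mem 0x1dbf8b0c1028d99c 0x9f8bc79f5410f39f (by decide +kernel)⟩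

theorem ext' {a b : Cfsg.Lie.G2 F4} (h : a.1.1 = b.1.1) : a = b := Subtype.ext (Units.ext h)

theorem Y_pow : Y ^ 13 = 1 := ext' ((gt_mY.pow 13).eq
    gtR.one (by decide +kernel))
theorem Y_ne : Y ≠ 1 := fun h => absurd (show mY = 1 from congrArg (fun g : Cfsg.Lie.G2 F4 => g.1.1) h) (by decide +kernel)
theorem X_pow : (Z * Y ^ 3) ^ 7 = 1 := ext' (((gt_mZ.mul (gt_mY.pow 3)).pow 7).eq
    gtR.one (by decide +kernel))
theorem X_ne : Z * Y ^ 3 ≠ 1 := fun h => absurd (show mZ * mY ^ 3 = 1 from congrArg (fun g : Cfsg.Lie.G2 F4 => g.1.1) h) (by decide +kernel)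
theorem T_sq : H ^ 3 * H ^ 3 = 1 := ext' (((gt_mH.pow 3).mul (gt_mH.pow 3)).eq
    gtR.one (by decide +kernel))
theorem T_Y : H ^ 3 * Y = Y ^ 12 * H ^ 3 := ext' (((gt_mH.pow 3).mul gt_mY).eq
    ((gt_mY.pow 12).mul (gt_mH.pow 3)) (by decide +kernel))
theorem rel1 : (Z * Y ^ 3) ^ 1 = Y ^ 0 * (Z * H ^ 0) * (Y ^ 3 * (H ^ 3) ^ 0) :=
  ext' (((gt_mZ.mul (gt_mY.pow 3)).pow 1).eq
    (((gt_mY.pow 0).mul (gt_mZ.mul (gt_mH.pow 0))).mul ((gt_mY.pow 3).mul ((gt_mH.pow 3).pow 0))) (by decide +kernel))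
theorem rel2 : (Z * Y ^ 3) ^ 2 = Y ^ 4 * (Z * H ^ 1) * (Y ^ 6 * (H ^ 3) ^ 1) :=
  ext' (((gt_mZ.mul (gt_mY.pow 3)).pow 2).eq
    (((gt_mY.pow 4).mul (gt_mZ.mul (gt_mH.pow 1))).mul ((gt_mY.pow 6).mul ((gt_mH.pow 3).pow 1))) (by decide +kernel))
theorem rel3 : (Z * Y ^ 3) ^ 3 = Y ^ 11 * (Z * H ^ 0) * (Y ^ 12 * (H ^ 3) ^ 1) :=
  ext' (((gt_mZ.mul (gt_mY.pow 3)).pow 3).eq
    (((gt_mY.pow 11).mul (gt_mZ.mul (gt_mH.pow 0))).mul ((gt_mY.pow 12).mul ((gt_mH.pow 3).pow 1))) (by decide +kernel))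
theorem rel4 : (Z * Y ^ 3) ^ 4 = Y ^ 12 * (Z * H ^ 0) * (Y ^ 11 * (H ^ 3) ^ 1) :=
  ext' (((gt_mZ.mul (gt_mY.pow 3)).pow 4).eq
    (((gt_mY.pow 12).mul (gt_mZ.mul (gt_mH.pow 0))).mul ((gt_mY.pow 11).mul ((gt_mH.pow 3).pow 1))) (by decide +kernel))
theorem rel5 : (Z * Y ^ 3) ^ 5 = Y ^ 6 * (Z * H ^ 1) * (Y ^ 4 * (H ^ 3) ^ 1) :=
  ext' (((gt_mZ.mul (gt_mY.pow 3)).pow 5).eq
    (((gt_mY.pow 6).mul (gt_mZ.mul (gt_mH.pow 1))).mul ((gt_mY.pow 4).mul ((gt_mH.pow 3).pow 1))) (by decide +kernel))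
theorem rel6 : (Z * Y ^ 3) ^ 6 = Y ^ 10 * (Z * H ^ 0) * (Y ^ 0 * (H ^ 3) ^ 0) :=
  ext' (((gt_mZ.mul (gt_mY.pow 3)).pow 6).eq
    (((gt_mY.pow 10).mul (gt_mZ.mul (gt_mH.pow 0))).mul ((gt_mY.pow 0).mul ((gt_mH.pow 3).pow 0))) (by decide +kernel))

theorem order_Y : orderOf Y = 13 := orderOf_eq_prime (hp := ⟨by norm_num⟩) Y_pow Y_ne
theorem order_X : orderOf (Z * Y ^ 3) = 7 := orderOf_eq_prime (hp := ⟨by norm_num⟩) X_pow X_ne

section core

variable {V : Type*} [AddCommGroup V] (ρ : ↥(Cfsg.Lie.G2 F4) →* AddMonoid.End V)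

theorem act_mul (x y : ↥(Cfsg.Lie.G2 F4)) (v : V) : ρ (x * y) v = ρ x (ρ y v) := by
  rw [map_mul]; rfl

theorem act_one (v : V) : ρ 1 v = v := by
  rw [map_one]; rfl

theorem fix_pow {x : ↥(Cfsg.Lie.G2 F4)} {v : V} (h : ρ x v = v) (n : ℕ) : ρ (x ^ n) v = v := by
  induction n with
  | zero => rw [pow_zero, act_one]
  | succ n ih => rw [pow_succ, act_mul, h, ih]

theorem sum_zero {x : ↥(Cfsg.Lie.G2 F4)} {n : ℕ} (hx : orderOf x = n) (h : ∀ v, ρ x v = v → v = 0) (v : V) :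
    ∑ i ∈ Finset.range n, ρ (x ^ i) v = 0 := by
  apply h
  rw [map_sum]
  have h1 : ∀ i ∈ Finset.range n, ρ x (ρ (x ^ i) v) = ρ (x ^ (i + 1)) v := by
    intro i _
    rw [← act_mul, ← pow_succ']
  rw [Finset.sum_congr rfl h1]
  have h2 := Finset.sum_range_succ (fun i => ρ (x ^ i) v) n
  have h3 := Finset.sum_range_succ' (fun i => ρ (x ^ i) v) n
  rw [h2] at h3
  have h4 : x ^ n = 1 := by rw [← hx, pow_orderOf_eq_one]
  rw [h4, pow_zero] at h3
  exact (add_right_cancel h3).symm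

/-- No vector is fixed by `Y` and by the involution `H ^ 3`. -/
theorem core (h2 : ∀ v : V, 2 • v = 0) (h7 : ∀ g, orderOf g = 7 → ∀ v, ρ g v = v → v = 0) (w : V)
    (hY : ρ Y w = w) (hT : ρ (H ^ 3) w = w) : w = 0 := by
  have hδ : ∀ e f : ℕ, ρ (Y ^ e * (H ^ 3) ^ f) w = w := by
    intro e f
    rw [act_mul, fix_pow ρ hT, fix_pow ρ hY]
  let P : V → V := fun v => ∑ j ∈ Finset.range 13, ρ (Y ^ j) v
  have hPadd : ∀ u v, P (u + v) = P u + P v := by
    intro u v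
    simp only [P, map_add, Finset.sum_add_distrib]
  have hP0 : P 0 = 0 := by simp [P]
  have hP1 : ∀ u, P (ρ Y u) = P u := by
    intro u
    have h1 : ∀ i ∈ Finset.range 13, ρ (Y ^ i) (ρ Y u) = ρ (Y ^ (i + 1)) u := by
      intro i _
      rw [← act_mul, ← pow_succ]
    change ∑ j ∈ Finset.range 13, ρ (Y ^ j) (ρ Y u) = _
    rw [Finset.sum_congr rfl h1]
    have h2 := Finset.sum_range_succ (fun i => ρ (Y ^ i) u) 13
    have h3 := Finset.sum_range_succ' (fun i => ρ (Y ^ i) u) 13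
    rw [h2] at h3
    rw [Y_pow, pow_zero] at h3
    exact (add_right_cancel h3).symm
  have hPa : ∀ (a : ℕ) (u : V), P (ρ (Y ^ a) u) = P u := by
    intro a
    induction a with
    | zero => intro u; rw [pow_zero, act_one]
    | succ a ih => intro u; rw [pow_succ', act_mul, hP1, ih]
  have hPw : P w = w := by
    change ∑ j ∈ Finset.range 13, ρ (Y ^ j) w = w
    rw [Finset.sum_congr rfl (fun j _ => fix_pow ρ hY j), Finset.sum_const, Finset.card_range]
    have h1 : (13 : ℕ) • w = 6 • (2 • w) + w := by rw [smul_smul, ← succ_nsmul]; norm_num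
    rw [h1, h2, smul_zero, zero_add]
  have hrel : ∀ {i a j e f : ℕ}, (Z * Y ^ 3) ^ i = Y ^ a * (Z * H ^ j) * (Y ^ e * (H ^ 3) ^ f) →
      P (ρ ((Z * Y ^ 3) ^ i) w) = P (ρ (Z * H ^ j) w) := by
    intro i a j e f h
    rw [h, act_mul, hδ, act_mul, hPa]
  have hs := congrArg P (sum_zero ρ order_X (h7 _ order_X) w)
  rw [hP0] at hs
  simp only [Finset.sum_range_succ, Finset.sum_range_zero, zero_add, pow_zero, act_one] at hs
  rw [hPadd, hPadd, hPadd, hPadd, hPadd, hPadd, hPw, hrel rel1, hrel rel2, hrel rel3, hrel rel4, hrel rel5,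
    hrel rel6] at hs
  set A := P (ρ (Z * H ^ 0) w) with hA
  set B := P (ρ (Z * H ^ 1) w) with hB
  have h3 : w + A + B + A + A + B + A = w + (2 • (2 • A) + 2 • B) := by
    simp only [two_nsmul]
    abel
  rw [h3, h2, h2, add_zero, add_zero] at hs
  exact hs

/-- `Y` has no nonzero fixed vectors. -/
theorem fix_Y (h2 : ∀ v : V, 2 • v = 0) (h7 : ∀ g, orderOf g = 7 → ∀ v, ρ g v = v → v = 0) (w : V)
    (hY : ρ Y w = w) : w = 0 := by
  have hT : ρ Y (ρ (H ^ 3) w) = ρ (H ^ 3) w := by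
    have h1 : Y * H ^ 3 = H ^ 3 * Y ^ 12 := by
      have h3 : (H ^ 3 * Y) * (H ^ 3 * H ^ 3) = _ := rfl
      calc Y * H ^ 3 = (H ^ 3 * H ^ 3) * Y * H ^ 3 := by rw [T_sq, one_mul]
        _ = H ^ 3 * (H ^ 3 * Y) * H ^ 3 := by group
        _ = H ^ 3 * (Y ^ 12 * H ^ 3) * H ^ 3 := by rw [T_Y]
        _ = H ^ 3 * Y ^ 12 * (H ^ 3 * H ^ 3) := by group
        _ = H ^ 3 * Y ^ 12 := by rw [T_sq, mul_one]
    rw [← act_mul, h1, act_mul, fix_pow ρ hY]
  have hTT : ρ (H ^ 3) (ρ (H ^ 3) w) = w := by rw [← act_mul, T_sq, act_one]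
  have h1 : w + ρ (H ^ 3) w = 0 := by
    apply core ρ h2 h7
    · rw [map_add, hY, hT]
    · rw [map_add, hTT, add_comm]
  apply core ρ h2 h7 w hY
  have h3 := h2 w
  rw [two_nsmul] at h3
  exact add_left_cancel (h1.trans h3.symm)

end core

private theorem gl_map_inj {K F : Type*} [Field K] [Field F] (φ : K →+* F) :
    Function.Injective (Matrix.GeneralLinearGroup.map (n := Fin 8) φ) := fun _ _ h =>
  Units.ext (Matrix.ext fun i j => φ.injective (congrArg (fun g : GL (Fin 8) F => g.1 i j) h))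

/-- **Module lemma for `G₂(4)`, characteristic 2.** -/
theorem fixed_zero_of_real {S : Type*} [Group S] [Finite S] (hS : Cfsg.Agent.OrdDiv.Real (.g2 4) S)
    {V : Type*} [AddCommGroup V] [Finite V] (ρ : S →* AddMonoid.End V) (h2 : ∀ v : V, 2 • v = 0)
    (h7 : ∀ g : S, orderOf g = 7 → ∀ v, ρ g v = v → v = 0) :
    ∀ g : S, orderOf g = 13 → ∀ v, ρ g v = v → v = 0 := by
  obtain ⟨F, _, _, hF, ⟨e⟩⟩ := hS
  obtain ⟨f⟩ := Cfsg.Agent.H638.G2Iso.equiv (F := F)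
  let φ : F4 →+* F := (equivOfCard hF).symm.toRingHom
  let Φ : ↥(Cfsg.Lie.G2 F4) →* ↥(Cfsg.Lie.G2 F) :=
    ((Matrix.GeneralLinearGroup.map φ).comp (Cfsg.Lie.G2 F4).subtype).codRestrict _
      (fun g => map_mem_G2 φ g.2)
  have hΦ : Function.Injective Φ := fun a b hab => Subtype.ext (gl_map_inj φ (congrArg Subtype.val hab))
  let σ : ↥(Cfsg.Lie.G2 F4) →* S := (e.symm.toMonoidHom.comp f.toMonoidHom).comp Φ
  have hσ : Function.Injective σ := by
    intro a b hab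
    exact hΦ (f.injective (e.symm.injective hab))
  have ho : ∀ g, orderOf (σ g) = orderOf g := fun g => orderOf_injective σ hσ g
  have hY : ∀ v, ρ (σ Y) v = v → v = 0 := by
    intro v hv
    exact fix_Y (ρ.comp σ) h2 (fun g hg v hv => h7 (σ g) ((ho g).trans hg) v hv) v hv
  -- Sylow 13-subgroups
  have : Fact (Nat.Prime 13) := ⟨by norm_num⟩
  have hcard : Nat.card S = 251596800 := by
    rw [Nat.card_congr e.toEquiv, ← Nat.card_congr f.toEquiv, Cfsg.Agent.H638.G2Iso.card_G2,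
      Nat.card_eq_fintype_card, hF]
    norm_num
  have hsyl : ∀ g : S, orderOf g = 13 → ∃ P : Sylow 13 S, (P : Subgroup S) = Subgroup.zpowers g := by
    intro g hg
    have h1 : Nat.card (Subgroup.zpowers g) = 13 ^ (Nat.card S).factorization 13 := by
      rw [Nat.card_zpowers, hg, hcard]
      have h3 : (251596800 : ℕ).factorization 13 = 1 := by
        have h4 : (251596800 : ℕ) = 13 ^ 1 * 19353600 := by norm_num
        rw [h4, Nat.factorization_mul (by norm_num) (by norm_num), Finsupp.add_apply,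
          Nat.Prime.factorization_pow (by norm_num), Finsupp.single_eq_same,
          Nat.factorization_eq_zero_of_not_dvd (by norm_num)]
      rw [h3, pow_one]
    exact ⟨Sylow.ofCard (Subgroup.zpowers g) h1, rfl⟩
  intro g hg v hv
  obtain ⟨P, hP⟩ := hsyl g hg
  obtain ⟨Q, hQ⟩ := hsyl (σ Y) ((ho Y).trans order_Y)
  obtain ⟨c, hc⟩ := MulAction.exists_smul_eq S P Q
  have h1 : σ Y ∈ (Q : Subgroup S) := hQ ▸ Subgroup.mem_zpowers _
  rw [← hc, Sylow.coe_subgroup_smul, hP] at h1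
  obtain ⟨x, hx, hx2⟩ := (Subgroup.mem_smul_pointwise_iff_exists _ _ _).mp h1
  obtain ⟨k, rfl⟩ := Subgroup.mem_zpowers_iff.mp hx
  have hmul : ∀ (x y : S) (v : V), ρ (x * y) v = ρ x (ρ y v) := fun x y v => by rw [map_mul]; rfl
  have hone : ∀ v : V, ρ 1 v = v := fun v => by rw [map_one]; rfl
  have hk : ρ (g ^ k) v = v := by
    have h3 : ∀ n : ℕ, ρ (g ^ n) v = v := by
      intro n
      induction n with
      | zero => rw [pow_zero, hone]
      | succ n ih => rw [pow_succ, hmul, hv, ih]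
    obtain ⟨n, hn⟩ := (mem_powers_iff_mem_zpowers.mpr (Subgroup.zpow_mem _ (Subgroup.mem_zpowers g) k))
    rw [← hn]
    exact h3 n
  have h3 : σ Y = c * g ^ k * c⁻¹ := hx2.symm
  have h4 : ρ c v = 0 := by
    apply hY
    rw [h3, hmul, hmul]
    have : ρ c⁻¹ (ρ c v) = v := by rw [← hmul, inv_mul_cancel, hone]
    rw [this, hk]
  have h5 : v = ρ c⁻¹ (ρ c v) := by rw [← hmul, inv_mul_cancel, hone]
  rw [h5, h4, map_zero]

end Cfsg.Agent.H422.GTwoFour
end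

-- part: H380/UF/AutG2
section
/-!
# `Aut(G₂(4))` has no elements of order 26
-/

set_option autoImplicit false

namespace Cfsg.Agent.H380.UF.AutG2

open CoxeterSystem Cfsg.Agent.ChevalleyStructure.CoxeterGeom Cfsg.Agent.Tits.Roots Cfsg.Agent.Tits.Core
  Cfsg.Agent.Nodes.Reps Cfsg.Agent.Nodes.BNOf Cfsg.Agent.Nodes.Bruhat
  Cfsg.Agent.Nodes.OppDec Cfsg.Agent.Nodes.RGDChev
  Cfsg.Agent.KFacts.RgdAut Cfsg.Agent.KFacts.RgdDiag Cfsg.Agent.KFacts.RgdRigid
  Cfsg.Agent.KFacts.RgdField Cfsg.Agent.KFacts.RgdTau Cfsg.Agent.KFacts.RgdChevCoord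
  Cfsg.Agent.CpAut.RgdFix Cfsg.Agent.CpAut.RgdCoh Cfsg.Agent.CpAut.RgdConj Cfsg.Agent.CpAut.RgdSub
open Cfsg Cfsg.Lie Cfsg.Agent.ChevalleyStructure Cfsg.Agent.ChevalleyStructure.Elts
  Cfsg.Agent.ChevalleyStructure.NPerm Cfsg.Agent.ChevalleyStructure.CoxeterGeomTypes
  Cfsg.Agent.ChevStructure.FieldMap Cfsg.Agent.CpAut.RgdUntw Cfsg.Agent.H380.UF.AutLib
  Cfsg.Agent.H829.FieldTwo

universe u

/-- `G₂(4)` has no elements of order 26. -/
theorem no26_g2 {F : Type*} [Field F] [Fintype F] (hF : Fintype.card F = 4) (g : ↥(chevG2.group F)) :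
    orderOf g ≠ 26 := by
  intro h
  have : Fact (Nat.Prime 2) := ⟨Nat.prime_two⟩
  obtain ⟨N, h1, h2⟩ := Cfsg.Agent.H161.G2Main.upper (p := 2) (n := 2) (hF.trans (by norm_num)) (by norm_num) ⟨g, rfl⟩
  rw [h] at h1
  rcases h2 with h2 | h2 | h2 | h2 | h2 | ⟨-, h2 | h2⟩ | ⟨h2 | h2, -⟩
  · rw [h2] at h1; norm_num at h1
  · rw [h2] at h1; norm_num at h1
  · rw [h2] at h1; norm_num at h1
  · rw [h2] at h1; norm_num at h1
  · rw [h2] at h1; norm_num at h1
  · rw [h2] at h1; norm_num at h1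
  · rw [h2] at h1; norm_num at h1
  · norm_num at h2
  · norm_num at h2

/-- the standard field automorphisms are field automorphisms. -/
theorem isFieldAut_fld {F : Type*} [Field F] (τ : F ≃+* F) : chevG2.IsFieldAut (fld chevG2 τ) := by
  refine ⟨τ, fun g r t _ h => ?_⟩
  rw [fld_coe, h]
  exact x_map chevG2 (τ : F →+* F) r t

theorem fld_inj {F : Type u} [Field F] {τ : F ≃+* F} (h : fld chevG2 τ = 1) : τ = 1 := by
  apply RingEquiv.ext
  intro a
  have hr : 0 < chevG2.nroots := by decide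
  have h1 := congrArg (fun φ : MulAut ↥(chevG2.group F) => φ (xc isType_G2 (vec chevG2 2 0) a)) h
  simp only [MulAut.one_apply] at h1
  rw [fld_xc isType_G2 τ hr] at h1
  have h2 := congrArg Subtype.val h1
  rw [coe_xc isType_G2 hr, coe_xc isType_G2 hr] at h2
  exact xG_injective (F := F) (isType_G2.inList) hr h2

/-- the fixed points of an automorphism of field type do not contain elements of order 13 (`q = 4`). -/
theorem field_no13 {F : Type u} [Field F] [Fintype F] (hF : Fintype.card F = 4) {ψ : MulAut ↥(chevG2.group F)}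
    (h : FieldType chevG2 F ψ) (y : ↥(chevG2.group F)) (hy : orderOf y = 13) : ψ y ≠ y := by
  intro hfix
  obtain ⟨τ, hτ2, hτ1, ⟨e, he⟩, -⟩ := h
  have hfl2 : fld chevG2 τ ^ 2 = 1 := by rw [← fld_pow, hτ2, fld_one]
  have hfl1 : fld chevG2 τ ≠ 1 := by
    intro h1
    rw [h1, mul_one, mul_inv_cancel] at he
    -- `fld` is injective: use the order of the fixed points
    have h2 : orderOf (fld chevG2 τ) = 1 := by rw [h1, orderOf_one]
    exact hτ1 (fld_inj h1)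
  have ho : orderOf (fld chevG2 τ) = 2 := orderOf_eq_prime (hp := ⟨Nat.prime_two⟩) hfl2 hfl1
  obtain ⟨F₀, _, _, hF₀, ⟨f⟩⟩ := Cfsg.Agent.S2664.result (fld chevG2 τ) (isFieldAut_fld τ) 2 Nat.prime_two ho
  have hq : Fintype.card F₀ = 2 := by
    rw [hF] at hF₀
    have h1 : Fintype.card F₀ ^ 2 = 2 ^ 2 := hF₀.symm.trans (by norm_num)
    exact Nat.pow_left_injective (n := 2) (by norm_num) h1
  have hc := Cfsg.Agent.S1059.result (F := F₀) hq
  have hmem : e⁻¹ y ∈ (MulEquiv.toMonoidHom (fld chevG2 τ)).eqLocus (MonoidHom.id ↥(chevG2.group F)) := by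
    change fld chevG2 τ (e⁻¹ y) = e⁻¹ y
    rw [he, MulAut.mul_apply, MulAut.mul_apply] at hfix
    have h1 := congrArg (fun z => e⁻¹ z) hfix
    simp only [MulAut.inv_apply_self] at h1
    exact h1
  have h1 := orderOf_dvd_natCard (f ⟨e⁻¹ y, hmem⟩)
  rw [MulEquiv.orderOf_eq, Subgroup.orderOf_mk, MulEquiv.orderOf_eq, hy, hc] at h1
  norm_num at h1

/-- only `2` divides `|Out(G₂(4))|`. -/
theorem not_dvd_index {X : Type u} [Group X] [Finite X] (S : Subgroup X) [S.Normal]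
    (hS : Cfsg.Agent.OrdDiv.Real (.g2 4) S) (hC : Subgroup.centralizer (S : Set X) = ⊥) {p : ℕ} (hp : p.Prime)
    (hp2 : p ≠ 2) : ¬ p ∣ S.index := by
  obtain ⟨F, _, _, hF, ⟨e⟩⟩ := hS
  have : Fact (Nat.Prime 2) := ⟨Nat.prime_two⟩
  have hF' : Fintype.card F = 2 ^ 2 := hF.trans (by norm_num)
  have : CharP F 2 := charP_of_card_eq_prime_pow hF'
  have hout : Nat.card (Cfsg.Out ↥(chevG2.group F)) = 2 := by
    rw [Cfsg.Agent.S2121.result 2 2 hF' (by norm_num), if_neg (by norm_num)]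
  exact AutLib.not_dvd_index S hp (fun x => AutLib.pow_mem S e hC hout x)
    (fun h => hp2 ((Nat.prime_dvd_prime_iff_eq hp Nat.prime_two).1 h))

/-- **`Aut(G₂(4))` has no elements of order 26.** -/
theorem no26 {X : Type u} [Group X] [Finite X] (S : Subgroup X) [S.Normal] (hS : Cfsg.Agent.OrdDiv.Real (.g2 4) S)
    (hC : Subgroup.centralizer (S : Set X) = ⊥) (x : X) : orderOf x ≠ 26 := by
  intro hx
  obtain ⟨F, _, _, hF, ⟨e⟩⟩ := hS
  have : Fact (Nat.Prime 2) := ⟨Nat.prime_two⟩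
  have hF' : Fintype.card F = 2 ^ 2 := hF.trans (by norm_num)
  have : CharP F 2 := charP_of_card_eq_prime_pow hF'
  have hout : Nat.card (Cfsg.Out ↥(chevG2.group F)) = 2 := by
    rw [Cfsg.Agent.S2121.result 2 2 hF' (by norm_num), if_neg (by norm_num)]
  have ho13 : orderOf (x ^ 2) = 13 := by
    rw [orderOf_pow' x (by norm_num), hx]
    norm_num
  have ho2 : orderOf (x ^ 13) = 2 := by
    rw [orderOf_pow' x (by norm_num), hx]
    norm_num
  have hyS : x ^ 2 ∈ S := AutLib.pow_mem S e hC hout x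
  have hcomm : x ^ 13 * x ^ 2 = x ^ 2 * x ^ 13 := by rw [← pow_add, ← pow_add, add_comm]
  have hfix := act_fix S e hyS hcomm
  have hoe : orderOf (e ⟨x ^ 2, hyS⟩) = 13 := by
    rw [MulEquiv.orderOf_eq, Subgroup.orderOf_mk, ho13]
  have hψ2 : AutLib.act S e (x ^ 13) ^ 2 = 1 := by
    rw [← act_pow]
    have h1 : (x ^ 13) ^ 2 = 1 := by rw [← ho2, pow_orderOf_eq_one]
    rw [h1]
    unfold AutLib.act
    rw [map_one, map_one]
  have hK : ∃ a : F, a ≠ 0 ∧ a ≠ 1 := by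
    classical
    by_contra hcon
    push Not at hcon
    have h1 : Fintype.card F ≤ 2 := by
      have h2 : (Finset.univ : Finset F) ⊆ {0, 1} := by
        intro a _
        by_cases ha : a = 0
        · simp [ha]
        · simp [hcon a ha]
      exact (Finset.card_le_card h2).trans Finset.card_le_two
    omega
  rcases field_G2 hK hψ2 with ⟨g, hg⟩ | h
  · have h1 := mem_of_inner S e hC hg
    have h2 : x ∈ S := by
      have h3 : x = x ^ 13 * ((x ^ 2) ^ 6)⁻¹ := by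
        rw [← pow_mul, eq_mul_inv_iff_mul_eq, ← pow_succ']
      rw [h3]
      exact S.mul_mem h1 (S.inv_mem (S.pow_mem hyS 6))
    apply no26_g2 hF (e ⟨x, h2⟩)
    rw [MulEquiv.orderOf_eq, Subgroup.orderOf_mk, hx]
  · exact field_no13 hF h _ hoe hfix

end Cfsg.Agent.H380.UF.AutG2
end

-- part: H799/U45/ExclG2
section
/-!
# `G₂(4)` is not the simple section of a group with the prime graph of `PSU₄(5)` (helper799)
-/

set_option autoImplicit false

namespace Cfsg.Agent.H799.U45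

open Subgroup Cfsg.Agent.H421.Act Cfsg.Agent.H413.U45 Cfsg.Agent.OrdDiv Cfsg.Agent.H422.GTwoFour
  Cfsg.Agent.Lib.FieldFour Cfsg.Agent.Lib.FieldFour.F4 Cfsg.Lie

universe u

section elements

def mDa : M8 := Matrix.diagonal ![i, w, v, i, v, w, i, i]
def mDai : M8 := Matrix.diagonal ![i, v, w, i, w, v, i, i]
def mDb : M8 := Matrix.diagonal ![i, i, w, v, i, v, w, i]
def mDbi : M8 := Matrix.diagonal ![i, i, v, w, i, w, v, i]
/-- root elements -/
def mR (s t : F4) : M8 := !![i, o, o, o, o, o, o, o; o, i, s, t, o, o, o, o; o, o, i, o, o, o, o, o; o, o, o, i, o, o, o, o;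
  o, o, o, o, i, o, o, o; o, o, o, o, s, i, o, o; o, o, o, o, t, o, i, o; o, o, o, o, o, o, o, i]

private theorem gt_mDa : gtR mDa (gtU 0x8040001008040001 0x201000040200) := .of _ _ (by decide +kernel)
private theorem gt_mDai : gtR mDai (gtU 0x8040200008000201 0x201000040200) := .of _ _ (by decide +kernel)
private theorem gt_mDb : gtR mDb (gtU 0x8000201008000201 0x40200008040000) := .of _ _ (by decide +kernel)
private theorem gt_mDbi : gtR mDbi (gtU 0x8040001000040201 0x40200008040000) := .of _ _ (by decide +kernel)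
private theorem gt_Ra : gtR (mR i o) (gtU 0x8040301008040601 0x0) := .of _ _ (by decide +kernel)
private theorem gt_Rb : gtR (mR o i) (gtU 0x8050201008040a01 0x0) := .of _ _ (by decide +kernel)
private theorem gt_Rc : gtR (mR o w) (gtU 0x8040201008040201 0x10000000000800) := .of _ _ (by decide +kernel)

def gDa : GL (Fin 8) F4 := ⟨mDa, mDai,
  (gt_mDa.mul gt_mDai).eq .one (by decide +kernel), (gt_mDai.mul gt_mDa).eq .one (by decide +kernel)⟩
def gDb : GL (Fin 8) F4 := ⟨mDb, mDbi,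
  (gt_mDb.mul gt_mDbi).eq .one (by decide +kernel), (gt_mDbi.mul gt_mDb).eq .one (by decide +kernel)⟩
def gRa : GL (Fin 8) F4 := ⟨mR i o, mR i o,
  (gt_Ra.mul gt_Ra).eq .one (by decide +kernel), (gt_Ra.mul gt_Ra).eq .one (by decide +kernel)⟩
def gRb : GL (Fin 8) F4 := ⟨mR o i, mR o i,
  (gt_Rb.mul gt_Rb).eq .one (by decide +kernel), (gt_Rb.mul gt_Rb).eq .one (by decide +kernel)⟩
def gRc : GL (Fin 8) F4 := ⟨mR o w, mR o w,
  (gt_Rc.mul gt_Rc).eq .one (by decide +kernel), (gt_Rc.mul gt_Rc).eq .one (by decide +kernel)⟩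

def eDa : Cfsg.Lie.G2 F4 := ⟨gDa, gt_mem 0x8040001008040001 0x201000040200 (by decide +kernel)⟩
def eDb : Cfsg.Lie.G2 F4 := ⟨gDb, gt_mem 0x8000201008000201 0x40200008040000 (by decide +kernel)⟩
def eRa : Cfsg.Lie.G2 F4 := ⟨gRa, gt_mem 0x8040203008060201 0x0 (by decide +kernel)⟩
def eRb : Cfsg.Lie.G2 F4 := ⟨gRb, gt_mem 0x804020500a040201 0x0 (by decide +kernel)⟩
def eRc : Cfsg.Lie.G2 F4 := ⟨gRc, gt_mem 0x8040201008040201 0x4002000000 (by decide +kernel)⟩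

theorem ne_of {a b : Cfsg.Lie.G2 F4} (h : a.1.1 ≠ b.1.1) : a ≠ b := fun h' => h (by rw [h'])

theorem pair_G24 : Pair 3 (Cfsg.Lie.G2 F4) := by
  refine pair_of_pows Nat.prime_three (x := eDa) (y := eDb) (ext' ((gt_mDa.pow 3).eq gtR.one (by decide +kernel)))
    (ne_of (show mDa ≠ 1 by decide +kernel)) (ext' ((gt_mDb.pow 3).eq gtR.one (by decide +kernel)))
    (ext' ((gt_mDa.mul gt_mDb).eq (gt_mDb.mul gt_mDa) (by decide +kernel))) ?_
  intro k hk
  interval_cases k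
  · exact ne_of (show mDa ^ 0 ≠ mDb by decide +kernel)
  · exact ne_of (show mDa ^ 1 ≠ mDb by decide +kernel)
  · exact ne_of (show mDa ^ 2 ≠ mDb by decide +kernel)

theorem big_G24 : Big (Cfsg.Lie.G2 F4) :=
  big_of (a := eRa) (b := eRb) (c := eRc) (ext' ((gt_Ra.mul gt_Ra).eq gtR.one (by decide +kernel)))
    (ext' ((gt_Rb.mul gt_Rb).eq gtR.one (by decide +kernel))) (ext' ((gt_Rc.mul gt_Rc).eq gtR.one (by decide +kernel)))
    (ext' ((gt_Ra.mul gt_Rb).eq (gt_Rb.mul gt_Ra) (by decide +kernel)))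
    (ext' ((gt_Ra.mul gt_Rc).eq (gt_Rc.mul gt_Ra) (by decide +kernel)))
    (ext' ((gt_Rb.mul gt_Rc).eq (gt_Rc.mul gt_Rb) (by decide +kernel)))
    (ne_of (show mR i o ≠ 1 by decide +kernel)) (ne_of (show mR o i ≠ 1 by decide +kernel))
    (ne_of (show mR i o ≠ mR o i by decide +kernel)) (ne_of (show mR o w ≠ 1 by decide +kernel))
    (ne_of (show mR o w ≠ mR i o by decide +kernel)) (ne_of (show mR o w ≠ mR o i by decide +kernel))
    (ne_of (show mR o w ≠ mR i o * mR o i by decide +kernel))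

end elements

theorem g24_real {S : Type u} [Group S] (hS : Real (.g2 4) S) : Pair 3 S ∧ Big S ∧ Nat.card S = 251596800 := by
  obtain ⟨F, _, _, hF, ⟨e⟩⟩ := hS
  have hF' : Fintype.card F4 = Fintype.card F := by rw [hF]; rfl
  let φ : F4 ≃+* F := FiniteField.ringEquivOfCardEq hF'
  have e1 : ↥(Cfsg.Lie.chevG2.group F4) ≃* ↥(Cfsg.Lie.chevG2.group F) :=
    Cfsg.Agent.ChevalleyStructure.FieldIso.groupEquiv Cfsg.Lie.chevG2 φ
  obtain ⟨e2⟩ := Cfsg.Agent.H638.G2Iso.equiv (F := F4)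
  refine ⟨Pair.of_equiv ((e.trans e1.symm).trans e2.symm) pair_G24,
    Big.of_equiv ((e.trans e1.symm).trans e2.symm) big_G24, ?_⟩
  obtain ⟨f⟩ := Cfsg.Agent.H638.G2Iso.equiv (F := F)
  rw [Nat.card_congr e.toEquiv, ← Nat.card_congr f.toEquiv, Cfsg.Agent.H638.G2Iso.card_G2,
    Nat.card_eq_fintype_card, hF]
  norm_num

theorem no_g24 {G : Type u} [Group G] [Finite G] (hG : Gr G) {K : Subgroup G} [K.Normal] {S : Subgroup (G ⧸ K)}
    (hS : Cfsg.Agent.H413.U45.Sec G K S) : ¬ Real (.g2 4) S := by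
  intro hR
  have hSn := hS.normal
  obtain ⟨⟨x, y, hx, hy, hxy, hn⟩, hB, hc⟩ := g24_real hR
  have h7 : ¬ 7 ∣ Nat.card K := by
    intro h
    obtain ⟨E, hE, hc⟩ := hB
    have h1 := three_inv K (by norm_num) (by norm_num) h hG.no14 (E.map S.subtype) (by
      rintro - ⟨e, he, rfl⟩
      rw [← map_mul, hE e he, map_one])
    rw [Subgroup.card_map_of_injective S.subtype_injective] at h1
    omega
  have h13 : ¬ 13 ∣ Nat.card K := by
    intro h
    have h1 := comm_mem K (r := 3) (t := 13) (by norm_num) Nat.prime_three (by norm_num) (by norm_num) h hG.no39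
      (x := (x : G ⧸ K)) (y := (y : G ⧸ K))
      (by rw [Subgroup.orderOf_coe, hx]) (by rw [Subgroup.orderOf_coe, hy]) (congrArg Subtype.val hxy)
    obtain ⟨k, hk⟩ := h1
    exact hn ⟨k, Subtype.ext hk⟩
  have hI : ¬ 13 ∣ S.index := Cfsg.Agent.H380.UF.AutG2.not_dvd_index S hR hS.cent (by norm_num) (by norm_num)
  obtain ⟨V, i1, i2, i3, ρ, h2, h7', z, hz, hzS, u, hu, hu'⟩ := chief13 hG K S hS h7 h13 (by rw [hc]; norm_num)
    (by rw [hc]; norm_num) hI (Cfsg.Agent.H380.UF.AutG2.no26 S hR hS.cent)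
  refine hu (Cfsg.Agent.H422.GTwoFour.fixed_zero_of_real hR (ρ.comp S.subtype) h2 ?_ ⟨z, hzS⟩ ?_ u hu')
  · intro g hg v hv
    exact h7' (g : G ⧸ K) (by rw [Subgroup.orderOf_coe, hg]) v hv
  · rw [Subgroup.orderOf_mk, hz]

end Cfsg.Agent.H799.U45
end
end

-- part: H422/LTwoThirteen
section
prune_inst 0xe0106604752200000018051020000044440001900000000008800b42030900002940000002203502180880504804002003000000420000000a00040000040000008002022000a000000006000000000000000000000000000000000000000004000000000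
set_option linter.all false
open scoped Cfsg.Agent.FastGrp

/-!
# `PSL₂(13)` in characteristic 5

If the elements of order 7 and 13 of `PSL₂(13)` have no nonzero fixed vectors in a finite module of
exponent 5, then the module is zero.
-/

set_option autoImplicit false
set_option linter.unusedSectionVars false

namespace Cfsg.Agent.H422.LTwoThirteen

open Matrix Cfsg.Agent.H422.CopMod Cfsg.Agent.OddOrderCharacters.WielandtElem
open scoped Pointwise

variable {F : Type*} [Field F] [Fintype F] (hF : Fintype.card F = 13)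

/-- the projection -/
abbrev pr : Matrix.SpecialLinearGroup (Fin 2) F →* Matrix.ProjectiveSpecialLinearGroup (Fin 2) F :=
  QuotientGroup.mk' _

theorem pr_surj (g : Matrix.ProjectiveSpecialLinearGroup (Fin 2) F) : ∃ M, pr M = g :=
  QuotientGroup.mk'_surjective _ g

theorem pr_eq_one {M : Matrix.SpecialLinearGroup (Fin 2) F} :
    pr M = 1 ↔ M ∈ Subgroup.center (Matrix.SpecialLinearGroup (Fin 2) F) := by
  rw [QuotientGroup.mk'_apply, QuotientGroup.eq_one_iff]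

/-- entries of a central element -/
theorem central {M : Matrix.SpecialLinearGroup (Fin 2) F}
    (h : M ∈ Subgroup.center (Matrix.SpecialLinearGroup (Fin 2) F)) :
    M 0 1 = 0 ∧ M 1 0 = 0 ∧ M 0 0 = M 1 1 ∧ M 0 0 * M 0 0 = 1 := by
  rw [Matrix.SpecialLinearGroup.mem_center_iff] at h
  obtain ⟨c, hc, h⟩ := h
  have h01 := congrFun (congrFun h 0) 1
  have h10 := congrFun (congrFun h 1) 0
  have h00 := congrFun (congrFun h 0) 0
  have h11 := congrFun (congrFun h 1) 1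
  simp only [_root_.Fin.isValue, _root_.Matrix.scalar_apply, _root_.ne_eq, _root_.zero_ne_one, _root_.not_false_eq_true, _root_.Matrix.diagonal_apply_ne, _root_.one_ne_zero, _root_.Matrix.diagonal_apply_eq] at h01 h10 h00 h11
  rw [Fintype.card_fin] at hc
  refine ⟨h01.symm, h10.symm, h00.symm.trans h11, ?_⟩
  rw [← h00, ← pow_two]; exact hc

include hF in
theorem charP : CharP F 13 := by
  obtain ⟨p, hp⟩ := CharP.exists F
  obtain ⟨n, hn, h⟩ := FiniteField.card F p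
  rw [hF] at h
  have h1 : p ∣ 13 := h ▸ dvd_pow_self p n.2.ne'
  rw [(Nat.prime_dvd_prime_iff_eq hn (by norm_num)).mp h1] at hp
  exact hp

instance h422FactThirteen : Fact (Nat.Prime 13) := ⟨by norm_num⟩

instance h422FactFive : Fact (Nat.Prime 5) := ⟨by norm_num⟩

include hF in
theorem two_ne : (2 : F) ≠ 0 := by
  have := charP hF
  intro h
  have h1 : ((2 : ℕ) : F) = 0 := by exact_mod_cast h
  rw [CharP.cast_eq_zero_iff F 13] at h1
  omega

include hF in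
/-- an element of `SL₂(13)` of order dividing 12 has an eigenvalue -/
theorem exists_eigen (A : Matrix (Fin 2) (Fin 2) F) (hd : A.det = 1) (h : A ^ 12 = 1) :
    ∃ a : F, (A - scalar (Fin 2) a).det = 0 := by
  have := charP hF
  set B := A.adjugate with hB
  have hAB : A * B = 1 := by rw [hB, mul_adjugate, hd, one_smul]
  have hBA : B * A = 1 := by rw [hB, adjugate_mul, hd, one_smul]
  have hc : Commute A B := by rw [Commute, SemiconjBy, hAB, hBA]
  have hB12 : B ^ 12 = 1 := by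
    have h1 : A ^ 12 * B ^ 12 = 1 := by rw [← hc.mul_pow, hAB, one_pow]
    rwa [h, one_mul] at h1
  set τ := A 0 0 + A 1 1 with hτ
  have hsum : A + B = algebraMap F _ τ := Cfsg.Agent.H426.mat2_add_adjugate A
  set δ := τ ^ 2 - 4 with hδ
  have hsq : (A - B) ^ 2 = algebraMap F _ δ := by
    have h1 : (A - B) ^ 2 = (A + B) ^ 2 - 4 * (A * B) := by
      rw [pow_two, pow_two, sub_mul, mul_sub, mul_sub, add_mul, mul_add, mul_add, hAB, hBA, mul_one]
      have : (4 : Matrix (Fin 2) (Fin 2) F) = 1 + 1 + (1 + 1) := by norm_num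
      rw [this]
      abel
    rw [h1, hsum, hAB, mul_one, ← map_pow, hδ, map_sub, map_ofNat]
  -- `δ` is a square
  have hs : IsSquare δ := by
    by_contra hns
    have hδ0 : δ ≠ 0 := by
      rintro h0
      exact hns (h0 ▸ IsSquare.zero)
    have h2 : ringChar F ≠ 2 := by
      rw [(ringChar.eq_iff (R := F) (p := 13)).mpr inferInstance]
      norm_num
    have h6 : δ ^ 6 = -1 := by
      rcases FiniteField.pow_dichotomy h2 hδ0 with h1 | h1
      · rw [hF] at h1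
        exact absurd ((FiniteField.isSquare_iff h2 hδ0).mpr (by rw [hF]; exact h1)) hns
      · rw [hF] at h1
        exact h1
    have h13 : (A - B) ^ 13 = A - B := by
      rw [sub_pow_char_of_commute 13 hc, pow_succ A 12, pow_succ B 12, h, hB12, one_mul, one_mul]
    have h12 : (A - B) ^ 13 = - (A - B) := by
      rw [show 13 = 2 * 6 + 1 by norm_num, pow_succ, pow_mul, hsq, ← map_pow, h6, map_neg, map_one,
        neg_one_mul]
    have h3 : (2 : F) • (A - B) = 0 := by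
      rw [two_smul]
      nth_rewrite 1 [← h13]
      rw [h12, neg_add_cancel]
    have h4 : A - B = 0 := (smul_eq_zero.mp h3).resolve_left (two_ne hF)
    rw [h4, zero_pow (by norm_num)] at hsq
    have h5 := congrFun (congrFun hsq 0) 0
    rw [Matrix.algebraMap_matrix_apply, if_pos rfl, Matrix.zero_apply, Algebra.algebraMap_self,
      RingHom.id_apply] at h5
    exact hδ0 h5.symm
  obtain ⟨s, hs⟩ := hs
  refine ⟨(τ + s) / 2, ?_⟩
  have h22 := two_ne hF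
  have hd' : A 0 0 * A 1 1 - A 0 1 * A 1 0 = 1 := by rw [← hd, det_fin_two]
  rw [det_fin_two]
  simp only [Matrix.sub_apply, scalar_apply, diagonal_apply_eq, ne_eq, Fin.isValue, zero_ne_one,
    not_false_eq_true, diagonal_apply_ne, one_ne_zero, sub_zero]
  have e1 : (A 0 0 - (τ + s) / 2) * (A 1 1 - (τ + s) / 2) - A 0 1 * A 1 0 =
      (A 0 0 * A 1 1 - A 0 1 * A 1 0) - (τ + s) / 2 * (A 0 0 + A 1 1) + ((τ + s) / 2) ^ 2 := by ring
  rw [e1, hd', ← hτ]
  have e2 : (1 - (τ + s) / 2 * τ + ((τ + s) / 2) ^ 2 : F) = (4 - τ ^ 2 + s * s) / 4 := by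
    have h4 : (4 : F) ≠ 0 := by
      have : (4 : F) = 2 * 2 := by norm_num
      rw [this]; exact mul_ne_zero h22 h22
    field_simp
    ring
  rw [e2, ← hs, hδ]
  simp

theorem exists_first (v : Fin 2 → F) (hv : v ≠ 0) :
    ∃ N : Matrix.SpecialLinearGroup (Fin 2) F, N 0 0 = v 0 ∧ N 1 0 = v 1 := by
  by_cases h : v 0 = 0
  · have h1 : v 1 ≠ 0 := by
      intro h1
      apply hv
      ext i
      fin_cases i
      · exact h
      · exact h1
    refine ⟨⟨!![0, -(v 1)⁻¹; v 1, 0], by rw [det_fin_two_of]; field_simp; ring⟩, ?_, ?_⟩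
    · rw [h]; rfl
    · rfl
  · refine ⟨⟨!![v 0, 0; v 1, (v 0)⁻¹], by rw [det_fin_two_of]; field_simp; ring⟩, rfl, rfl⟩

include hF in
/-- an element of order dividing 12 is conjugate to an upper triangular one -/
theorem exists_triangular (A : Matrix.SpecialLinearGroup (Fin 2) F) (h : A ^ 12 = 1) :
    ∃ N : Matrix.SpecialLinearGroup (Fin 2) F, (N⁻¹ * A * N) 1 0 = 0 := by
  have h1 : (A : Matrix (Fin 2) (Fin 2) F) ^ 12 = 1 := by
    rw [← Matrix.SpecialLinearGroup.coe_pow, h, Matrix.SpecialLinearGroup.coe_one]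
  obtain ⟨a, ha⟩ := exists_eigen hF (A : Matrix (Fin 2) (Fin 2) F) A.det_coe h1
  obtain ⟨v, hv, hv2⟩ := Matrix.exists_mulVec_eq_zero_iff.mpr ha
  obtain ⟨N, hN0, hN1⟩ := exists_first v hv
  refine ⟨N, ?_⟩
  have e0 := congrFun hv2 0
  have e1 := congrFun hv2 1
  simp only [Matrix.mulVec, dotProduct, Fin.sum_univ_two, Matrix.sub_apply, scalar_apply,
    diagonal_apply_eq, ne_eq, Fin.isValue, zero_ne_one, not_false_eq_true, diagonal_apply_ne,
    one_ne_zero, sub_zero, Pi.zero_apply] at e0 e1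
  rw [Matrix.SpecialLinearGroup.coe_mul, Matrix.SpecialLinearGroup.coe_mul, Matrix.SpecialLinearGroup.coe_inv,
    adjugate_fin_two, Matrix.mul_apply, Fin.sum_univ_two, Matrix.mul_apply, Matrix.mul_apply,
    Fin.sum_univ_two, Fin.sum_univ_two]
  change (-(N 1 0) * A 0 0 + N 0 0 * A 1 0) * N 0 0 + (-(N 1 0) * A 0 1 + N 0 0 * A 1 1) * N 1 0 = 0
  rw [hN0, hN1]
  linear_combination v 0 * e1 - v 1 * e0

/-- the upper triangular matrices -/
def Bor : Subgroup (Matrix.SpecialLinearGroup (Fin 2) F) where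
  carrier := {M | M 1 0 = 0}
  one_mem' := by simp
  mul_mem' := by
    intro a b ha hb
    change (a * b) 1 0 = 0
    have ha' : a 1 0 = 0 := ha
    have hb' : b 1 0 = 0 := hb
    rw [Matrix.SpecialLinearGroup.coe_mul, Matrix.mul_apply, Fin.sum_univ_two, ha', hb']
    ring
  inv_mem' := by
    intro a ha
    change (a⁻¹) 1 0 = 0
    have ha' : a 1 0 = 0 := ha
    rw [Matrix.SpecialLinearGroup.coe_inv, adjugate_fin_two]
    change - a 1 0 = 0
    rw [ha', neg_zero]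

theorem mem_Bor {M : Matrix.SpecialLinearGroup (Fin 2) F} : M ∈ Bor ↔ M 1 0 = 0 := Iff.rfl

/-- upper unitriangular matrices -/
def up (b : F) : Matrix.SpecialLinearGroup (Fin 2) F := ⟨!![1, b; 0, 1], by simp [det_fin_two]⟩

theorem up_add (a b : F) : up a * up b = up (a + b) := by
  apply Subtype.ext
  change (!![1, a; 0, 1] : Matrix (Fin 2) (Fin 2) F) * !![1, b; 0, 1] = !![1, a + b; 0, 1]
  ext i j
  (revert i j; simp only [Matrix.mul_apply, Fin.sum_univ_two, add_comm, _root_.Fin.forall_fin_succ, _root_.Matrix.of_apply, _root_.Matrix.cons_val', _root_.Matrix.cons_val_fin_one, Fin.isValue, _root_.Matrix.cons_val_zero, _root_.Matrix.cons_val_one, _root_.mul_one, _root_.MulZeroClass.mul_zero, _root_.zero_add, _root_.Matrix.cons_val_succ, _root_.forall_const, _root_.true_and, _root_.one_mul, _root_.MulZeroClass.zero_mul, _root_.implies_true, _root_.and_self])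

theorem up_zero : up (0 : F) = 1 := by
  apply Subtype.ext
  change (!![1, 0; 0, 1] : Matrix (Fin 2) (Fin 2) F) = 1
  ext i j
  (revert i j; simp only [_root_.Fin.forall_fin_succ, _root_.Matrix.of_apply, _root_.Matrix.cons_val', _root_.Matrix.cons_val_fin_one, Fin.isValue, _root_.Matrix.cons_val_zero, _root_.Matrix.cons_val_succ, _root_.IsEmpty.forall_iff, _root_.and_true, _root_.Matrix.one_apply_eq, Nat.reduceAdd, _root_.Fin.succ_zero_eq_one, _root_.ne_eq, _root_.zero_ne_one, _root_.not_false_eq_true, _root_.Matrix.one_apply_ne, _root_.and_self, _root_.Fin.succ_ne_zero, _root_.true_and])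

theorem up_pow (b : F) (n : ℕ) : up b ^ n = up ((n : F) * b) := by
  induction n with
  | zero => rw [pow_zero, Nat.cast_zero, zero_mul, up_zero]
  | succ n ih => rw [pow_succ, ih, up_add]; congr 1; push_cast; ring

/-- the image of the upper unitriangular group -/
def U : Subgroup (Matrix.ProjectiveSpecialLinearGroup (Fin 2) F) where
  carrier := {g | ∃ b, g = pr (up b)}
  one_mem' := ⟨0, by rw [up_zero, map_one]⟩
  mul_mem' := by
    rintro _ _ ⟨a, rfl⟩ ⟨b, rfl⟩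
    exact ⟨a + b, by rw [← map_mul, up_add]⟩
  inv_mem' := by
    rintro _ ⟨a, rfl⟩
    refine ⟨-a, ?_⟩
    rw [inv_eq_iff_mul_eq_one, ← map_mul, up_add, add_neg_cancel, up_zero, map_one]

/-- conjugation of a unitriangular by a triangular matrix -/
theorem conj_up (M : Matrix.SpecialLinearGroup (Fin 2) F) (hM : M 1 0 = 0) (b : F) :
    M * up b * M⁻¹ = up (M 0 0 ^ 2 * b) := by
  rw [mul_inv_eq_iff_eq_mul]
  have hd : M 0 0 * M 1 1 = 1 := by
    have := M.det_coe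
    rw [det_fin_two, hM, mul_zero, sub_zero] at this
    exact this
  apply Subtype.ext
  change (M : Matrix (Fin 2) (Fin 2) F) * !![1, b; 0, 1] = !![1, M 0 0 ^ 2 * b; 0, 1] * M
  ext i j
  fin_cases i <;> fin_cases j
  · simp only [Matrix.mul_apply, Fin.sum_univ_two, hM, _root_.Fin.zero_eta, _root_.Fin.isValue, _root_.Matrix.of_apply, _root_.Matrix.cons_val', _root_.Matrix.cons_val_zero, _root_.Matrix.cons_val_fin_one, _root_.mul_one, _root_.Matrix.cons_val_one, _root_.MulZeroClass.mul_zero, _root_.add_zero, _root_.one_mul]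
  · simp only [Matrix.mul_apply, Fin.sum_univ_two, _root_.Fin.zero_eta, _root_.Fin.isValue, _root_.Fin.mk_one, _root_.Matrix.of_apply, _root_.Matrix.cons_val', _root_.Matrix.cons_val_one, _root_.Matrix.cons_val_fin_one, _root_.Matrix.cons_val_zero, _root_.mul_one, _root_.one_mul]
    linear_combination - b * M 0 0 * hd
  · simp only [Matrix.mul_apply, Fin.sum_univ_two, hM, _root_.Fin.mk_one, _root_.Fin.isValue, _root_.Fin.zero_eta, _root_.Matrix.of_apply, _root_.Matrix.cons_val', _root_.Matrix.cons_val_zero, _root_.Matrix.cons_val_fin_one, _root_.mul_one, _root_.Matrix.cons_val_one, _root_.MulZeroClass.mul_zero, _root_.add_zero, _root_.MulZeroClass.zero_mul]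
  · simp only [Matrix.mul_apply, Fin.sum_univ_two, hM, _root_.Fin.mk_one, _root_.Fin.isValue, _root_.Matrix.of_apply, _root_.Matrix.cons_val', _root_.Matrix.cons_val_one, _root_.Matrix.cons_val_fin_one, _root_.Matrix.cons_val_zero, _root_.MulZeroClass.zero_mul, _root_.mul_one, _root_.zero_add, _root_.one_mul]

/-- unitriangular matrices are determined by their image -/
theorem pr_up_eq {a b : F} (h : pr (up a) = pr (up b)) : a = b := by
  have h1 : pr (up (a - b)) = 1 := by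
    have h2 : up a = up (a - b) * up b := by rw [up_add, sub_add_cancel]
    rw [h2, map_mul] at h
    exact mul_eq_right.mp h
  have h3 := (central (pr_eq_one.mp h1)).1
  exact sub_eq_zero.mp h3

include hF in
theorem pow_six {g : Matrix.ProjectiveSpecialLinearGroup (Fin 2) F} (h : g ∈ U) : g ^ 13 = 1 := by
  have := charP hF
  obtain ⟨b, rfl⟩ := h
  rw [← map_pow, up_pow, CharP.cast_eq_zero F 13, zero_mul, up_zero, map_one]

include hF in
/-- elements of order dividing 6 -/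
theorem good {d : Subgroup (Matrix.ProjectiveSpecialLinearGroup (Fin 2) F) → ℕ} (hd : Dm 5 d)
    (hU : d U = 0) (x : Matrix.ProjectiveSpecialLinearGroup (Fin 2) F) (hx : x ^ 6 = 1) :
    orderOf x * d (Subgroup.zpowers x) = d ⊥ := by
  have := charP hF
  obtain ⟨M, rfl⟩ := pr_surj x
  have h12 : M ^ 12 = 1 := by
    rw [← map_pow, pr_eq_one] at hx
    obtain ⟨h01, h10, h00, h11⟩ := central hx
    rw [show 12 = 6 * 2 by norm_num, pow_mul, pow_two]
    apply Subtype.ext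
    ext i j
    rw [Matrix.SpecialLinearGroup.coe_mul, Matrix.mul_apply, Fin.sum_univ_two]
    fin_cases i <;> fin_cases j <;> simp_all only [_root_.Fin.isValue, _root_.Matrix.SpecialLinearGroup.coe_pow, _root_.Fin.zero_eta, _root_.MulZeroClass.mul_zero, _root_.add_zero, _root_.Matrix.SpecialLinearGroup.coe_one, _root_.Matrix.one_apply_eq, _root_.Fin.mk_one, _root_.MulZeroClass.zero_mul, _root_.Nat.reduceAdd, _root_.ne_eq, _root_.zero_ne_one, _root_.not_false_eq_true, _root_.Matrix.one_apply_ne, _root_.one_ne_zero, _root_.zero_add]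
  obtain ⟨N, hN⟩ := exists_triangular hF M h12
  set T := N⁻¹ * M * N with hT
  have hTB : T ∈ Bor := hN
  have hM : pr M = pr N * pr T * (pr N)⁻¹ := by
    rw [hT]
    simp only [map_mul, map_inv]
    group
  have hord : orderOf (pr M) = orderOf (pr T) := by rw [hM, orderOf_conj]
  have hT6 : (pr T) ^ 6 = 1 := by
    rw [← orderOf_dvd_iff_pow_eq_one, ← hord, orderOf_dvd_iff_pow_eq_one]
    exact hx
  rw [hord, hM, hd.conj_zp, ← Nat.card_zpowers]
  -- elements of `⟨T⟩`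
  have hE : ∀ e ∈ Subgroup.zpowers (pr T), ∃ S : Matrix.SpecialLinearGroup (Fin 2) F, S ∈ Bor ∧ pr S = e ∧
      e ^ 6 = 1 := by
    rintro e he
    obtain ⟨k, rfl⟩ := Subgroup.mem_zpowers_iff.mp he
    refine ⟨T ^ k, Bor.zpow_mem hTB k, map_zpow _ _ _, ?_⟩
    rw [← zpow_natCast, ← _root_.zpow_mul, mul_comm, _root_.zpow_mul, zpow_natCast, hT6, _root_.one_zpow]
  have h613 : ∀ e : Matrix.ProjectiveSpecialLinearGroup (Fin 2) F, e ^ 6 = 1 → e ^ 13 = 1 → e = 1 := by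
    intro e h6 h13
    have h1 : e ^ 13 = (e ^ 6) ^ 2 * e := by group
    rw [h6, one_pow, one_mul] at h1
    rw [← h1]; exact h13
  apply hd.frob U
  · intro x hx he
    obtain ⟨-, -, -, h6⟩ := hE x he
    exact h613 x h6 (pow_six hF hx)
  · intro e he u hu
    obtain ⟨S, hS, rfl, -⟩ := hE e he
    obtain ⟨b, rfl⟩ := hu
    exact ⟨S 0 0 ^ 2 * b, by rw [← conj_up S hS, map_mul, map_mul, map_inv]⟩
  · intro e he he1 u hu hc
    obtain ⟨S, hS, rfl, h6⟩ := hE e he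
    obtain ⟨b, rfl⟩ := hu
    by_contra hb
    have hb0 : b ≠ 0 := by
      rintro rfl
      rw [up_zero, map_one] at hb
      exact hb rfl
    have h1 : pr (up (S 0 0 ^ 2 * b)) = pr (up b) := by
      rw [← conj_up S hS, map_mul, map_mul, map_inv, hc, mul_inv_cancel_right]
    have h2 := pr_up_eq h1
    have h3 : S 0 0 ^ 2 = 1 := mul_right_cancel₀ hb0 (by rw [h2, one_mul])
    have hd2 : S 0 0 * S 1 1 = 1 := by
      have := S.det_coe
      rw [det_fin_two, mem_Bor.mp hS, mul_zero, sub_zero] at this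
      exact this
    have h4 : S 1 1 = S 0 0 := by
      have h5 : S 0 0 ≠ 0 := left_ne_zero_of_mul_eq_one hd2
      apply mul_left_cancel₀ h5
      rw [hd2, ← pow_two, h3]
    apply he1
    apply h613 _ h6
    -- `S = ± up`
    have h7 : pr S = pr (up (S 0 0 * S 0 1)) := by
      have h8 : pr (S * (up (S 0 0 * S 0 1))⁻¹) = 1 := by
        rw [pr_eq_one, Matrix.SpecialLinearGroup.mem_center_iff]
        refine ⟨S 0 0, by rw [Fintype.card_fin]; exact h3, ?_⟩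
        have h9 : S = (S * (up (S 0 0 * S 0 1))⁻¹) * up (S 0 0 * S 0 1) := by group
        have h10 : S * (up (S 0 0 * S 0 1))⁻¹ = S * up (-(S 0 0 * S 0 1)) := by
          congr 1
          rw [inv_eq_iff_mul_eq_one, up_add, add_neg_cancel, up_zero]
        rw [h10]
        change scalar (Fin 2) (S 0 0) = (S : Matrix (Fin 2) (Fin 2) F) * !![1, -(S 0 0 * S 0 1); 0, 1]
        ext i j
        fin_cases i <;> fin_cases j
        · simp [Matrix.mul_apply, Fin.sum_univ_two]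
        · simp only [Matrix.mul_apply, Fin.sum_univ_two, _root_.Fin.isValue, _root_.Fin.zero_eta, _root_.Fin.mk_one, _root_.Matrix.scalar_apply, _root_.ne_eq, _root_.zero_ne_one, _root_.not_false_eq_true, _root_.Matrix.diagonal_apply_ne, _root_.Matrix.of_apply, _root_.Matrix.cons_val', _root_.Matrix.cons_val_one, _root_.Matrix.cons_val_fin_one, _root_.Matrix.cons_val_zero, _root_.mul_neg, _root_.mul_one]
          linear_combination (S 0 1) * h3
        · simp [Matrix.mul_apply, Fin.sum_univ_two, mem_Bor.mp hS]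
        · simp [Matrix.mul_apply, Fin.sum_univ_two, mem_Bor.mp hS, h4]
      rw [map_mul, map_inv] at h8
      exact mul_inv_eq_one.mp h8
    rw [h7]
    exact pow_six hF ⟨_, rfl⟩
  · exact hU

/-- lower unitriangular matrices -/
def low (b : F) : Matrix.SpecialLinearGroup (Fin 2) F := ⟨!![1, 0; b, 1], by simp [det_fin_two]⟩

theorem low_mul (a b : F) : low a * low b = low (a + b) := by
  apply Subtype.ext
  change (!![1, 0; a, 1] : Matrix (Fin 2) (Fin 2) F) * !![1, 0; b, 1] = !![1, 0; a + b, 1]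
  ext i j
  (revert i j; simp only [Matrix.mul_apply, Fin.sum_univ_two, _root_.Fin.forall_fin_succ, _root_.Matrix.of_apply, _root_.Matrix.cons_val', _root_.Matrix.cons_val_fin_one, Fin.isValue, _root_.Matrix.cons_val_zero, _root_.Matrix.cons_val_one, _root_.mul_one, _root_.Matrix.cons_val_succ, _root_.MulZeroClass.mul_zero, _root_.zero_add, _root_.implies_true, _root_.and_true, _root_.MulZeroClass.zero_mul, _root_.add_zero, _root_.one_mul, _root_.and_self])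

theorem low_zero : low (0 : F) = 1 := by
  apply Subtype.ext
  change (!![1, 0; 0, 1] : Matrix (Fin 2) (Fin 2) F) = 1
  ext i j
  (revert i j; simp only [_root_.Fin.forall_fin_succ, _root_.Matrix.of_apply, _root_.Matrix.cons_val', _root_.Matrix.cons_val_fin_one, Fin.isValue, _root_.Matrix.cons_val_zero, _root_.Matrix.cons_val_succ, _root_.IsEmpty.forall_iff, _root_.and_true, _root_.Matrix.one_apply_eq, Nat.reduceAdd, _root_.Fin.succ_zero_eq_one, _root_.ne_eq, _root_.zero_ne_one, _root_.not_false_eq_true, _root_.Matrix.one_apply_ne, _root_.and_self, _root_.Fin.succ_ne_zero, _root_.true_and])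

theorem low_pow (b : F) (n : ℕ) : low b ^ n = low ((n : F) * b) := by
  induction n with
  | zero => rw [pow_zero, Nat.cast_zero, zero_mul, low_zero]
  | succ n ih => rw [pow_succ, ih, low_mul]; congr 1; push_cast; ring

theorem low_notMem : pr (low (1 : F)) ∉ (U : Subgroup (Matrix.ProjectiveSpecialLinearGroup (Fin 2) F)) := by
  rintro ⟨b, hb⟩
  have h1 : pr ((up b)⁻¹ * low 1) = 1 := by rw [map_mul, map_inv, ← hb, inv_mul_cancel]
  have h2 : (up b)⁻¹ = up (-b) := by rw [inv_eq_iff_mul_eq_one, up_add, add_neg_cancel, up_zero]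
  rw [h2] at h1
  have h3 := (central (pr_eq_one.mp h1)).2.1
  have h4 : ((!![1, -b; 0, 1] : Matrix (Fin 2) (Fin 2) F) * (!![1, 0; 1, 1] : Matrix (Fin 2) (Fin 2) F)) 1 0
      = 0 := h3
  simp [Matrix.mul_apply, Fin.sum_univ_two] at h4

include hF in
theorem order_up : orderOf (pr (up (1 : F))) = 13 := by
  apply orderOf_eq_prime (pow_six hF ⟨1, rfl⟩)
  intro h
  rw [← map_one pr, ← up_zero] at h
  exact one_ne_zero (pr_up_eq h)

include hF in
theorem order_low : orderOf (pr (low (1 : F))) = 13 := by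
  have := charP hF
  apply orderOf_eq_prime
  · rw [← map_pow, low_pow, CharP.cast_eq_zero F 13, zero_mul, low_zero, map_one]
  · intro h
    exact low_notMem (h ▸ U.one_mem)

include hF in
theorem pow_cases (g : Matrix.ProjectiveSpecialLinearGroup (Fin 2) F) :
    g ^ 6 = 1 ∨ g ^ 7 = 1 ∨ g ^ 13 = 1 := by
  have := charP hF
  obtain ⟨M, rfl⟩ := pr_surj g
  have key : ∀ k : ℕ, M ^ (2 * k) = 1 → (pr M) ^ k = 1 := by
    intro k hk
    rw [← map_pow, pr_eq_one]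
    apply Cfsg.Agent.H426.sl2_sq_eq_one_mem_center (two_ne hF)
    rw [← pow_mul, mul_comm]
    exact hk
  rcases Cfsg.Agent.H426.sl2_pow_cases 13 M with h | h | h
  · rw [hF] at h
    exact Or.inl (key 6 h)
  · rw [hF] at h
    exact Or.inr (Or.inl (key 7 h))
  · exact Or.inr (Or.inr (key 13 h))

include hF in
theorem card_psl : Nat.card (Matrix.ProjectiveSpecialLinearGroup (Fin 2) F) = 1092 := by
  have h := Cfsg.Agent.S0243.result hF 2 le_rfl
  rw [Fin.prod_univ_two] at h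
  norm_num only [_root_.Fin.coe_ofNat_eq_mod, _root_.pow_zero, _root_.Nat.add_one_sub_one, _root_.pow_one] at h
  omega

include hF in
theorem main {V : Type*} [AddCommGroup V] [Finite V]
    (ρ : Matrix.ProjectiveSpecialLinearGroup (Fin 2) F →* AddMonoid.End V) (h5 : ∀ v : V, 5 • v = 0)
    (h7 : ∀ g, orderOf g = 7 → ∀ v, ρ g v = v → v = 0)
    (h13 : ∀ g, orderOf g = 13 → ∀ v, ρ g v = v → v = 0) : ∀ v : V, v = 0 := by
  obtain ⟨d, hd, hd1, hd2⟩ := exists_dm h5 ρ (by rw [card_psl hF]; norm_num)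
  have hz : ∀ x : Matrix.ProjectiveSpecialLinearGroup (Fin 2) F, (orderOf x = 7 ∨ orderOf x = 13) →
      d (Subgroup.zpowers x) = 0 := by
    intro x hx
    rw [hd2]
    intro v hv
    have h1 := hv x (Subgroup.mem_zpowers x)
    rcases hx with h | h
    · exact h7 x h v h1
    · exact h13 x h v h1
  have hU : d U = 0 := by
    rw [hd2]
    intro v hv
    exact h13 _ (order_up hF) v (hv _ ⟨1, rfl⟩)
  have h0 : d ⊥ = 0 := by
    refine hd.eq_zero (a := pr (up (1 : F))) (b := pr (low (1 : F))) ?_ ?_ (hz _ (Or.inr (order_up hF))) ?_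
      (hz _ (Or.inr (order_low hF))) ?_
    · intro x
      rcases pow_cases hF x with h | h | h
      · exact Or.inl (good hF hd hU x h)
      · by_cases h1 : x = 1
        · left; rw [h1]; simp
        · right
          have h2 : orderOf x = 7 := orderOf_eq_prime (hp := ⟨by norm_num⟩) h h1
          exact ⟨by rw [h2]; norm_num, hz x (Or.inl h2)⟩
      · by_cases h1 : x = 1
        · left; rw [h1]; simp
        · right
          have h2 : orderOf x = 13 := orderOf_eq_prime h h1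
          exact ⟨by rw [h2]; norm_num, hz x (Or.inr h2)⟩
    · rw [order_up hF]; norm_num
    · rw [order_low hF]; norm_num
    · intro h
      apply low_notMem (F := F)
      have h1 : pr (low (1 : F)) ∈ Subgroup.zpowers (pr (up (1 : F))) := h ▸ Subgroup.mem_zpowers _
      exact (Subgroup.zpowers_le.mpr (⟨1, rfl⟩ : pr (up (1 : F)) ∈ U)) h1
  intro v
  apply (hd2 ⊥).mp h0 v
  intro x hx
  rw [Subgroup.mem_bot.mp hx, map_one]
  rfl

/-- **Module lemma for `L₂(13)`, characteristic 5.** -/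
theorem zero_of_real {S : Type*} [Group S] [Finite S] (hS : Cfsg.Agent.OrdDiv.Real (.psl 2 13) S)
    {V : Type*} [AddCommGroup V] [Finite V] (ρ : S →* AddMonoid.End V) (h5 : ∀ v : V, 5 • v = 0)
    (h7 : ∀ g : S, orderOf g = 7 → ∀ v, ρ g v = v → v = 0)
    (h13 : ∀ g : S, orderOf g = 13 → ∀ v, ρ g v = v → v = 0) : ∀ v : V, v = 0 := by
  obtain ⟨F, _, _, hF, ⟨e⟩⟩ := hS
  apply main hF (ρ.comp e.symm.toMonoidHom) h5
  · intro g hg v hv
    exact h7 (e.symm g) ((MulEquiv.orderOf_eq e.symm g).trans hg) v hv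
  · intro g hg v hv
    exact h13 (e.symm g) ((MulEquiv.orderOf_eq e.symm g).trans hg) v hv

end Cfsg.Agent.H422.LTwoThirteen

private theorem dce_b4095fa3b97b : _root_.True := by
  try have : _root_.True := by simp only [_root_.Matrix.ProjectiveSpecialLinearGroup.congr_simp]
  exact _root_.True.intro
end

-- part: H413/U45/ExclL
section
prune_inst 0xc4602204142202000000851210002044440001900023000159800f42020713220900270040a03d12180a8200000000000100001000100000000004000000002080aa52063340a10426000f803005100000000000000000000000000000041004000000000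
set_option linter.all false
open scoped Cfsg.Agent.FastGrp

-- part: H413/U45/Chief
section
/-!
# Chief factors of the solvable radical of a group with the prime graph of `PSU(4,5)` (helper413)

If `7` and `13` do not divide `|K|` and divide the order of the simple socle `S` of `G ⧸ K` then `K` acts trivially on
its chief factors, which are modules for `G ⧸ K`.
-/

set_option autoImplicit false

namespace Cfsg.Agent.H413.U45.Chief

open Cfsg.Agent.H421.Act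

universe u

/-- a maximal `G`-invariant subgroup of a solvable normal subgroup -/
theorem exists_max' {G : Type*} [Group G] [Finite G] (K : Subgroup G) [K.Normal] (hK : K ≠ ⊥)
    (hs : Group.IsSolvable K) :
    ∃ (K1 : Subgroup G) (t : ℕ), K1.Normal ∧ K1 < K ∧ t.Prime ∧ (∀ x ∈ K, x ^ t ∈ K1) ∧
      (∀ x ∈ K, ∀ y ∈ K, x * y * x⁻¹ * y⁻¹ ∈ K1) ∧
      ∀ L : Subgroup G, L.Normal → K1 ≤ L → L ≤ K → L = K1 ∨ L = K := by
  classical
  obtain ⟨K1, ⟨hn, hlt⟩, hmax⟩ := Set.Finite.exists_maximal (s := {L : Subgroup G | L.Normal ∧ L < K})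
    (Set.toFinite _) ⟨⊥, inferInstance, bot_lt_iff_ne_bot.2 hK⟩
  have := hn
  have hcase : ∀ L : Subgroup G, L.Normal → K1 ≤ L → L ≤ K → L = K1 ∨ L = K := by
    intro L hL h1 h2
    rcases eq_or_lt_of_le h2 with h3 | h3
    · exact Or.inr h3
    · exact Or.inl (le_antisymm (hmax ⟨hL, h3⟩ h1) h1)
  -- commutators
  have hcomm : ∀ x ∈ K, ∀ y ∈ K, x * y * x⁻¹ * y⁻¹ ∈ K1 := by
    have h1 : ⁅K, K⁆ ⊔ K1 = K1 ∨ ⁅K, K⁆ ⊔ K1 = K :=
      hcase _ inferInstance le_sup_right (sup_le (Subgroup.commutator_le_left K K) hlt.le)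
    rcases h1 with h1 | h1
    · intro x hx y hy
      have h2 : ⁅K, K⁆ ≤ K1 := by rw [← h1]; exact le_sup_left
      have h3 := Subgroup.commutator_mem_commutator hx hy
      rw [commutatorElement_def] at h3
      exact h2 h3
    · exfalso
      let f := QuotientGroup.mk' K1
      have h2 : ⁅K.map f, K.map f⁆ = K.map f := by
        rw [← Subgroup.map_commutator]
        have h3 : (⁅K, K⁆ ⊔ K1).map f = ⁅K, K⁆.map f := by
          rw [Subgroup.map_sup]
          have h4 : K1.map f = ⊥ := by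
            rw [Subgroup.map_eq_bot_iff, QuotientGroup.ker_mk']
          rw [h4, sup_bot_eq]
        rw [← h3, h1]
      have h5 : Group.IsSolvable (K.map f) := by
        have h6 : Function.Surjective (f.subgroupMap K) := f.subgroupMap_surjective K
        exact Group.isSolvable_of_surjective h6
      have h7 : ∀ n, (derivedSeries (K.map f) n).map (K.map f).subtype = K.map f := by
        intro n
        induction n with
        | zero => rw [derivedSeries_zero, ← MonoidHom.range_eq_map, Subgroup.range_subtype]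
        | succ n ih =>
          rw [derivedSeries_succ, Subgroup.map_commutator, ih, h2]
      obtain ⟨n, hn'⟩ := h5
      have h8 := h7 n
      rw [hn', Subgroup.map_bot] at h8
      have h9 : K ≤ K1 := by
        rw [eq_comm, Subgroup.map_eq_bot_iff, QuotientGroup.ker_mk'] at h8
        exact h8
      exact absurd h9 (not_le_of_gt hlt)
  -- exponent
  have hidx : K1.relIndex K ≠ 1 := by
    intro h
    exact absurd (Subgroup.relIndex_eq_one.1 h) (not_le_of_gt hlt)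
  obtain ⟨t, ht, hdt⟩ := Nat.exists_prime_and_dvd hidx
  have hfact : Fact t.Prime := ⟨ht⟩
  let f := QuotientGroup.mk' K1
  have hab : ∀ a ∈ K.map f, ∀ b ∈ K.map f, a * b = b * a := by
    rintro _ ⟨x, hx, rfl⟩ _ ⟨y, hy, rfl⟩
    have h1 : f (x * y * x⁻¹ * y⁻¹) = 1 := (QuotientGroup.eq_one_iff _).2 (hcomm x hx y hy)
    rw [map_mul, map_mul, map_mul, map_inv, map_inv, mul_inv_eq_one, mul_inv_eq_iff_eq_mul] at h1
    exact h1
  let T : Subgroup G :=
    { carrier := {x | x ∈ K ∧ x ^ t ∈ K1}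
      one_mem' := ⟨K.one_mem, by rw [one_pow]; exact K1.one_mem⟩
      mul_mem' := by
        rintro x y ⟨hx, hx'⟩ ⟨hy, hy'⟩
        refine ⟨K.mul_mem hx hy, ?_⟩
        rw [← QuotientGroup.eq_one_iff] at hx' hy' ⊢
        have h1 : Commute (f x) (f y) := hab _ ⟨x, hx, rfl⟩ _ ⟨y, hy, rfl⟩
        have h2 := h1.mul_pow t
        have h3 : (((x * y) ^ t : G) : G ⧸ K1) = (f x * f y) ^ t := by
          change f ((x * y) ^ t) = _
          rw [map_pow, map_mul]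
        rw [h3, h2, ← map_pow, ← map_pow]
        change ((x ^ t : G) : G ⧸ K1) * ((y ^ t : G) : G ⧸ K1) = 1
        rw [hx', hy', one_mul]
      inv_mem' := by
        rintro x ⟨hx, hx'⟩
        exact ⟨K.inv_mem hx, by rw [inv_pow]; exact K1.inv_mem hx'⟩ }
  have hTn : T.Normal := by
    refine ⟨fun x hx g => ⟨‹K.Normal›.conj_mem x hx.1 g, ?_⟩⟩
    rw [conj_pow]
    exact hn.conj_mem _ hx.2 g
  have hK1T : K1 ≤ T := fun x hx => ⟨hlt.le hx, K1.pow_mem hx t⟩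
  have hT : T = K1 ∨ T = K := hcase T hTn hK1T (fun x hx => hx.1)
  refine ⟨K1, t, hn, hlt, ht, ?_, hcomm, hcase⟩
  rcases hT with hT | hT
  · exfalso
    have hc : t ∣ Nat.card (K.map f) := by
      have h1 : Nat.card (K.map f) = K1.relIndex K := by
        rw [← Subgroup.relIndex_ker, QuotientGroup.ker_mk']
      rw [h1]
      exact hdt
    obtain ⟨y, hy⟩ := exists_prime_orderOf_dvd_card' t hc
    obtain ⟨x, hx, hxy⟩ := y.2
    have h1 : f x ^ t = 1 := by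
      rw [hxy]
      have := pow_orderOf_eq_one y
      rw [hy] at this
      exact congrArg Subtype.val this
    have h2 : x ∈ T := by
      refine ⟨hx, ?_⟩
      rw [← QuotientGroup.eq_one_iff]
      change f (x ^ t) = 1
      rw [map_pow, h1]
    rw [hT] at h2
    have h3 : y = 1 := by
      apply Subtype.ext
      rw [← hxy]
      exact (QuotientGroup.eq_one_iff x).2 h2
    rw [h3, orderOf_one] at hy
    exact ht.one_lt.ne hy
  · intro x hx
    rw [← hT] at hx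
    exact hx.2

/-- the chief factor of an element of prime order -/
theorem exists_chief {G : Type*} [Group G] [Finite G] (K : Subgroup G) [K.Normal] (hs : Group.IsSolvable K)
    {t : ℕ} (ht : t.Prime) {z : G} (hz : z ∈ K) (hzt : orderOf z = t) :
    ∃ B A : Subgroup G, B.Normal ∧ A.Normal ∧ B ≤ A ∧ A ≤ K ∧ (∀ x ∈ A, x ^ t ∈ B) ∧
      (∀ x ∈ A, ∀ y ∈ A, x * y * x⁻¹ * y⁻¹ ∈ B) ∧ z ∈ A ∧ z ∉ B ∧
      ∀ L : Subgroup G, L.Normal → B ≤ L → L ≤ A → L = B ∨ L = A := by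
  have hA : Subgroup.normalClosure {z} ≤ K := Subgroup.normalClosure_le_normal (by simpa using hz)
  have hzA : z ∈ Subgroup.normalClosure {z} := Subgroup.subset_normalClosure (Set.mem_singleton z)
  have hAs : Group.IsSolvable (Subgroup.normalClosure {z}) :=
    Group.isSolvable_of_isSolvable_injective (Subgroup.inclusion_injective hA)
  have hne : Subgroup.normalClosure {z} ≠ ⊥ := by
    intro h
    rw [h, Subgroup.mem_bot] at hzA
    rw [hzA, orderOf_one] at hzt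
    exact ht.one_lt.ne hzt
  obtain ⟨B, t', hBn, hlt, ht', hexp, hcomm, hcase⟩ := exists_max' (Subgroup.normalClosure {z}) hne hAs
  have hzB : z ∉ B := by
    intro h
    have : Subgroup.normalClosure {z} ≤ B := Subgroup.normalClosure_le_normal (by simpa using h)
    exact absurd this (not_le_of_gt hlt)
  have htt : t = t' := by
    by_contra hne'
    apply hzB
    have h1 := hexp z hzA
    have h2 : z ^ t ∈ B := by rw [← hzt, pow_orderOf_eq_one]; exact B.one_mem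
    have h3 : Nat.gcd t t' = 1 := (Nat.coprime_primes ht ht').2 hne'
    have h4 : ((z : G) : G ⧸ B) = 1 := by
      rw [← orderOf_eq_one_iff, ← Nat.dvd_one, ← h3]
      refine Nat.dvd_gcd (orderOf_dvd_of_pow_eq_one ?_) (orderOf_dvd_of_pow_eq_one ?_)
      · rw [← QuotientGroup.mk_pow]; exact (QuotientGroup.eq_one_iff _).2 h2
      · rw [← QuotientGroup.mk_pow]; exact (QuotientGroup.eq_one_iff _).2 h1
    exact (QuotientGroup.eq_one_iff _).1 h4
  subst htt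
  exact ⟨B, _, hBn, inferInstance, hlt.le, hA, hexp, hcomm, hzA, hzB, hcase⟩

/-- a normal elementary abelian subgroup of a solvable normal subgroup -/
theorem exists_elem {Y : Type*} [Group Y] [Finite Y] (M : Subgroup Y) [hM : M.Normal] (hne : M ≠ ⊥)
    (hs : Group.IsSolvable M) :
    ∃ (E : Subgroup Y) (r : ℕ), E.Normal ∧ E ≤ M ∧ r.Prime ∧ (∀ x ∈ E, ∀ y ∈ E, x * y = y * x) ∧
      (∀ x ∈ E, x ^ r = 1) ∧ ∃ x ∈ E, x ≠ 1 := by
  classical
  have hex : ∃ n, derivedSeries M n = ⊥ := hs.solvable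
  have hn0 : Nat.find hex ≠ 0 := by
    intro h
    have h1 := Nat.find_spec hex
    rw [h, derivedSeries_zero] at h1
    apply hne
    rw [eq_bot_iff]
    intro x hx
    have h2 : (⟨x, hx⟩ : M) ∈ (⊤ : Subgroup M) := Subgroup.mem_top _
    rw [h1, Subgroup.mem_bot] at h2
    rw [Subgroup.mem_bot]
    exact congrArg Subtype.val h2
  obtain ⟨n, hn⟩ := Nat.exists_eq_succ_of_ne_zero hn0
  have h1 : derivedSeries M n ≠ ⊥ := Nat.find_min hex (by rw [hn]; exact Nat.lt_succ_self n)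
  have h2 : ⁅derivedSeries M n, derivedSeries M n⁆ = ⊥ := by
    rw [← derivedSeries_succ, ← Nat.succ_eq_add_one, ← hn]
    exact Nat.find_spec hex
  set N : Subgroup Y := (derivedSeries M n).map M.subtype with hN
  have hNn : N.Normal := ConjAct.normal_of_characteristic_of_normal
  have hNc : ∀ x ∈ N, ∀ y ∈ N, x * y = y * x := by
    rintro _ ⟨x, hx, rfl⟩ _ ⟨y, hy, rfl⟩
    have h3 := Subgroup.commutator_mem_commutator hx hy
    rw [h2, Subgroup.mem_bot, commutatorElement_def, mul_inv_eq_one, mul_inv_eq_iff_eq_mul] at h3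
    rw [← map_mul, h3, map_mul]
  have hNb : N ≠ ⊥ := by
    intro h
    rw [hN, Subgroup.map_eq_bot_iff_of_injective _ M.subtype_injective] at h
    exact h1 h
  have hNcard : Nat.card N ≠ 1 := fun h => hNb (Subgroup.card_eq_one.1 h)
  obtain ⟨r, hr, hrd⟩ := Nat.exists_prime_and_dvd hNcard
  have hf : Fact r.Prime := ⟨hr⟩
  let E : Subgroup Y :=
    { carrier := {x | x ∈ N ∧ x ^ r = 1}
      one_mem' := ⟨N.one_mem, one_pow _⟩
      mul_mem' := by
        rintro x y ⟨hx, hx'⟩ ⟨hy, hy'⟩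
        refine ⟨N.mul_mem hx hy, ?_⟩
        rw [(show Commute x y from hNc x hx y hy).mul_pow, hx', hy', one_mul]
      inv_mem' := by
        rintro x ⟨hx, hx'⟩
        exact ⟨N.inv_mem hx, by rw [inv_pow, hx', inv_one]⟩ }
  obtain ⟨y, hy⟩ := exists_prime_orderOf_dvd_card' r hrd
  refine ⟨E, r, ⟨fun x hx g => ⟨hNn.conj_mem x hx.1 g, ?_⟩⟩, ?_, hr, ?_, fun x hx => hx.2, y, ⟨y.2, ?_⟩, ?_⟩
  · rw [conj_pow, hx.2, mul_one, mul_inv_cancel]
  · rintro x ⟨⟨z, hz, rfl⟩, -⟩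
    exact z.2
  · exact fun x hx y hy => hNc x hx.1 y hy.1
  · have := pow_orderOf_eq_one y
    rw [hy] at this
    exact congrArg Subtype.val this
  · intro h
    have : y = 1 := Subtype.ext h
    rw [this, orderOf_one] at hy
    exact hr.one_lt.ne hy

/-- an element of prime order without fixed points on a faithful module centralizes normal elementary abelian
subgroups -/
theorem frob_case {Y V : Type*} [Group Y] [Finite Y] [AddCommGroup V] (ρ : Y →* AddMonoid.End V) (E : Subgroup Y)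
    [hE : E.Normal] (hEc : ∀ x ∈ E, ∀ y ∈ E, x * y = y * x) {r s t : ℕ} (hr : r.Prime) (hs : s.Prime) (ht : t.Prime)
    (hEr : ∀ x ∈ E, x ^ r = 1) (hrs : r ≠ s) (hrt : r ≠ t) {x : Y} (hx : x ^ s = 1)
    (hV : ∀ v, ρ x v = v → v = 0) (hexp : ∀ v : V, t • v = 0) (hfaith : ∀ e ∈ E, (∀ v, ρ e v = v) → e = 1) :
    ∀ e ∈ E, x * e = e * x := by
  have hconj : ∀ e ∈ E, x * e * x⁻¹ ∈ E := fun e he => hE.conj_mem e he x
  have hcm : ∀ e ∈ E, x * e * x⁻¹ * e⁻¹ ∈ E := fun e he => E.mul_mem (hconj e he) (E.inv_mem he)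
  let T : Subgroup Y :=
    { carrier := {y | ∃ e ∈ E, y = x * e * x⁻¹ * e⁻¹}
      one_mem' := ⟨1, E.one_mem, by simp⟩
      mul_mem' := by
        rintro _ _ ⟨e, he, rfl⟩ ⟨d, hd, rfl⟩
        refine ⟨e * d, E.mul_mem he hd, ?_⟩
        have h1 : e⁻¹ * (x * d * x⁻¹) = (x * d * x⁻¹) * e⁻¹ := hEc _ (E.inv_mem he) _ (hconj d hd)
        have h2 : e⁻¹ * d⁻¹ = d⁻¹ * e⁻¹ := hEc _ (E.inv_mem he) _ (E.inv_mem hd)
        calc x * e * x⁻¹ * e⁻¹ * (x * d * x⁻¹ * d⁻¹) = x * e * x⁻¹ * (e⁻¹ * (x * d * x⁻¹)) * d⁻¹ := by group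
          _ = x * e * x⁻¹ * (x * d * x⁻¹) * (e⁻¹ * d⁻¹) := by rw [h1]; group
          _ = x * (e * d) * x⁻¹ * (e * d)⁻¹ := by rw [h2]; group
      inv_mem' := by
        rintro _ ⟨e, he, rfl⟩
        refine ⟨e⁻¹, E.inv_mem he, ?_⟩
        have h1 := hEc _ he _ (hconj _ (E.inv_mem he))
        calc (x * e * x⁻¹ * e⁻¹)⁻¹ = e * (x * e⁻¹ * x⁻¹) := by group
          _ = x * e⁻¹ * x⁻¹ * e := h1
          _ = x * e⁻¹ * x⁻¹ * e⁻¹⁻¹ := by rw [inv_inv] }
  have hTE : T ≤ E := by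
    rintro _ ⟨e, he, rfl⟩
    exact hcm e he
  have key := frob_trivial ρ T x s hs.pos hx ?_ ?_ hV ?_
  · intro e he
    have h1 := key (x * e * x⁻¹ * e⁻¹) ⟨e, he, rfl⟩
    have h2 := hfaith _ (hcm e he) h1
    rw [mul_inv_eq_one, mul_inv_eq_iff_eq_mul] at h2
    exact h2
  · rintro _ ⟨e, he, rfl⟩
    exact ⟨x * e * x⁻¹, hconj e he, by group⟩
  · rintro i hi his _ ⟨e, he, rfl⟩ hcomm
    set a := x * e * x⁻¹ * e⁻¹ with ha
    -- `x` is a power of `x ^ i`
    have hxa : x * a = a * x := by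
      have hco : Nat.Coprime i s := by
        rw [Nat.coprime_comm, hs.coprime_iff_not_dvd]
        intro h
        exact absurd (Nat.le_of_dvd hi h) (not_le_of_gt his)
      obtain ⟨m, hm⟩ := Nat.exists_mul_mod_eq_one_of_coprime hco hs.one_lt
      have h3 : (x ^ i) ^ m = x := by
        rw [← pow_mul, ← Nat.div_add_mod (i * m) s, hm.2, pow_add, pow_mul, hx, one_pow, one_mul, pow_one]
      have h4 : Commute ((x ^ i) ^ m) a := (show Commute (x ^ i) a from hcomm).pow_left m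
      rw [h3] at h4
      exact h4
    have hpow : ∀ n : ℕ, x ^ n * e * (x ^ n)⁻¹ = a ^ n * e := by
      intro n
      induction n with
      | zero => simp
      | succ n ih =>
        have h5 : x * a ^ n = a ^ n * x := ((show Commute x a from hxa).pow_right n).eq
        calc x ^ (n + 1) * e * (x ^ (n + 1))⁻¹ = x * (x ^ n * e * (x ^ n)⁻¹) * x⁻¹ := by
              rw [pow_succ']; group
          _ = x * a ^ n * e * x⁻¹ := by rw [ih]; group
          _ = a ^ n * (x * e * x⁻¹ * e⁻¹) * e := by rw [h5]; group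
          _ = a ^ (n + 1) * e := by rw [← ha, pow_succ]
    have h6 := hpow s
    rw [hx, inv_one, mul_one, one_mul] at h6
    have h7 : a ^ s = 1 := by
      have := h6.symm
      rwa [mul_eq_right] at this
    have h8 : a ^ r = 1 := hEr _ (hcm e he)
    rw [← orderOf_eq_one_iff, ← Nat.dvd_one, ← (Nat.coprime_primes hr hs).2 hrs]
    exact Nat.dvd_gcd (orderOf_dvd_of_pow_eq_one h8) (orderOf_dvd_of_pow_eq_one h7)
  · intro v hv
    have hTp : IsPGroup r T := by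
      intro y
      refine ⟨1, ?_⟩
      rw [pow_one]
      apply Subtype.ext
      exact hEr y (hTE y.2)
    have hfr : Fact r.Prime := ⟨hr⟩
    obtain ⟨n, hn⟩ := IsPGroup.iff_card.1 hTp
    rw [hn] at hv
    have h1 : addOrderOf v ∣ r ^ n := addOrderOf_dvd_of_nsmul_eq_zero hv
    have h2 : addOrderOf v ∣ t := addOrderOf_dvd_of_nsmul_eq_zero (hexp v)
    have h3 : Nat.Coprime (r ^ n) t := Nat.Coprime.pow_left n ((Nat.coprime_primes hr ht).2 hrt)
    have h4 : addOrderOf v = 1 := Nat.eq_one_of_dvd_coprimes h3 h1 h2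
    exact AddMonoid.addOrderOf_eq_one_iff.1 h4

theorem prime_cases {G : Type u} [Group G] [Finite G] (hG : Gr G) {K : Subgroup G} (h7 : ¬ 7 ∣ Nat.card K)
    (h13 : ¬ 13 ∣ Nat.card K) {p : ℕ} (hp : p.Prime) (h : p ∣ Nat.card K) : p = 2 ∨ p = 3 ∨ p = 5 := by
  rcases (hG.primes p hp).1 (h.trans (Subgroup.card_subgroup_dvd_card K)) with rfl | rfl | rfl | rfl | rfl
  · exact Or.inl rfl
  · exact Or.inr (Or.inl rfl)
  · exact Or.inr (Or.inr rfl)
  · exact absurd h h7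
  · exact absurd h h13

/-- **`K` acts trivially on its chief factors.** -/
theorem acts {G : Type u} [Group G] [Finite G] (hG : Gr G) (K : Subgroup G) [K.Normal] (S : Subgroup (G ⧸ K))
    (hS : Sec G K S) (h7 : ¬ 7 ∣ Nat.card K) (h13 : ¬ 13 ∣ Nat.card K) (h7S : 7 ∣ Nat.card S)
    (h13S : 13 ∣ Nat.card S) {B A : Subgroup G} [hBn : B.Normal] [hAn : A.Normal] (hBA : B ≤ A) (hAK : A ≤ K)
    {t : ℕ} (ht : t.Prime) (hexp : ∀ x ∈ A, x ^ t ∈ B) (hcomm : ∀ x ∈ A, ∀ y ∈ A, x * y * x⁻¹ * y⁻¹ ∈ B)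
    (hne : ∃ z ∈ A, z ∉ B) (hcase : ∀ L : Subgroup G, L.Normal → B ≤ L → L ≤ A → L = B ∨ L = A) :
    ∀ k ∈ K, ∀ a ∈ A, k * a * k⁻¹ * a⁻¹ ∈ B := by
  classical
  by_contra hcon
  push Not at hcon
  obtain ⟨k0, hk0, a0, ha0, hka⟩ := hcon
  have hft : Fact t.Prime := ⟨ht⟩
  let f := QuotientGroup.mk' B
  have hf1 : ∀ x : G, f x = 1 ↔ x ∈ B := fun x => QuotientGroup.eq_one_iff x
  let W : Subgroup (G ⧸ B) := A.map f
  have hWn : W.Normal := Subgroup.Normal.map inferInstance f (QuotientGroup.mk'_surjective B)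
  have hab : ∀ a ∈ W, ∀ b ∈ W, a * b = b * a := by
    rintro _ ⟨x, hx, rfl⟩ _ ⟨y, hy, rfl⟩
    have h1 : f (x * y * x⁻¹ * y⁻¹) = 1 := (hf1 _).2 (hcomm x hx y hy)
    rw [map_mul, map_mul, map_mul, map_inv, map_inv, mul_inv_eq_one, mul_inv_eq_iff_eq_mul] at h1
    exact h1
  have hWexp : ∀ w : W, w ^ t = 1 := by
    rintro ⟨_, x, hx, rfl⟩
    apply Subtype.ext
    change f x ^ t = 1
    rw [← map_pow]
    exact (hf1 _).2 (hexp x hx)
  let _ : CommGroup W := { (inferInstance : Group W) with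
    mul_comm := fun a b => Subtype.ext (hab a a.2 b b.2) }
  let c : G →* MulAut W := (MulAut.conjNormal (H := W)).comp f
  have hc : ∀ (g : G) (w : W), ((c g w : W) : G ⧸ B) = f g * w * (f g)⁻¹ := fun g w => MulAut.conjNormal_apply _ _
  -- trivial action in terms of commutators
  have hc1 : ∀ g : G, c g = 1 ↔ ∀ a ∈ A, g * a * g⁻¹ * a⁻¹ ∈ B := by
    intro g
    constructor
    · intro h a ha
      have h1 := hc g ⟨f a, a, ha, rfl⟩
      rw [h] at h1
      rw [← hf1, map_mul, map_mul, map_mul, map_inv, map_inv, mul_inv_eq_one]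
      exact h1.symm
    · intro h
      apply MulEquiv.ext
      rintro ⟨_, a, ha, rfl⟩
      apply Subtype.ext
      rw [hc]
      have h1 := (hf1 _).2 (h a ha)
      rw [map_mul, map_mul, map_mul, map_inv, map_inv, mul_inv_eq_one] at h1
      exact h1
  let C : Subgroup G := c.ker ⊓ K
  have hCn : C.Normal := inferInstance
  have hBC : B ≤ C := by
    intro b hb
    refine ⟨MonoidHom.mem_ker.2 ?_, hAK (hBA hb)⟩
    rw [hc1]
    intro a ha
    have : b * a * b⁻¹ * a⁻¹ = b * (a * b⁻¹ * a⁻¹) := by group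
    rw [this]
    exact B.mul_mem hb (hBn.conj_mem _ (B.inv_mem hb) a)
  have hCK : C ≤ K := inf_le_right
  have hkC : k0 ∉ C := by
    intro h
    exact hka ((hc1 k0).1 (MonoidHom.mem_ker.1 h.1) a0 ha0)
  let g' := QuotientGroup.mk' C
  have hg1 : ∀ x : G, g' x = 1 ↔ x ∈ C := fun x => QuotientGroup.eq_one_iff x
  let M : Subgroup (G ⧸ C) := K.map g'
  have hMn : M.Normal := Subgroup.Normal.map inferInstance g' (QuotientGroup.mk'_surjective C)
  have hMne : M ≠ ⊥ := by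
    intro h
    have h1 : g' k0 ∈ M := ⟨k0, hk0, rfl⟩
    rw [h, Subgroup.mem_bot] at h1
    exact hkC ((hg1 _).1 h1)
  have hKs := hS.solK
  have hMs : Group.IsSolvable M := Group.isSolvable_of_surjective (g'.subgroupMap_surjective K)
  obtain ⟨E, r, hEn, hEM, hr, hEc, hEr, e0, he0, he01⟩ := exists_elem M hMne hMs
  have hfr : Fact r.Prime := ⟨hr⟩
  have hoe : orderOf e0 = r := orderOf_eq_prime (hEr e0 he0) he01
  let c' : (G ⧸ C) →* MulAut W := QuotientGroup.lift C c (fun x hx => MonoidHom.mem_ker.1 hx.1)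
  have hc' : ∀ g : G, c' (g' g) = c g := fun g => rfl
  have hfaith : ∀ e ∈ E, c' e = 1 → e = 1 := by
    intro e he h
    obtain ⟨k, hk, rfl⟩ := hEM he
    rw [hc'] at h
    exact (hg1 k).2 ⟨MonoidHom.mem_ker.2 h, hk⟩
  -- `r ≠ t`
  have hrt : r ≠ t := by
    rintro rfl
    have hEp : IsPGroup r E := by
      intro y
      refine ⟨1, ?_⟩
      rw [pow_one]
      exact Subtype.ext (hEr y y.2)
    let _ : MulAction E W := MulAction.compHom W (c'.comp E.subtype)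
    have hsm : ∀ (e : E) (w : W), e • w = c' e w := fun _ _ => rfl
    obtain ⟨z, hz, hzB⟩ := hne
    have hdW : r ∣ Nat.card W := by
      have h1 : orderOf (⟨f z, z, hz, rfl⟩ : W) = r := by
        refine orderOf_eq_prime (hWexp _) ?_
        intro h
        exact hzB ((hf1 z).1 (congrArg Subtype.val h))
      rw [← h1]
      exact orderOf_dvd_natCard _
    obtain ⟨b, hb, hb1⟩ := hEp.exists_fixed_point_of_prime_dvd_card_of_fixed_point W hdW (a := (1 : W)) (by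
      intro e
      rw [hsm, map_one])
    let F : Subgroup G :=
      { carrier := {a | a ∈ A ∧ ∀ g : G, g' g ∈ E → g * a * g⁻¹ * a⁻¹ ∈ B}
        one_mem' := ⟨A.one_mem, fun g _ => by simp⟩
        mul_mem' := by
          rintro a d ⟨ha, ha'⟩ ⟨hd, hd'⟩
          refine ⟨A.mul_mem ha hd, fun g hg => ?_⟩
          have : g * (a * d) * g⁻¹ * (a * d)⁻¹ = (g * a * g⁻¹ * a⁻¹) * (a * (g * d * g⁻¹ * d⁻¹) * a⁻¹) := by group
          rw [this]
          exact B.mul_mem (ha' g hg) (hBn.conj_mem _ (hd' g hg) a)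
        inv_mem' := by
          rintro a ⟨ha, ha'⟩
          refine ⟨A.inv_mem ha, fun g hg => ?_⟩
          have : g * a⁻¹ * g⁻¹ * a⁻¹⁻¹ = a⁻¹ * (g * a * g⁻¹ * a⁻¹)⁻¹ * a⁻¹⁻¹ := by group
          rw [this]
          exact hBn.conj_mem _ (B.inv_mem (ha' g hg)) a⁻¹ }
    have hFn : F.Normal := by
      refine ⟨fun a ha h => ⟨hAn.conj_mem a ha.1 h, fun g hg => ?_⟩⟩
      have h1 : g' (h⁻¹ * g * h) ∈ E := by
        rw [map_mul, map_mul, map_inv]
        have := hEn.conj_mem _ hg (g' h)⁻¹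
        rwa [inv_inv] at this
      have : g * (h * a * h⁻¹) * g⁻¹ * (h * a * h⁻¹)⁻¹ =
          h * ((h⁻¹ * g * h) * a * (h⁻¹ * g * h)⁻¹ * a⁻¹) * h⁻¹ := by group
      rw [this]
      exact hBn.conj_mem _ (ha.2 _ h1) h
    have hBF : B ≤ F := by
      intro b hb
      refine ⟨hBA hb, fun g _ => B.mul_mem (hBn.conj_mem b hb g) (B.inv_mem hb)⟩
    rcases hcase F hFn hBF (fun a ha => ha.1) with h | h
    · obtain ⟨⟨_, a, ha, rfl⟩, hb⟩ : ∃ b' : W, b' = b := ⟨b, rfl⟩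
      subst hb
      have haF : a ∈ F := by
        refine ⟨ha, fun g hg => ?_⟩
        have h1 := hb ⟨g' g, hg⟩
        rw [hsm] at h1
        have h2 : c g ⟨f a, a, ha, rfl⟩ = ⟨f a, a, ha, rfl⟩ := h1
        have h3 := hc g ⟨f a, a, ha, rfl⟩
        rw [h2] at h3
        rw [← hf1, map_mul, map_mul, map_mul, map_inv, map_inv, mul_inv_eq_one]
        exact h3.symm
      rw [h] at haF
      exact hb1 (Subtype.ext ((hf1 a).2 haF).symm)
    · apply he01
      apply hfaith e0 he0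
      obtain ⟨g, rfl⟩ := QuotientGroup.mk'_surjective C e0
      change c g = 1
      rw [hc1]
      intro a ha
      rw [← h] at ha
      exact ha.2 g he0
  -- the primes
  have htK : t ∣ Nat.card K := by
    obtain ⟨z, hz, hzB⟩ := hne
    have h1 : orderOf (f z) = t := orderOf_eq_prime (by rw [← map_pow]; exact (hf1 _).2 (hexp z hz))
      (fun h => hzB ((hf1 z).1 h))
    have h2 : orderOf (f z) ∣ orderOf z := orderOf_map_dvd f z
    rw [h1] at h2
    have h3 : orderOf z = orderOf (⟨z, hAK hz⟩ : K) := (Subgroup.orderOf_mk z (hAK hz)).symm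
    rw [h3] at h2
    exact h2.trans (orderOf_dvd_natCard _)
  have hrK : r ∣ Nat.card K := by
    obtain ⟨k, hk, hke⟩ := hEM he0
    have h2 : orderOf (g' k) ∣ orderOf k := orderOf_map_dvd g' k
    rw [hke, hoe] at h2
    have h3 : orderOf k = orderOf (⟨k, hk⟩ : K) := (Subgroup.orderOf_mk k hk).symm
    rw [h3] at h2
    exact h2.trans (orderOf_dvd_natCard _)
  have ht' := prime_cases hG h7 h13 ht htK
  have hr' := prime_cases hG h7 h13 hr hrK
  obtain ⟨s, hs, hsS, hsK, hst⟩ : ∃ s : ℕ, s.Prime ∧ s ∣ Nat.card S ∧ ¬ s ∣ Nat.card K ∧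
      ∀ g : G, orderOf g ≠ s * t := by
    rcases ht' with rfl | rfl | rfl
    · exact ⟨7, by norm_num, h7S, h7, fun g hg => hG.no14 g (hg.trans (by norm_num))⟩
    · exact ⟨13, by norm_num, h13S, h13, fun g hg => hG.no39 g (hg.trans (by norm_num))⟩
    · exact ⟨7, by norm_num, h7S, h7, fun g hg => hG.no35 g (hg.trans (by norm_num))⟩
  have hrs : r ≠ s := by
    rintro rfl
    exact hsK hrK
  have hstne : s ≠ t := by
    rintro rfl
    exact hsK htK
  -- elements of order `s` centralize `E`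
  let ρ : (G ⧸ C) →* AddMonoid.End (Additive W) := (toEnd W).comp c'
  have hcent : ∀ x : G ⧸ C, orderOf x = s → ∀ e ∈ E, x * e = e * x := by
    intro x hx
    refine frob_case ρ E hEc hr hs ht hEr hrs hrt (by rw [← hx, pow_orderOf_eq_one]) ?_ (fun v => hWexp v.toMul) ?_
    · intro v hv
      obtain ⟨g, rfl⟩ := QuotientGroup.mk'_surjective C x
      have h1 : c g v.toMul = v.toMul := hv
      have h2 : f g * (v.toMul : W) * (f g)⁻¹ = (v.toMul : W) := by rw [← hc, h1]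
      have h3 : Commute (f g) ((v.toMul : W) : G ⧸ B) := mul_inv_eq_iff_eq_mul.1 h2
      by_contra hv0
      have hv1 : (v.toMul : W) ≠ 1 := hv0
      have h4 : t ∣ orderOf ((v.toMul : W) : G ⧸ B) := by
        rw [Subgroup.orderOf_coe, orderOf_eq_prime (hWexp _) hv1]
      have h5 : s ∣ orderOf (f g) := by
        rw [← hx]
        let φ : G ⧸ B →* G ⧸ C := QuotientGroup.map B C (MonoidHom.id G) hBC
        have h6 : φ (f g) = QuotientGroup.mk' C g := rfl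
        rw [← h6]
        exact orderOf_map_dvd φ (f g)
      obtain ⟨y, hy⟩ := exists_mul_order h3 hs ht hstne h5 h4
      obtain ⟨u, hu, -⟩ := orderOf_lift f (QuotientGroup.mk'_surjective B) y
      exact hst u (hu.trans hy)
    · intro e he h
      apply hfaith e he
      apply MulEquiv.ext
      intro w
      exact h (Additive.ofMul w)
  -- the centralizer of `E` covers `S`
  let D : Subgroup (G ⧸ C) := Subgroup.centralizer (E : Set (G ⧸ C))
  have hDn : D.Normal := inferInstance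
  let π : G ⧸ C →* G ⧸ K := QuotientGroup.map C K (MonoidHom.id G) hCK
  have hπ : Function.Surjective π := by
    intro y
    obtain ⟨g, rfl⟩ := QuotientGroup.mk'_surjective K y
    exact ⟨g' g, rfl⟩
  have hπk : ∀ y, π y = 1 → y ∈ M := by
    intro y hy
    obtain ⟨g, rfl⟩ := QuotientGroup.mk'_surjective C y
    exact ⟨g, (QuotientGroup.eq_one_iff g).1 hy, rfl⟩
  have hMK : Nat.card M ∣ Nat.card K := Subgroup.card_dvd_of_surjective _ (g'.subgroupMap_surjective K)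
  have hSsimple := hS.simple
  have hSD : S ≤ D.map π := by
    have hSn := hS.normal
    have hDπ : (D.map π).Normal := Subgroup.Normal.map hDn π hπ
    have hfs : Fact s.Prime := ⟨hs⟩
    obtain ⟨σ, hσ⟩ := exists_prime_orderOf_dvd_card' s hsS
    obtain ⟨y, hy, n, hn⟩ := orderOf_lift π hπ ((σ : S) : G ⧸ K)
    rw [Subgroup.orderOf_coe, hσ] at hy
    have hyD : y ∈ D := by
      rw [Subgroup.mem_centralizer_iff]
      exact fun e he => (hcent y hy e he).symm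
    have hy1 : π y ≠ 1 := by
      intro h
      have h1 := hπk y h
      apply hsK
      have h3 : orderOf y = orderOf (⟨y, h1⟩ : M) := (Subgroup.orderOf_mk y h1).symm
      rw [← hy, h3]
      exact (orderOf_dvd_natCard _).trans hMK
    rcases hSsimple.eq_bot_or_eq_top_of_normal ((D.map π).subgroupOf S) inferInstance with h | h
    · exfalso
      have h2 : σ ^ n ∈ (D.map π).subgroupOf S := by
        rw [Subgroup.mem_subgroupOf]
        exact ⟨y, hyD, hn⟩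
      rw [h, Subgroup.mem_bot] at h2
      apply hy1
      rw [hn]
      exact congrArg Subtype.val h2
    · exact Subgroup.subgroupOf_eq_top.1 h
  have key : ∀ q : ℕ, q.Prime → q ∣ Nat.card S → q ≠ r → ∃ g : G, orderOf g = q * r := by
    intro q hq hqS hqr
    have hfq : Fact q.Prime := ⟨hq⟩
    obtain ⟨τ, hτ⟩ := exists_prime_orderOf_dvd_card' q hqS
    obtain ⟨d, hd, hdτ⟩ := hSD τ.2
    have h1 : q ∣ orderOf d := by
      have h2 := orderOf_map_dvd π d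
      rw [hdτ, Subgroup.orderOf_coe, hτ] at h2
      exact h2
    have h3 : Commute d e0 := ((Subgroup.mem_centralizer_iff.1 hd) e0 he0).symm
    obtain ⟨y, hy⟩ := exists_mul_order h3 hq hr hqr h1 (by rw [hoe])
    obtain ⟨u, hu, -⟩ := orderOf_lift g' (QuotientGroup.mk'_surjective C) y
    exact ⟨u, hu.trans hy⟩
  obtain ⟨g7, hg7⟩ := key 7 (by norm_num) h7S (by rintro rfl; exact h7 hrK)
  obtain ⟨g13, hg13⟩ := key 13 (by norm_num) h13S (by rintro rfl; exact h13 hrK)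
  rcases hr' with rfl | rfl | rfl
  · exact hG.no14 g7 (hg7.trans (by norm_num))
  · exact hG.no39 g13 (hg13.trans (by norm_num))
  · exact hG.no35 g7 (hg7.trans (by norm_num))

/-- the module of a section on which `K` acts trivially -/
theorem exists_module {G : Type u} [Group G] [Finite G] (K : Subgroup G) [K.Normal] {B A : Subgroup G}
    [hBn : B.Normal] [hAn : A.Normal] (hAK : A ≤ K) (hBA : B ≤ A) {t : ℕ} (ht : t.Prime)
    (hexp : ∀ x ∈ A, x ^ t ∈ B) (hcomm : ∀ x ∈ A, ∀ y ∈ A, x * y * x⁻¹ * y⁻¹ ∈ B)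
    (htriv : ∀ k ∈ K, ∀ a ∈ A, k * a * k⁻¹ * a⁻¹ ∈ B) {z : G} (hz : z ∈ A) (hzB : z ∉ B) :
    ∃ (V : Type u) (_ : AddCommGroup V) (_ : Nontrivial V) (_ : Finite V) (ρ : G ⧸ K →* AddMonoid.End V),
      (∀ v : V, t • v = 0) ∧
      (∀ r : ℕ, r.Prime → r ≠ t → (∀ g : G, orderOf g ≠ r * t) → ∀ x : G ⧸ K, orderOf x = r →
        ∀ v, ρ x v = v → v = 0) ∧
      ∀ g : G, g * z = z * g → ∃ v : V, v ≠ 0 ∧ ρ (g : G ⧸ K) v = v := by
  classical
  let f := QuotientGroup.mk' B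
  have hf1 : ∀ x : G, f x = 1 ↔ x ∈ B := fun x => QuotientGroup.eq_one_iff x
  let W : Subgroup (G ⧸ B) := A.map f
  have hWn : W.Normal := Subgroup.Normal.map inferInstance f (QuotientGroup.mk'_surjective B)
  have hab : ∀ a ∈ W, ∀ b ∈ W, a * b = b * a := by
    rintro _ ⟨x, hx, rfl⟩ _ ⟨y, hy, rfl⟩
    have h1 : f (x * y * x⁻¹ * y⁻¹) = 1 := (hf1 _).2 (hcomm x hx y hy)
    rw [map_mul, map_mul, map_mul, map_inv, map_inv, mul_inv_eq_one, mul_inv_eq_iff_eq_mul] at h1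
    exact h1
  have hWexp : ∀ w : W, w ^ t = 1 := by
    rintro ⟨_, x, hx, rfl⟩
    apply Subtype.ext
    change f x ^ t = 1
    rw [← map_pow]
    exact (hf1 _).2 (hexp x hx)
  let _ : CommGroup W := { (inferInstance : Group W) with
    mul_comm := fun a b => Subtype.ext (hab a a.2 b b.2) }
  let c : G →* MulAut W := (MulAut.conjNormal (H := W)).comp f
  have hc : ∀ (g : G) (w : W), ((c g w : W) : G ⧸ B) = f g * w * (f g)⁻¹ := fun g w => MulAut.conjNormal_apply _ _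
  have hker : ∀ k ∈ K, c k = 1 := by
    intro k hk
    apply MulEquiv.ext
    rintro ⟨_, a, ha, rfl⟩
    apply Subtype.ext
    rw [hc]
    have h1 := (hf1 _).2 (htriv k hk a ha)
    rw [map_mul, map_mul, map_mul, map_inv, map_inv, mul_inv_eq_one] at h1
    exact h1
  let w0 : W := ⟨f z, z, hz, rfl⟩
  have hw0 : w0 ≠ 1 := fun h => hzB ((hf1 z).1 (congrArg Subtype.val h))
  have hWnt : Nontrivial W := ⟨w0, 1, hw0⟩
  let ρ : G ⧸ K →* AddMonoid.End (Additive W) := (toEnd W).comp (QuotientGroup.lift K c hker)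
  refine ⟨Additive W, inferInstance, inferInstance, inferInstance, ρ, fun v => hWexp v.toMul, ?_, ?_⟩
  · intro r hr hrt hno x hx v hv
    obtain ⟨g, rfl⟩ := QuotientGroup.mk'_surjective K x
    have h1 : c g (Additive.toMul v) = Additive.toMul v := hv
    have h2 : f g * (Additive.toMul v : W) * (f g)⁻¹ = (Additive.toMul v : W) := by
      rw [← hc, h1]
    have h3 : Commute (f g) ((Additive.toMul v : W) : G ⧸ B) := mul_inv_eq_iff_eq_mul.1 h2
    by_contra hne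
    have hne' : (Additive.toMul v : W) ≠ 1 := hne
    have h4 : t ∣ orderOf ((Additive.toMul v : W) : G ⧸ B) := by
      have : Fact t.Prime := ⟨ht⟩
      rw [Subgroup.orderOf_coe, orderOf_eq_prime (hWexp _) hne']
    have h5 : r ∣ orderOf (f g) := by
      rw [← hx]
      let φ : G ⧸ B →* G ⧸ K := QuotientGroup.map B K (MonoidHom.id G) (hBA.trans hAK)
      have h6 : φ (f g) = QuotientGroup.mk' K g := rfl
      rw [← h6]
      exact orderOf_map_dvd φ (f g)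
    obtain ⟨y, hy⟩ := exists_mul_order h3 hr ht hrt h5 h4
    obtain ⟨u, hu, -⟩ := orderOf_lift f (QuotientGroup.mk'_surjective B) y
    exact hno u (hu.trans hy)
  · intro g hg
    refine ⟨Additive.ofMul w0, hw0, ?_⟩
    change Additive.ofMul (c g w0) = Additive.ofMul w0
    congr 1
    apply Subtype.ext
    rw [hc]
    change f g * f z * (f g)⁻¹ = f z
    rw [← map_mul, hg, map_mul, mul_inv_cancel_right]

/-- **Modules for `G ⧸ K` in each characteristic dividing `|K|`.** -/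
theorem chief {G : Type u} [Group G] [Finite G] (hG : Gr G) (K : Subgroup G) [K.Normal] (S : Subgroup (G ⧸ K))
    (hS : Sec G K S) (h7 : ¬ 7 ∣ Nat.card K) (h13 : ¬ 13 ∣ Nat.card K) (h7S : 7 ∣ Nat.card S)
    (h13S : 13 ∣ Nat.card S) {t : ℕ} (ht : t.Prime) (htK : t ∣ Nat.card K) :
    ∃ (V : Type u) (_ : AddCommGroup V) (_ : Nontrivial V) (_ : Finite V) (ρ : G ⧸ K →* AddMonoid.End V),
      (∀ v : V, t • v = 0) ∧ ∀ r : ℕ, r.Prime → r ≠ t → (∀ g : G, orderOf g ≠ r * t) → ∀ x : G ⧸ K, orderOf x = r →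
        ∀ v, ρ x v = v → v = 0 := by
  have hft : Fact t.Prime := ⟨ht⟩
  obtain ⟨z, hz⟩ := exists_prime_orderOf_dvd_card' t htK
  have hzo : orderOf (z : G) = t := by rw [Subgroup.orderOf_coe, hz]
  obtain ⟨B, A, hB, hA, hBA, hAK, hexp, hcomm, hzA, hzB, hcase⟩ := exists_chief K hS.solK ht z.2 hzo
  have htriv := acts hG K S hS h7 h13 h7S h13S hBA hAK ht hexp hcomm ⟨z, hzA, hzB⟩ hcase
  obtain ⟨V, i1, i2, i3, ρ, h1, h2, -⟩ := exists_module K hAK hBA ht hexp hcomm htriv hzA hzB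
  exact ⟨V, i1, i2, i3, ρ, h1, h2⟩

end Cfsg.Agent.H413.U45.Chief
end

-- part: H380/UF/AutL13
section
/-!
# `|Out(PSL₂(13))| ∣ 2`
-/

set_option autoImplicit false

namespace Cfsg.Agent.H380.UF.AutL13

open Cfsg Matrix Cfsg.Agent.H380.UF

universe u

theorem index_dvd {X : Type u} [Group X] [Finite X] (S : Subgroup X) [S.Normal]
    (hS : Cfsg.Agent.OrdDiv.Real (.psl 2 13) S) (hC : Subgroup.centralizer (S : Set X) = ⊥) : S.index ∣ 2 := by
  obtain ⟨F, _, _, hF, ⟨e⟩⟩ := hS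
  have : Fact (Nat.Prime 13) := ⟨by norm_num⟩
  have hfin : Finite (ProjectiveSpecialLinearGroup (Fin 2) F) := by
    unfold ProjectiveSpecialLinearGroup
    infer_instance
  have h1 := AutLib.card_dvd S e hC
  have h2 := Cfsg.Agent.S0813.result (F := F) 13 1 le_rfl (hF.trans (by norm_num)) 2 le_rfl (fun _ => by norm_num)
  rw [if_pos rfl, one_mul, one_mul] at h2
  have h3 : Nat.card (ProjGenLinGroup (Fin 2) F) * (Fintype.card F - 1) = Nat.card (GL (Fin 2) F) :=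
    Cfsg.Agent.ClassicalGeometry.PSL2Basic.card_PGL_mul (Fin 2) F
  rw [Matrix.card_GL_field, hF] at h3
  have h4 : Nat.card (ProjGenLinGroup (Fin 2) F) = 2184 := by
    rw [Fin.prod_univ_two] at h3
    norm_num only [_root_.Fin.coe_ofNat_eq_mod, _root_.pow_zero, _root_.Nat.add_one_sub_one, _root_.pow_one] at h3
    omega
  have h5 : Nat.card S = 1092 := by
    have h6 := Cfsg.Agent.S0243.result (F := F) hF 2 le_rfl
    rw [← Nat.card_congr e.toEquiv, Fin.prod_univ_two] at h6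
    norm_num only [_root_.Fin.coe_ofNat_eq_mod, _root_.pow_zero, _root_.Nat.add_one_sub_one, _root_.pow_one] at h6
    omega
  rw [h2, h4, h5] at h1
  exact Nat.dvd_of_mul_dvd_mul_left (by norm_num) (by simpa only [_root_.Nat.reduceMul] using h1 : 1092 * S.index ∣ 1092 * 2)

end Cfsg.Agent.H380.UF.AutL13
end

-- part: H413/U45/ExclL
section
/-!
# Groups with the prime graph of `PSU(4,5)`: the socle is not `L₂(13)` (helper413)
-/

set_option autoImplicit false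

namespace Cfsg.Agent.H413.U45.ExclL

universe u

/-- at most one of 5, 7, 13 divides `|K| |G/K : S|` -/
theorem one_prime {G : Type u} [Group G] [Finite G] (h : Gr G) {K : Subgroup G} [K.Normal] {S : Subgroup (G ⧸ K)}
    (hs : Sec G K S) {r s : ℕ} (hr : r ∈ ({5, 7, 13} : Finset ℕ)) (hs' : s ∈ ({5, 7, 13} : Finset ℕ))
    (hrd : r ∣ Nat.card K * S.index) (hsd : s ∣ Nat.card K * S.index) : r = s := by
  classical
  have hSn := hs.normal
  let φ : G →* (G ⧸ K) ⧸ S := (QuotientGroup.mk' S).comp (QuotientGroup.mk' K)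
  have hφ : Function.Surjective φ := (QuotientGroup.mk'_surjective S).comp (QuotientGroup.mk'_surjective K)
  have hKM : K ≤ φ.ker := by
    intro k hk
    rw [MonoidHom.mem_ker]
    change QuotientGroup.mk' S (QuotientGroup.mk' K k) = 1
    rw [show QuotientGroup.mk' K k = 1 from (QuotientGroup.eq_one_iff k).2 hk, map_one]
  have hsol : Group.IsSolvable (G ⧸ φ.ker) := by
    have := hs.solQ hSn
    exact Group.isSolvable_of_isSolvable_injective (QuotientGroup.kerLift_injective φ)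
  have hidx : φ.ker.index = S.index := by
    rw [Subgroup.index_ker, MonoidHom.range_eq_top.2 hφ, Subgroup.card_top, ← Subgroup.index_eq_card]
  refine Cfsg.Agent.H421.Coclique.coclique_sections K φ.ker hKM hs.solK hsol {5, 7, 13} (by decide) ?_ ?_ hr hs'
    (by rw [hidx]; exact hrd) (by rw [hidx]; exact hsd)
  · intro x hx
    simp only [Finset.mem_insert, Finset.mem_singleton] at hx
    rcases hx with rfl | rfl | rfl
    · exact ⟨by norm_num, (h.primes 5 (by norm_num)).2 (by norm_num)⟩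
    · exact ⟨by norm_num, (h.primes 7 (by norm_num)).2 (by norm_num)⟩
    · exact ⟨by norm_num, (h.primes 13 (by norm_num)).2 (by norm_num)⟩
  · intro x hx y hy hxy
    simp only [Finset.mem_insert, Finset.mem_singleton] at hx hy
    rintro ⟨g, hg⟩
    rcases hx with rfl | rfl | rfl <;> rcases hy with rfl | rfl | rfl
    · exact hxy rfl
    · exact h.no35 g hg
    · exact h.no65 g hg
    · exact h.no35 g (by rw [hg, mul_comm])
    · exact hxy rfl
    · exact h.no91 g hg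
    · exact h.no65 g (by rw [hg, mul_comm])
    · exact h.no91 g (by rw [hg, mul_comm])
    · exact hxy rfl

theorem card_eq {G : Type u} [Group G] [Finite G] (K : Subgroup G) [K.Normal] (S : Subgroup (G ⧸ K)) :
    Nat.card G = Nat.card K * (Nat.card S * S.index) := by
  rw [S.card_mul_index]
  exact (Subgroup.card_eq_card_quotient_mul_card_subgroup K).trans (mul_comm _ _)

theorem no_psl213 {G : Type u} [Group G] [Finite G] (hG : Gr G) (K : Subgroup G) [K.Normal] (S : Subgroup (G ⧸ K))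
    (hS : Sec G K S) : ¬ Cfsg.Agent.OrdDiv.Real (.psl 2 13) S := by
  intro hR
  have hSn := hS.normal
  have hcS : Nat.card S = 1092 := by
    obtain ⟨F, _, _, hF, ⟨e⟩⟩ := hR
    have h6 := Cfsg.Agent.S0243.result (F := F) hF 2 le_rfl
    rw [← Nat.card_congr e.toEquiv, Fin.prod_univ_two] at h6
    norm_num only [_root_.Fin.coe_ofNat_eq_mod, _root_.pow_zero, _root_.Nat.add_one_sub_one, _root_.pow_one] at h6
    omega
  have hidx : S.index ∣ 2 := Cfsg.Agent.H380.UF.AutL13.index_dvd S hR hS.cent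
  have hp5 : Nat.Prime 5 := by norm_num
  have h5 : 5 ∣ Nat.card K := by
    have h1 : 5 ∣ Nat.card G := (hG.primes 5 hp5).2 (by norm_num)
    rw [card_eq K S, hcS] at h1
    rcases hp5.dvd_mul.1 h1 with h | h
    · exact h
    · rcases hp5.dvd_mul.1 h with h | h
      · revert h; norm_num only [_root_.IsEmpty.forall_iff]
      · have := h.trans hidx
        revert this; norm_num only [_root_.IsEmpty.forall_iff]
  have h7 : ¬ 7 ∣ Nat.card K := fun h => absurd (one_prime hG hS (r := 5) (s := 7) (by decide) (by decide)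
    (h5.mul_right _) (h.mul_right _)) (by norm_num)
  have h13 : ¬ 13 ∣ Nat.card K := fun h => absurd (one_prime hG hS (r := 5) (s := 13) (by decide) (by decide)
    (h5.mul_right _) (h.mul_right _)) (by norm_num)
  obtain ⟨V, _, hVn, _, ρ, hexp, hfpf⟩ := Chief.chief hG K S hS h7 h13 (by rw [hcS]; norm_num) (by rw [hcS]; norm_num)
    hp5 h5
  have key := Cfsg.Agent.H422.LTwoThirteen.zero_of_real hR (ρ.comp S.subtype) hexp
    (fun g hg => hfpf 7 (by norm_num) (by norm_num) (fun x hx => hG.no35 x (hx.trans (by norm_num))) _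
      (by rw [Subgroup.coe_subtype, Subgroup.orderOf_coe, hg]))
    (fun g hg => hfpf 13 (by norm_num) (by norm_num) (fun x hx => hG.no65 x (hx.trans (by norm_num))) _
      (by rw [Subgroup.coe_subtype, Subgroup.orderOf_coe, hg]))
  obtain ⟨a, b, hab⟩ := hVn.exists_pair_ne
  exact hab ((key a).trans (key b).symm)

end Cfsg.Agent.H413.U45.ExclL
end

private theorem dce_e802999c0c61 : _root_.True := by
  try have : _root_.True := by simp only [_root_.Matrix.ProjGenLinGroup.congr_simp]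
  exact _root_.True.intro
end
end
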